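import Mathlib

/-!
Toolkit for showing that a finite group of given order is not simple.
-/

namespace Cfsg.Lib.Small

open MulAction Equiv
open scoped Pointwise

variable {G : Type*} [Group G] [Finite G]

/-- A group whose order is neither one nor a prime and which is simple is not commutative. -/
theorem not_comm_of_isSimple [IsSimpleGroup G] (h : ¬ (Nat.card G).Prime) :
    ¬ ∀ a b : G, a * b = b * a := by
  intro hc
  let _ : CommGroup G := { ‹Group G› with mul_comm := hc }
  exact h IsSimpleGroup.prime_card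

theorem center_eq_bot_of_not_comm [IsSimpleGroup G] (hnc : ¬ ∀ a b : G, a * b = b * a) :
    Subgroup.center G = ⊥ := by
  rcases (inferInstance : (Subgroup.center G).Normal).eq_bot_or_eq_top with h | h
  · exact h
  · exact absurd (fun a b => (Subgroup.mem_center_iff.1 (h ▸ Subgroup.mem_top b) a)) hnc

theorem centralizer_ne_top [IsSimpleGroup G] (hnc : ¬ ∀ a b : G, a * b = b * a) {u : G} (hu : u ≠ 1) :
    Subgroup.centralizer ({u} : Set G) ≠ ⊤ := by
  intro h
  refine hu ((Subgroup.eq_bot_iff_forall _).1 (center_eq_bot_of_not_comm hnc) u ?_)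
  rw [Subgroup.mem_center_iff]
  intro g
  exact Subgroup.mem_centralizer_singleton_iff.1 (h ▸ Subgroup.mem_top g)

theorem eq_one_of_monoidHom [IsSimpleGroup G] (hnc : ¬ ∀ a b : G, a * b = b * a) {A : Type*} [CommGroup A]
    (φ : G →* A) (g : G) : φ g = 1 := by
  rcases φ.normal_ker.eq_bot_or_eq_top with h | h
  · exact absurd (fun a b => (MonoidHom.ker_eq_bot_iff φ).1 h (by simp [mul_comm])) hnc
  · exact MonoidHom.mem_ker.1 (h ▸ Subgroup.mem_top g)

/-- In a non-abelian simple group every permutation action is by even permutations. -/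
theorem sign_toPerm [IsSimpleGroup G] (hnc : ¬ ∀ a b : G, a * b = b * a) (α : Type*) [MulAction G α]
    [Fintype α] [DecidableEq α] (g : G) : Perm.sign (MulAction.toPermHom G α g) = 1 :=
  eq_one_of_monoidHom hnc (Perm.sign.comp (MulAction.toPermHom G α)) g

/-- The action on the cosets of a proper subgroup embeds a non-abelian simple group in an alternating group. -/
theorem exists_hom_alternating_index [IsSimpleGroup G] (hnc : ¬ ∀ a b : G, a * b = b * a) (H : Subgroup G)
    (hH : H ≠ ⊤) :
    ∃ f : G →* alternatingGroup (Fin H.index), Function.Injective f := by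
  classical
  let e : (G ⧸ H) ≃ Fin H.index := Finite.equivFinOfCardEq rfl
  let _ : MulAction G (Fin H.index) :=
    MulAction.compHom _ (e.permCongrHom.toMonoidHom.comp (MulAction.toPermHom G (G ⧸ H)))
  refine ⟨(MulAction.toPermHom G (Fin H.index)).codRestrict _ fun g =>
    Perm.mem_alternatingGroup.2 (sign_toPerm hnc _ g), ?_⟩
  intro a b hab
  have h1 : MulAction.toPermHom G (Fin H.index) a = MulAction.toPermHom G (Fin H.index) b :=
    congrArg Subtype.val hab
  rcases ((MulAction.toPermHom G (Fin H.index)).normal_ker).eq_bot_or_eq_top with h | h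
  · exact (MonoidHom.ker_eq_bot_iff _).1 h h1
  · refine absurd ((Subgroup.eq_top_iff' H).2 fun g => ?_) hH
    have h2 : MulAction.toPermHom G (Fin H.index) g = 1 := MonoidHom.mem_ker.1 (h ▸ Subgroup.mem_top g)
    have h3 := Equiv.ext_iff.1 h2 (e ((1 : G) : G ⧸ H))
    change (e.permCongr (MulAction.toPermHom G (G ⧸ H) g)) _ = _ at h3
    rw [Equiv.permCongr_apply, Equiv.symm_apply_apply, Perm.coe_one, id_eq,
      EmbeddingLike.apply_eq_iff_eq] at h3
    change ((g * 1 : G) : G ⧸ H) = ((1 : G) : G ⧸ H) at h3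
    rw [mul_one, QuotientGroup.eq, mul_one, inv_mem_iff] at h3
    exact h3

/-- Twice the order of a non-abelian simple group divides the factorial of each proper index. -/
theorem two_mul_card_dvd_index_factorial [IsSimpleGroup G] (hnc : ¬ ∀ a b : G, a * b = b * a)
    (H : Subgroup G) (hH : H ≠ ⊤) : 2 * Nat.card G ∣ H.index.factorial := by
  obtain ⟨f, hf⟩ := exists_hom_alternating_index hnc H hH
  have h1 : 1 < H.index := by
    have h0 : H.index ≠ 0 := Subgroup.index_ne_zero_of_finite
    have h1 : H.index ≠ 1 := fun e => hH (Subgroup.index_eq_one.1 e)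
    omega
  have : Nontrivial (Fin H.index) := Fin.nontrivial_iff_two_le.2 h1
  have h2 := mul_dvd_mul_left 2 (Subgroup.card_dvd_of_injective f hf)
  rwa [two_mul_nat_card_alternatingGroup, Nat.card_perm, Nat.card_fin] at h2

section Sylow

variable {p : ℕ} [Fact p.Prime]

theorem card_normalizer_mul (P : Sylow p G) :
    Nat.card ↥(Subgroup.normalizer ((P : Subgroup G) : Set G)) * Nat.card (Sylow p G) = Nat.card G := by
  rw [show Nat.card (Sylow p G) = (Subgroup.normalizer ((P : Subgroup G) : Set G)).index from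
    P.card_eq_index_normalizer, Subgroup.card_mul_index]

theorem card_sylow_dvd (P : Sylow p G) : Nat.card (Sylow p G) * Nat.card ↥(P : Subgroup G) ∣ Nat.card G :=
  Dvd.intro_left _ (card_normalizer_mul P) |> fun _ => by
    rw [← card_normalizer_mul P, mul_comm (Nat.card ↥(Subgroup.normalizer _))]
    exact Nat.mul_dvd_mul_left _ (Subgroup.card_dvd_of_le Subgroup.le_normalizer)

theorem card_sylow_of_factor (P : Sylow p G) {a m : ℕ} (h : Nat.card G = p ^ a * m) (hm : ¬ p ∣ m) :
    Nat.card ↥(P : Subgroup G) = p ^ a := by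
  have hp : p.Prime := Fact.out
  rw [Sylow.card_eq_multiplicity, h, Nat.factorization_mul (pow_ne_zero a hp.ne_zero) (fun e => hm (by rw [e]; exact dvd_zero p)),
    Finsupp.add_apply, hp.factorization_pow, Finsupp.single_eq_same, Nat.factorization_eq_zero_of_not_dvd hm, add_zero]

theorem sylow_facts (P : Sylow p G) {a m : ℕ} (h : Nat.card G = p ^ a * m) (hm : ¬ p ∣ m) :
    Nat.card (Sylow p G) ∣ m ∧ Nat.card (Sylow p G) % p = 1 := by
  refine ⟨?_, ?_⟩
  · have h1 := card_sylow_dvd P
    rw [card_sylow_of_factor P h hm, h, mul_comm (Nat.card _)] at h1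
    exact Nat.dvd_of_mul_dvd_mul_left (pow_pos (Fact.out : p.Prime).pos a) h1
  · have h1 : Nat.card (Sylow p G) % p = 1 % p := card_sylow_modEq_one p G
    rwa [Nat.mod_eq_of_lt (Fact.out : p.Prime).one_lt] at h1

theorem card_sylow_ne_one [IsSimpleGroup G] (hnc : ¬ ∀ a b : G, a * b = b * a) (hp : p ∣ Nat.card G) :
    Nat.card (Sylow p G) ≠ 1 := by
  intro h
  obtain ⟨P⟩ : Nonempty (Sylow p G) := Sylow.nonempty
  have : Subsingleton (Sylow p G) := (Nat.card_eq_one_iff_unique.1 h).1
  rcases (Sylow.normal_of_subsingleton P).eq_bot_or_eq_top with hP | hP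
  · exact P.ne_bot_of_dvd_card hp hP
  · have : Nontrivial G := inferInstance
    have hc := (P.2 : IsPGroup p ↥(P : Subgroup G))
    rw [hP] at hc
    have := (hc.of_equiv Subgroup.topEquiv).center_nontrivial
    exact (Subgroup.nontrivial_iff_ne_bot _).1 this (center_eq_bot_of_not_comm hnc)

/-- Burnside: in a non-abelian simple group no Sylow subgroup is centralised by its normaliser. -/
theorem not_normalizer_le_centralizer [IsSimpleGroup G] (hnc : ¬ ∀ a b : G, a * b = b * a) (hp : p ∣ Nat.card G)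
    (P : Sylow p G) :
    ¬ Subgroup.normalizer ((P : Subgroup G) : Set G) ≤ Subgroup.centralizer ((P : Subgroup G) : Set G) := by
  intro hle
  have hcompl := MonoidHom.ker_transferSylow_isComplement' P hle
  rcases (MonoidHom.transferSylow P hle).normal_ker.eq_bot_or_eq_top with h | h
  · rw [h, Subgroup.isComplement'_bot_left] at hcompl
    refine hnc fun a b => ?_
    exact Subgroup.mem_centralizer_iff.1 (hle (Subgroup.le_normalizer (show b ∈ (P : Subgroup G) by
      rw [hcompl]; trivial))) a (show a ∈ (P : Subgroup G) by rw [hcompl]; trivial)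
  · rw [h, Subgroup.isComplement'_top_left] at hcompl
    exact P.ne_bot_of_dvd_card hp hcompl

theorem toPermHom_sylow_injective [IsSimpleGroup G] (hnc : ¬ ∀ a b : G, a * b = b * a) (hp : p ∣ Nat.card G) :
    Function.Injective (MulAction.toPermHom G (Sylow p G)) := by
  rw [← MonoidHom.ker_eq_bot_iff]
  rcases (MulAction.toPermHom G (Sylow p G)).normal_ker.eq_bot_or_eq_top with h | h
  · exact h
  · refine absurd (Nat.card_eq_one_iff_unique.2 ⟨⟨fun X Y => ?_⟩, Sylow.nonempty⟩) (card_sylow_ne_one hnc hp)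
    obtain ⟨g, rfl⟩ := exists_smul_eq G X Y
    have h1 : MulAction.toPermHom G (Sylow p G) g = 1 := MonoidHom.mem_ker.1 (by rw [h]; trivial)
    exact (Equiv.ext_iff.1 h1 X).symm

omit [Finite G] in
/-- A nontrivial element of a Sylow subgroup of prime order fixes only that one. -/
theorem sylow_fixed_eq {P Q : Sylow p G} [Finite G] (hP : Nat.card ↥(P : Subgroup G) = p) {x : G}
    (hx : x ∈ (P : Subgroup G)) (hx1 : x ≠ 1) (h : x • Q = Q) : Q = P := by
  have h2 : x ∈ (P : Subgroup G) ⊓ Q := by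
    rw [← P.2.inf_normalizer_sylow Q]
    exact ⟨hx, Sylow.smul_eq_iff_mem_normalizer.1 h⟩
  have h3 : Nat.card ↥((P : Subgroup G) ⊓ Q) = p := by
    rcases (Nat.dvd_prime (Fact.out : p.Prime)).1 (hP ▸ Subgroup.card_dvd_of_le inf_le_left) with h | h
    · exact absurd ((Subgroup.eq_bot_iff_forall _).1 (Subgroup.card_eq_one.1 h) x h2) hx1
    · exact h
  have hQ : Nat.card ↥(Q : Subgroup G) = p := (Nat.card_congr (Q.equiv P).toEquiv).trans hP
  exact Sylow.ext ((Subgroup.eq_of_le_of_card_ge inf_le_right (by rw [h3, hQ])).symm.trans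
    (Subgroup.eq_of_le_of_card_ge inf_le_left (by rw [h3, hP])))

/-- An element centralising a Sylow subgroup of order `p` moves a multiple of `p` Sylow subgroups. -/
theorem dvd_support_of_centralizer [Fintype (Sylow p G)] [DecidableEq (Sylow p G)] {P : Sylow p G}
    (hP : Nat.card ↥(P : Subgroup G) = p) {g : G}
    (hg : g ∈ Subgroup.centralizer ((P : Subgroup G) : Set G)) :
    p ∣ (MulAction.toPermHom G (Sylow p G) g).support.card ∧
      P ∉ (MulAction.toPermHom G (Sylow p G) g).support := by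
  have hp : p.Prime := Fact.out
  obtain ⟨x, hx⟩ := exists_prime_orderOf_dvd_card' (G := ↥(P : Subgroup G)) p (by rw [hP])
  have hgP : g • P = P := Sylow.smul_eq_iff_mem_normalizer.2 (Subgroup.centralizer_le_normalizer _ hg)
  set σ := MulAction.toPermHom G (Sylow p G) g with hσ
  set τ := MulAction.toPermHom G (Sylow p G) (x : G) with hτ
  have hPs : P ∉ σ.support := fun h => Perm.mem_support.1 h hgP
  refine ⟨?_, hPs⟩
  have hinv : ∀ Q, τ Q ∈ σ.support ↔ Q ∈ σ.support := fun Q => by
    rw [Perm.mem_support, Perm.mem_support]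
    change g • (x : G) • Q ≠ (x : G) • Q ↔ g • Q ≠ Q
    rw [← mul_smul, ← Subgroup.mem_centralizer_iff.1 hg x x.2, mul_smul]
    exact not_congr (smul_left_cancel_iff _)
  by_contra hnd
  obtain ⟨⟨Q, hQs⟩, hQ⟩ := Perm.exists_fixed_point_of_prime (p := p) (n := 1)
    (α := {Q // Q ∈ σ.support}) (by rwa [Fintype.card_coe])
    (σ := τ.subtypePerm hinv) (by
      rw [Perm.subtypePerm_pow]
      ext Q : 2
      change (τ ^ (p ^ 1)) Q.1 = Q.1
      rw [hτ, ← map_pow, pow_one, ← Subgroup.coe_pow, orderOf_dvd_iff_pow_eq_one.1 (dvd_of_eq hx), Subgroup.coe_one, map_one]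
      rfl)
  have hQ' : (x : G) • Q = Q := congrArg Subtype.val hQ
  refine hPs (sylow_fixed_eq hP x.2 (fun h => ?_) hQ' ▸ hQs)
  rw [Subtype.ext (a2 := (1 : ↥(P : Subgroup G))) h, orderOf_one] at hx
  exact hp.one_lt.ne' hx.symm

/-- An element of prime order `r` centralising a Sylow subgroup of order `p ≠ r` moves a multiple of `p * r`
Sylow subgroups, evenly. -/
theorem support_of_prime_centralizer [IsSimpleGroup G] [Fintype (Sylow p G)] [DecidableEq (Sylow p G)]
    (hnc : ¬ ∀ a b : G, a * b = b * a) (hp : p ∣ Nat.card G) {P : Sylow p G}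
    (hP : Nat.card ↥(P : Subgroup G) = p) {r : ℕ} (hr : r.Prime) (hrp : r ≠ p) {g : G} (hgr : orderOf g = r)
    (hg : g ∈ Subgroup.centralizer ((P : Subgroup G) : Set G)) :
    ∃ j, 0 < j ∧ (MulAction.toPermHom G (Sylow p G) g).support.card = p * r * j ∧
      p * r * j < Nat.card (Sylow p G) ∧ ((r = 2) → Even j) := by
  set σ := MulAction.toPermHom G (Sylow p G) g with hσ
  have ho : orderOf σ = r := by rw [hσ, orderOf_injective _ (toPermHom_sylow_injective hnc hp), hgr]
  obtain ⟨n, hn⟩ := Perm.cycleType_prime_order (σ := σ) (ho ▸ hr)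
  have hs := Perm.sum_cycleType σ
  rw [hn, ho, Multiset.sum_replicate, smul_eq_mul] at hs
  obtain ⟨hpd, hPs⟩ := dvd_support_of_centralizer hP hg
  rw [← hσ] at hpd hPs
  have hcop : Nat.Coprime p r := (Nat.coprime_primes Fact.out hr).2 (Ne.symm hrp)
  obtain ⟨j, hj⟩ := hcop.dvd_of_dvd_mul_right (hs ▸ hpd)
  refine ⟨j, ?_, by rw [← hs, hj]; ring, ?_, fun h2 => ?_⟩
  · rcases Nat.eq_zero_or_pos j with rfl | h
    · simp at hj
    · exact h
  · have := Finset.card_lt_univ_of_notMem hPs
    rw [← Nat.card_eq_fintype_card, ← hs, hj] at this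
    linarith
  · subst h2
    have h := sign_toPerm hnc (Sylow p G) g
    rw [← hσ, Perm.sign_of_cycleType, hn, ho, Multiset.sum_replicate, Multiset.card_replicate, smul_eq_mul,
      hj, neg_one_pow_eq_one_iff_even (by decide)] at h
    have hp2 : Odd p := (Fact.out : p.Prime).odd_of_ne_two (Ne.symm hrp)
    rw [Nat.even_add, Nat.even_mul, Nat.even_mul] at h
    simp only [Nat.not_even_iff_odd.2 hp2, false_or, show Even 2 from even_two, or_true, true_iff] at h
    exact h

/-- No element of prime order `r` centralises a Sylow subgroup of order `p` when `n_p ≤ p * r`. -/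
theorem not_prime_centralizer [IsSimpleGroup G] (hnc : ¬ ∀ a b : G, a * b = b * a) (hp : p ∣ Nat.card G)
    {P : Sylow p G} (hP : Nat.card ↥(P : Subgroup G) = p) {r : ℕ} (hr : r.Prime) (hrp : r ≠ p)
    (hn : Nat.card (Sylow p G) ≤ p * r) {g : G} (hgr : orderOf g = r)
    (hg : g ∈ Subgroup.centralizer ((P : Subgroup G) : Set G)) : False := by
  classical
  have := Fintype.ofFinite (Sylow p G)
  obtain ⟨j, hj, -, hlt, -⟩ := support_of_prime_centralizer hnc hp hP hr hrp hgr hg
  have : p * r * 1 ≤ p * r * j := Nat.mul_le_mul_left _ hj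
  omega

/-- An element normalising a subgroup of prime order whose order is prime to `p - 1` centralises it. -/
theorem mem_centralizer_of_coprime {P : Subgroup G} (hP : Nat.card ↥P = p) {y : G}
    (hy : y ∈ Subgroup.normalizer (P : Set G)) (hcop : (orderOf y).Coprime (p - 1)) :
    y ∈ Subgroup.centralizer (P : Set G) := by
  have : IsCyclic ↥P := isCyclic_of_prime_card hP
  have h1 : P.normalizerMonoidHom ⟨y, hy⟩ = 1 := by
    refine orderOf_eq_one_iff.1 (Nat.eq_one_of_dvd_coprimes hcop ?_ ?_)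
    · rw [← Subgroup.orderOf_mk y hy]; exact orderOf_map_dvd _ _
    · refine (orderOf_dvd_natCard _).trans ?_
      rw [IsCyclic.card_mulAut, hP, Nat.totient_prime Fact.out]
  rw [← MonoidHom.mem_ker, Subgroup.normalizerMonoidHom_ker, Subgroup.mem_subgroupOf] at h1
  exact h1

/-- The index of the centralised part of a subgroup normalising a group of order `p` divides `p - 1`. -/
theorem relIndex_centralizer_dvd {P : Subgroup G} (hP : Nat.card ↥P = p) {T : Subgroup G}
    (hT : T ≤ Subgroup.normalizer (P : Set G)) :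
    (Subgroup.centralizer (P : Set G)).relIndex T ∣ p - 1 := by
  have : IsCyclic ↥P := isCyclic_of_prime_card hP
  have hker : (P.normalizerMonoidHom.comp (Subgroup.inclusion hT)).ker =
      (Subgroup.centralizer (P : Set G)).subgroupOf T := by
    ext t
    rw [MonoidHom.mem_ker, MonoidHom.comp_apply, ← MonoidHom.mem_ker, Subgroup.normalizerMonoidHom_ker,
      Subgroup.mem_subgroupOf, Subgroup.mem_subgroupOf, Subgroup.coe_inclusion]
  rw [Subgroup.relIndex, ← hker, Subgroup.index_ker]
  refine (Subgroup.card_subgroup_dvd_card _).trans ?_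
  rw [IsCyclic.card_mulAut, hP, Nat.totient_prime Fact.out]

/-- A subgroup containing a Sylow subgroup `P`: its order is `n_p` times that of its part normalising `P`. -/
theorem exists_card_eq_mul_inf_normalizer (P : Sylow p G) {H : Subgroup G} (hPH : (P : Subgroup G) ≤ H) :
    ∃ n, n % p = 1 ∧ Nat.card ↥H = n * Nat.card ↥(H ⊓ Subgroup.normalizer ((P : Subgroup G) : Set G)) ∧
      (n = 1 → H ≤ Subgroup.normalizer ((P : Subgroup G) : Set G)) := by
  set N := Subgroup.normalizer ((P : Subgroup G) : Set G) with hN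
  refine ⟨N.relIndex H, ?_, ?_, fun h => Subgroup.relIndex_eq_one.1 h⟩
  · have h1 : N.subgroupOf H = Subgroup.normalizer (((P : Subgroup G).subgroupOf H : Subgroup H) : Set H) :=
      (Subgroup.subgroupOf_normalizer_eq hPH)
    have h2 : Nat.card (Sylow p H) % p = 1 % p := card_sylow_modEq_one p H
    rw [show Nat.card (Sylow p H) = N.relIndex H by
        rw [Subgroup.relIndex, h1]; exact (P.subtype hPH).card_eq_index_normalizer,
      Nat.mod_eq_of_lt (Fact.out : p.Prime).one_lt] at h2
    exact h2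
  · rw [← Subgroup.inf_relIndex_left, ← Subgroup.card_mul_index ((H ⊓ N).subgroupOf H), mul_comm,
      Nat.card_congr (Subgroup.subgroupOfEquivOfLe (inf_le_left : H ⊓ N ≤ H)).toEquiv]
    rfl

/-- A Sylow subgroup of a finite group with `n_p ≢ 1 (mod p ^ k)` meets another in index at most `p ^ (k - 1)`. -/
theorem exists_inter_index_le (k : ℕ) (h : ¬ Nat.card (Sylow p G) ≡ 1 [MOD p ^ k]) (P : Sylow p G) :
    ∃ R : Sylow p G, P ≠ R ∧ ((R : Subgroup G).subgroupOf (P : Subgroup G)).index ≤ p ^ (k - 1) := by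
  classical
  have := Fintype.ofFinite (Sylow p G)
  by_contra! hall
  refine h ?_
  have horb : ∀ R : Sylow p G, P ≠ R → p ^ k ∣ Nat.card (MulAction.orbit (P : Subgroup G) R) := by
    intro R hR
    obtain ⟨j, hj⟩ := P.2.card_orbit R
    have hst : MulAction.stabilizer (P : Subgroup G) R = (R : Subgroup G).subgroupOf (P : Subgroup G) := by
      ext a
      rw [MulAction.mem_stabilizer_iff, Subgroup.mem_subgroupOf]
      change (a : G) • R = R ↔ _
      rw [Sylow.smul_eq_iff_mem_normalizer]
      refine ⟨fun ha => ?_, fun ha => Subgroup.le_normalizer ha⟩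
      have : (a : G) ∈ (P : Subgroup G) ⊓ R := by
        rw [← P.2.inf_normalizer_sylow R]
        exact ⟨a.2, ha⟩
      exact this.2
    have h1 := MulAction.index_stabilizer (P : Subgroup G) R
    rw [hst, ← Nat.card_coe_set_eq, hj] at h1
    have h2 := hall R hR
    rw [h1] at h2
    have h3 : k - 1 < j := (Nat.pow_lt_pow_iff_right (Fact.out : p.Prime).one_lt).1 h2
    rw [hj]
    exact pow_dvd_pow p (by omega)
  have h1 : Nat.card (Sylow p G) = ∑ q : MulAction.orbitRel.Quotient (P : Subgroup G) (Sylow p G),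
      Nat.card (MulAction.orbitRel.Quotient.orbit q) := by
    rw [← Nat.card_sigma]
    exact Nat.card_congr (MulAction.selfEquivSigmaOrbits' (P : Subgroup G) (Sylow p G))
  rw [h1, Finset.sum_eq_add_sum_sdiff_singleton_of_mem
    (Finset.mem_univ (Quotient.mk'' P : MulAction.orbitRel.Quotient (P : Subgroup G) (Sylow p G)))]
  have h2 : Nat.card (MulAction.orbitRel.Quotient.orbit
      (Quotient.mk'' P : MulAction.orbitRel.Quotient (P : Subgroup G) (Sylow p G))) = 1 := by
    rw [MulAction.orbitRel.Quotient.orbit_mk, Nat.card_eq_one_iff_unique]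
    refine ⟨⟨fun x y => Subtype.ext ?_⟩, ⟨⟨P, MulAction.mem_orbit_self P⟩⟩⟩
    obtain ⟨a, ha⟩ := x.2
    obtain ⟨b, hb⟩ := y.2
    rw [← ha, ← hb]
    change (a : G) • P = (b : G) • P
    rw [Sylow.smul_eq_iff_mem_normalizer.2 (Subgroup.le_normalizer a.2),
      Sylow.smul_eq_iff_mem_normalizer.2 (Subgroup.le_normalizer b.2)]
  rw [h2]
  nth_rewrite 2 [← Nat.add_zero 1]
  refine Nat.ModEq.add_left 1 ((Nat.modEq_zero_iff_dvd).2 (Finset.dvd_sum fun q hq => ?_))
  induction q using Quotient.inductionOn' with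
  | h R =>
    rw [MulAction.orbitRel.Quotient.orbit_mk]
    refine horb R fun e => ?_
    subst e
    simp at hq

end Sylow

/-- A normal nontrivial subgroup of a finite `p`-group meets the centre nontrivially. -/
theorem exists_central_of_normal {T : Type*} [Group T] [Finite T] {p : ℕ} [Fact p.Prime] (hT : IsPGroup p T)
    (X : Subgroup T) [X.Normal] (hX : X ≠ ⊥) : ∃ x ∈ X, x ∈ Subgroup.center T ∧ x ≠ 1 := by
  let _ : MulAction T X := MulAction.compHom X (MulAut.conjNormal : T →* MulAut X)
  have hdvd : p ∣ Nat.card X := by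
    obtain ⟨k, hk⟩ := (hT.to_subgroup X).exists_card_eq
    rcases k with _ | k
    · exact absurd (Subgroup.card_eq_one.1 (by simpa using hk)) hX
    · exact hk ▸ dvd_pow_self p k.succ_ne_zero
  obtain ⟨x, hx, hne⟩ := hT.exists_fixed_point_of_prime_dvd_card_of_fixed_point X hdvd (a := (1 : X))
    (fun t => map_one (MulAut.conjNormal (H := X) t))
  refine ⟨x, x.2, Subgroup.mem_center_iff.2 fun t => ?_, fun h => hne (Subtype.ext h).symm⟩
  have h1 : ((MulAut.conjNormal t x : X) : T) = x := congrArg Subtype.val (hx t)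
  rw [MulAut.conjNormal_apply, mul_inv_eq_iff_eq_mul] at h1
  exact h1

/-- Let `T` be a Sylow `q`-subgroup of `N(P)` but not of `G`, and `E` its part centralising `P`. If
`|T| < |E|²` then the centraliser of some central element of `T` in `E` is not inside `N(P)`. -/
theorem fusion_trick {p q : ℕ} [Fact p.Prime] [Fact q.Prime] (P : Sylow p G) (T : Subgroup G) {a : ℕ}
    (hT : Nat.card ↥T = q ^ a) (hTN : T ≤ Subgroup.normalizer ((P : Subgroup G) : Set G))
    (hmax : ¬ q ^ (a + 1) ∣ Nat.card ↥(Subgroup.normalizer ((P : Subgroup G) : Set G)))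
    (hG : q ^ (a + 1) ∣ Nat.card G)
    (hE : Nat.card ↥T < Nat.card ↥(T ⊓ Subgroup.centralizer ((P : Subgroup G) : Set G)) ^ 2)
    (hcent : ∀ u ∈ T, u ≠ 1 → u ∈ Subgroup.centralizer ((P : Subgroup G) : Set G) → (∀ t ∈ T, t * u = u * t) →
      Subgroup.centralizer ({u} : Set G) ≤ Subgroup.normalizer ((P : Subgroup G) : Set G)) : False := by
  set N := Subgroup.normalizer ((P : Subgroup G) : Set G) with hN
  set C := Subgroup.centralizer ((P : Subgroup G) : Set G) with hC
  obtain ⟨R, hR, hTR⟩ := Sylow.exists_subgroup_card_pow_succ hG hT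
  obtain ⟨g, hgR, hgT⟩ : ∃ g ∈ R, g ∉ T := by
    by_contra! hcon
    have := Subgroup.card_le_of_le (H := R) (K := T) hcon
    rw [hR, hT] at this
    exact absurd this (not_le.2 (Nat.pow_lt_pow_succ (Fact.out : q.Prime).one_lt))
  have hnormT : (T.subgroupOf R).Normal := by
    have hRp : IsPGroup q ↥R := IsPGroup.of_card hR
    refine Subgroup.normal_of_index_eq_minFac_card ?_
    have h1 : (T.subgroupOf R).index * q ^ a = q ^ (a + 1) := by
      rw [← hT, ← Nat.card_congr (Subgroup.subgroupOfEquivOfLe hTR).toEquiv, mul_comm,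
        Subgroup.card_mul_index, hR]
    rw [hR, Nat.Prime.pow_minFac Fact.out (Nat.succ_ne_zero a)]
    exact Nat.eq_of_mul_eq_mul_right (pow_pos (Fact.out : q.Prime).pos a) (by rw [h1, pow_succ']; )
  have hgnorm : ∀ t ∈ T, g * t * g⁻¹ ∈ T := fun t ht =>
    hnormT.conj_mem ⟨t, hTR ht⟩ ht ⟨g, hgR⟩
  have hgnorm' : ∀ t ∈ T, g⁻¹ * t * g ∈ T := fun t ht => by
    have h1 : g⁻¹ * t * (g⁻¹)⁻¹ ∈ T := hnormT.conj_mem ⟨t, hTR ht⟩ ht ⟨g⁻¹, R.inv_mem hgR⟩
    rwa [inv_inv] at h1
  have hgN : g ∉ N := fun hgN => by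
    refine hmax ?_
    have hle : R ≤ N := by
      have h1 : T < T ⊔ Subgroup.zpowers g := lt_of_le_of_ne le_sup_left fun e => hgT (by
        rw [e]; exact Subgroup.mem_sup_right (Subgroup.mem_zpowers g))
      have h2 : T ⊔ Subgroup.zpowers g ≤ R := sup_le hTR (Subgroup.zpowers_le.2 hgR)
      have h3 : T ⊔ Subgroup.zpowers g = R := by
        refine Subgroup.eq_of_le_of_card_ge h2 ?_
        obtain ⟨j, hj⟩ := ((IsPGroup.of_card (p := q) hR).to_le h2).exists_card_eq
        have h4 : Nat.card ↥T < Nat.card ↥(T ⊔ Subgroup.zpowers g : Subgroup G) := by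
          by_contra! hge
          exact h1.ne (Subgroup.eq_of_le_of_card_ge h1.le hge)
        rw [hT, hj] at h4
        have := (Nat.pow_lt_pow_iff_right (Fact.out : q.Prime).one_lt).1 h4
        rw [hj, hR]
        exact Nat.pow_le_pow_right (Fact.out : q.Prime).pos this
      rw [← h3]
      exact sup_le hTN (Subgroup.zpowers_le.2 hgN)
    rw [← hR]
    exact Subgroup.card_dvd_of_le hle
  set E := T ⊓ C with hEdef
  have hCN : ∀ n ∈ N, ∀ c ∈ C, n * c * n⁻¹ ∈ C := by
    intro n hn c hc
    rw [hC, Subgroup.mem_centralizer_iff] at hc ⊢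
    intro x hx
    have h1 : n⁻¹ * x * n ∈ (P : Subgroup G) := by
      have := (Subgroup.mem_set_normalizer_iff.1 (N.inv_mem hn) x).1 hx
      rw [inv_inv] at this
      exact this
    have h2 := hc _ h1
    calc x * (n * c * n⁻¹) = n * ((n⁻¹ * x * n) * c) * n⁻¹ := by group
      _ = n * (c * (n⁻¹ * x * n)) * n⁻¹ := by rw [h2]
      _ = n * c * n⁻¹ * x := by group
  set E' := E.map (MulAut.conj g).toMonoidHom with hE'
  have hE'T : E' ≤ T := by
    rintro _ ⟨e, he, rfl⟩
    exact hgnorm e he.1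
  have hX : E ⊓ E' ≠ ⊥ := by
    intro hbot
    let φ : ↥E × ↥E' → ↥T := fun z => ⟨z.1 * z.2, T.mul_mem z.1.2.1 (hE'T z.2.2)⟩
    have hφ : Function.Injective φ := by
      rintro ⟨e, f⟩ ⟨e', f'⟩ h
      have h1 : (e : G) * f = e' * f' := congrArg Subtype.val h
      have h2 : (e' : G)⁻¹ * e ∈ E ⊓ E' := by
        refine ⟨E.mul_mem (E.inv_mem e'.2) e.2, ?_⟩
        rw [show (e' : G)⁻¹ * e = f' * (f : G)⁻¹ by
          rw [eq_mul_inv_iff_mul_eq, mul_assoc, h1, inv_mul_cancel_left]]
        exact E'.mul_mem f'.2 (E'.inv_mem f.2)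
      rw [hbot, Subgroup.mem_bot, inv_mul_eq_one] at h2
      obtain rfl : e = e' := Subtype.ext h2.symm
      exact Prod.ext rfl (Subtype.ext (mul_left_cancel h1))
    have h1 := Nat.card_le_card_of_injective φ hφ
    rw [Nat.card_prod, hE', Subgroup.card_map_of_injective (MulAut.conj g).injective, ← sq] at h1
    omega
  have hTp : IsPGroup q ↥T := IsPGroup.of_card hT
  have : ((E ⊓ E').subgroupOf T).Normal := by
    refine ⟨fun x hx t => ?_⟩
    rw [Subgroup.mem_subgroupOf] at hx ⊢
    obtain ⟨⟨hx1, hx2⟩, e, he, hex⟩ := hx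
    refine ⟨⟨(t * x * t⁻¹).2, by simpa using hCN _ (hTN t.2) _ hx2⟩, (g⁻¹ * t * g) * e * (g⁻¹ * t * g)⁻¹, ?_, ?_⟩
    · exact ⟨T.mul_mem (T.mul_mem (hgnorm' _ t.2) he.1) (T.inv_mem (hgnorm' _ t.2)),
        hCN _ (hTN (hgnorm' _ t.2)) _ he.2⟩
    · change g * _ * g⁻¹ = (t : G) * x * (t : G)⁻¹
      have hex' : g * e * g⁻¹ = (x : G) := hex
      rw [← hex']
      group
  obtain ⟨x, hx, hxc, hx1⟩ := exists_central_of_normal hTp ((E ⊓ E').subgroupOf T) (fun h => hX (by
    rw [eq_bot_iff]
    intro y hy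
    have : (⟨y, hy.1.1⟩ : T) ∈ (E ⊓ E').subgroupOf T := hy
    rw [h, Subgroup.mem_bot] at this
    exact Subgroup.mem_bot.2 (congrArg Subtype.val this)))
  rw [Subgroup.mem_subgroupOf] at hx
  obtain ⟨e, he, hex⟩ := hx.2
  have hex' : g * e * g⁻¹ = (x : G) := hex
  have he' : e = g⁻¹ * x * g := by rw [← hex']; group
  have hxne : (x : G) ≠ 1 := fun h => hx1 (Subtype.ext h)
  have hle := hcent e he.1 (fun h => hxne (by rw [← hex', h]; group)) he.2 fun t ht => by
    have h1 := congrArg Subtype.val (Subgroup.mem_center_iff.1 hxc ⟨g * t * g⁻¹, hgnorm t ht⟩)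
    simp only [Subgroup.coe_mul] at h1
    calc t * e = g⁻¹ * ((g * t * g⁻¹) * x) * g := by rw [he']; group
      _ = g⁻¹ * (x * (g * t * g⁻¹)) * g := by rw [h1]
      _ = e * t := by rw [he']; group
  have hPle : ((g⁻¹ • P : Sylow p G) : Subgroup G) ≤ N := fun y hy => by
    refine hle (Subgroup.mem_centralizer_singleton_iff.2 ?_)
    rw [Sylow.coe_subgroup_smul, Subgroup.mem_pointwise_smul_iff_inv_smul_mem] at hy
    have h1 : g * y * g⁻¹ ∈ (P : Subgroup G) := by simpa [MulAut.smul_def] using hy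
    have h2 := Subgroup.mem_centralizer_iff.1 hx.1.2 _ h1
    calc y * e = g⁻¹ * ((g * y * g⁻¹) * x) * g := by rw [he']; group
      _ = g⁻¹ * (x * (g * y * g⁻¹)) * g := by rw [h2]
      _ = e * y := by rw [he']; group
  have heq : g⁻¹ • P = P := by
    refine Sylow.ext ((g⁻¹ • P).is_maximal' P.2 ?_).symm
    exact inf_eq_left.1 (((g⁻¹ • P).2.inf_normalizer_sylow P).symm.trans (inf_eq_left.2 hPle))
  exact hgN ((Subgroup.inv_mem_iff _).1 (Sylow.smul_eq_iff_mem_normalizer.1 heq))

end Cfsg.Lib.Small
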