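import Mathlib
import Cfsg.Agent.Small.Toolkit
import Cfsg.Agent.Coprime.Basic
import Cfsg.Agent.Chars.Count
import Cfsg.Agent.Classical.Orth.Dihedral
import Cfsg.Agent.S1012

/-!
The structure of a simple group of order 168.
-/

set_option linter.style.haveILetI false
set_option linter.unusedSectionVars false

namespace Cfsg.Lib.Small.Order168

open Subgroup Cfsg.Lib.Coprime

universe u

variable {G : Type u} [Group G] [Finite G] [IsSimpleGroup G]

theorem hnc (h : Nat.card G = 168) : ¬ ∀ a b : G, a * b = b * a :=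
  Cfsg.Lib.Small.not_comm_of_isSimple (by rw [h]; norm_num)

theorem exists_sylow_of_orderOf {p : ℕ} [Fact p.Prime] {x : G} (hx : orderOf x = p) :
    ∃ P : Sylow p G, x ∈ (P : Subgroup G) := by
  obtain ⟨P, hP⟩ := (IsPGroup.of_card (n := 1) (by rw [Nat.card_zpowers, hx, pow_one]) :
    IsPGroup p (zpowers x)).exists_le_sylow
  exact ⟨P, hP (mem_zpowers x)⟩

theorem sylow_seven_card (h : Nat.card G = 168) (P : Sylow 7 G) [Fact (Nat.Prime 7)] :
    Nat.card (P : Subgroup G) = 7 := by
  rw [Cfsg.Lib.Small.card_sylow_of_factor P (a := 1) (m := 24) (by rw [h]; norm_num) (by norm_num),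
    pow_one]

theorem sylow_three_card (h : Nat.card G = 168) (P : Sylow 3 G) [Fact (Nat.Prime 3)] :
    Nat.card (P : Subgroup G) = 3 := by
  rw [Cfsg.Lib.Small.card_sylow_of_factor P (a := 1) (m := 56) (by rw [h]; norm_num) (by norm_num),
    pow_one]

theorem sylow_two_card (h : Nat.card G = 168) (T : Sylow 2 G) [Fact (Nat.Prime 2)] :
    Nat.card (T : Subgroup G) = 8 := by
  rw [Cfsg.Lib.Small.card_sylow_of_factor T (a := 3) (m := 21) (by rw [h]; norm_num) (by norm_num)]
  norm_num

theorem card_sylow_seven (h : Nat.card G = 168) [Fact (Nat.Prime 7)] : Nat.card (Sylow 7 G) = 8 := by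
  obtain ⟨P⟩ : Nonempty (Sylow 7 G) := inferInstance
  obtain ⟨h1, h2⟩ := Cfsg.Lib.Small.sylow_facts P (a := 1) (m := 24) (by rw [h]; norm_num) (by norm_num)
  have h3 := Cfsg.Lib.Small.card_sylow_ne_one (p := 7) (hnc h) (by rw [h]; norm_num)
  have hle : Nat.card (Sylow 7 G) ≤ 24 := Nat.le_of_dvd (by norm_num) h1
  generalize Nat.card (Sylow 7 G) = n at h1 h2 h3 hle
  interval_cases n <;> omega

/-- the centraliser of an element of order 7 -/
theorem card_centralizer_seven (h : Nat.card G = 168) {x : G} (hx : orderOf x = 7) :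
    centralizer ({x} : Set G) = zpowers x := by
  classical
  haveI : Fact (Nat.Prime 7) := ⟨by norm_num⟩
  haveI := Fintype.ofFinite (Sylow 7 G)
  set φ := MulAction.toPermHom G (Sylow 7 G) with hφ
  have hinj : Function.Injective φ :=
    Cfsg.Lib.Small.toPermHom_sylow_injective (hnc h) (by rw [h]; norm_num)
  have hord : orderOf (φ x) = 7 := (orderOf_injective φ hinj x).trans hx
  have h8 : Fintype.card (Sylow 7 G) = 8 := by rw [← Nat.card_eq_fintype_card, card_sylow_seven h]
  have htype : (φ x).cycleType = {7} := by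
    obtain ⟨n, hn⟩ := Equiv.Perm.cycleType_prime_order (σ := φ x) (by rw [hord]; norm_num)
    have hsum := (φ x).sum_cycleType ▸ (φ x).support.card_le_univ
    rw [hn, Multiset.sum_replicate, hord, smul_eq_mul, h8] at hsum
    rw [hn, show n = 0 by omega, hord]; rfl
  have hcard : Nat.card (centralizer ({φ x} : Set (Equiv.Perm (Sylow 7 G)))) = 7 := by
    rw [Equiv.Perm.nat_card_centralizer, htype]
    simp [h8]
  refine (eq_of_le_of_card_ge (zpowers_le.mpr (mem_centralizer_singleton_iff.mpr rfl)) ?_).symm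
  rw [Nat.card_zpowers, hx, ← hcard]
  refine Nat.card_le_card_of_injective (fun c => ⟨φ c.1, mem_centralizer_singleton_iff.mpr ?_⟩)
    fun a b hab => Subtype.ext (hinj (congrArg Subtype.val hab))
  rw [← map_mul, ← map_mul, mem_centralizer_singleton_iff.mp c.2]

theorem card_normalizer_seven (h : Nat.card G = 168) [Fact (Nat.Prime 7)] (P : Sylow 7 G) :
    Nat.card (normalizer ((P : Subgroup G) : Set G)) = 21 := by
  have := Cfsg.Lib.Small.card_normalizer_mul P
  rw [card_sylow_seven h, h] at this
  omega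

theorem card_sylow_three (h : Nat.card G = 168) [Fact (Nat.Prime 3)] : Nat.card (Sylow 3 G) = 28 := by
  classical
  haveI : Fact (Nat.Prime 7) := ⟨by norm_num⟩
  obtain ⟨P⟩ : Nonempty (Sylow 3 G) := inferInstance
  obtain ⟨h1, h2⟩ := Cfsg.Lib.Small.sylow_facts P (a := 1) (m := 56) (by rw [h]; norm_num) (by norm_num)
  by_contra hne
  obtain ⟨Q⟩ : Nonempty (Sylow 7 G) := inferInstance
  set N := normalizer ((Q : Subgroup G) : Set G) with hN
  have hNc : Nat.card N = 21 := card_normalizer_seven h Q
  have hle7 : Nat.card (Sylow 3 G) ≤ 7 := by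
    have hle : Nat.card (Sylow 3 G) ≤ 56 := Nat.le_of_dvd (by norm_num) h1
    generalize Nat.card (Sylow 3 G) = n at h1 h2 hne hle ⊢
    interval_cases n <;> omega
  -- the normaliser of a Sylow 7-subgroup contains seven Sylow 3-subgroups
  have hn3 : Nat.card (Sylow 3 N) = 7 := by
    obtain ⟨S⟩ : Nonempty (Sylow 3 N) := inferInstance
    obtain ⟨h1', h2'⟩ := Cfsg.Lib.Small.sylow_facts S (a := 1) (m := 7) (by rw [hNc]; norm_num) (by norm_num)
    refine ((Nat.dvd_prime (by norm_num)).mp h1').resolve_left fun h0 => ?_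
    haveI : Subsingleton (Sylow 3 N) := Finite.card_le_one_iff_subsingleton.mp h0.le
    haveI := Sylow.normal_of_subsingleton S
    have hQN : (Q : Subgroup G) ≤ N := le_normalizer
    haveI : ((Q : Subgroup G).subgroupOf N).Normal := (normal_subgroupOf_iff_le_normalizer hQN).mpr le_rfl
    obtain ⟨⟨s, hs⟩, hso⟩ := exists_prime_orderOf_dvd_card' (G := (S : Subgroup N)) 3
      (S.dvd_card_of_dvd_card (by rw [hNc]; norm_num))
    obtain ⟨⟨x, hxQ⟩, hxo⟩ := exists_prime_orderOf_dvd_card' (G := (Q : Subgroup G)) 7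
      (by rw [sylow_seven_card h Q])
    rw [Subgroup.orderOf_mk] at hso hxo
    have hdisj : Disjoint (S : Subgroup N) ((Q : Subgroup G).subgroupOf N) :=
      Subgroup.disjoint_of_coprime_natCard (by
        rw [Nat.card_congr (subgroupOfEquivOfLe hQN).toEquiv, sylow_seven_card h Q,
          Cfsg.Lib.Small.card_sylow_of_factor S (a := 1) (m := 7) (by rw [hNc]; norm_num) (by norm_num)]
        norm_num)
    have hc : Commute s (⟨x, hQN hxQ⟩ : N) :=
      Subgroup.commute_of_normal_of_disjoint _ _ inferInstance inferInstance hdisj s _ hs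
        (mem_subgroupOf.mpr hxQ)
    have hsC : (s : G) ∈ zpowers x := card_centralizer_seven h hxo ▸
      mem_centralizer_singleton_iff.mpr (congrArg Subtype.val hc)
    have hd := orderOf_dvd_of_mem_zpowers hsC
    rw [Subgroup.orderOf_coe, hso, hxo] at hd
    omega
  have hNp : ∀ S : Sylow 3 N, ¬ 3 ∣ ((S : Subgroup N).map N.subtype).index := fun S hd => by
    have h3 := ((S : Subgroup N).map N.subtype).card_mul_index
    rw [card_map_of_injective N.subtype_injective,
      Cfsg.Lib.Small.card_sylow_of_factor S (a := 1) (m := 7) (by rw [hNc]; norm_num) (by norm_num),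
      pow_one, h] at h3
    omega
  let F : Sylow 3 N → Sylow 3 G := fun S => (S.2.map N.subtype).toSylow (hNp S)
  have hF : Function.Injective F := fun S T he => Sylow.ext
    (Subgroup.map_injective N.subtype_injective (congrArg (fun X : Sylow 3 G => (X : Subgroup G)) he :))
  have hsurj : Function.Surjective F := ((Nat.bijective_iff_injective_and_card F).mpr
    ⟨hF, le_antisymm (Nat.card_le_card_of_injective F hF) (hle7.trans hn3.ge)⟩).2
  set K := ⨆ X : Sylow 3 G, (X : Subgroup G) with hK
  have hKN : K ≤ N := iSup_le fun X => by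
    obtain ⟨S, rfl⟩ := hsurj X
    exact map_subtype_le _
  haveI : K.Normal := by
    rw [← normalizer_eq_top_iff, eq_top_iff]
    intro g _
    refine conjMap_eq_self_iff.mp (eq_of_le_of_card_ge ?_ (card_conjMap g K).ge)
    show K.map _ ≤ K
    rw [hK, Subgroup.map_iSup]
    refine iSup_le fun X => le_iSup_of_le (g • X) (le_of_eq ?_)
    rw [Sylow.coe_subgroup_smul, conj_smul_eq]
  rcases (inferInstance : K.Normal).eq_bot_or_eq_top with h0 | h0
  · have hP := (le_iSup (fun X : Sylow 3 G => (X : Subgroup G)) P).trans h0.le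
    exact P.ne_bot_of_dvd_card (by rw [h]; norm_num) (le_bot_iff.mp hP)
  · have h5 := card_le_of_le hKN
    rw [h0, card_top, h, hNc] at h5
    omega

theorem card_normalizer_three (h : Nat.card G = 168) [Fact (Nat.Prime 3)] (P : Sylow 3 G) :
    Nat.card (normalizer ((P : Subgroup G) : Set G)) = 6 := by
  have := Cfsg.Lib.Small.card_normalizer_mul P
  rw [card_sylow_three h, h] at this
  omega

/-- the centraliser of an element of order 3 -/
theorem card_centralizer_three (h : Nat.card G = 168) {y : G} (hy : orderOf y = 3) :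
    centralizer ({y} : Set G) = zpowers y := by
  haveI : Fact (Nat.Prime 3) := ⟨Nat.prime_three⟩
  obtain ⟨P, hyP⟩ := exists_sylow_of_orderOf hy
  have hPy : zpowers y = (P : Subgroup G) := eq_of_le_of_card_ge (zpowers_le.mpr hyP)
    (by rw [sylow_three_card h P, Nat.card_zpowers, hy])
  have hC : centralizer ({y} : Set G) = centralizer ((P : Subgroup G) : Set G) := by
    rw [← hPy, zpowers_eq_closure, centralizer_closure]
  have hle : centralizer ((P : Subgroup G) : Set G) ≤ normalizer ((P : Subgroup G) : Set G) :=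
    centralizer_le_normalizer _
  refine (eq_of_le_of_card_ge (zpowers_le.mpr (mem_centralizer_singleton_iff.mpr rfl)) ?_).symm
  rw [Nat.card_zpowers, hy, hC]
  have hd := card_dvd_of_le hle
  rw [card_normalizer_three h P] at hd
  have h3 : 3 ∣ Nat.card (centralizer ((P : Subgroup G) : Set G)) := by
    rw [← hC, ← hy]
    exact orderOf_dvd_natCard _ (mem_centralizer_singleton_iff.mpr rfl)
  have h6 : Nat.card (centralizer ((P : Subgroup G) : Set G)) ≠ 6 := fun h6 =>
    Cfsg.Lib.Small.not_normalizer_le_centralizer (hnc h) (by rw [h]; norm_num) P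
      (eq_of_le_of_card_ge hle (by rw [h6, card_normalizer_three h P])).ge
  have := Nat.le_of_dvd (by norm_num) hd
  generalize Nat.card (centralizer ((P : Subgroup G) : Set G)) = n at hd h3 h6 this
  interval_cases n <;> omega

theorem orderOf_three_or (h : Nat.card G = 168) (g : G) :
    orderOf g = 3 ∨ orderOf g = 7 ∨ orderOf g ∣ 8 := by
  have h168 : orderOf g ∣ 168 := h ▸ _root_.orderOf_dvd_natCard g
  by_cases h3 : 3 ∣ orderOf g
  · left
    have hy : orderOf (g ^ (orderOf g / 3)) = 3 := orderOf_pow_orderOf_div (orderOf_pos g).ne' h3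
    have hg : g ∈ centralizer ({g ^ (orderOf g / 3)} : Set G) :=
      mem_centralizer_singleton_iff.mpr ((Commute.refl g).pow_right _).eq
    rw [card_centralizer_three h hy] at hg
    exact Nat.dvd_antisymm (hy ▸ orderOf_dvd_of_mem_zpowers hg) h3
  right
  by_cases h7 : 7 ∣ orderOf g
  · left
    have hy : orderOf (g ^ (orderOf g / 7)) = 7 := orderOf_pow_orderOf_div (orderOf_pos g).ne' h7
    have hg : g ∈ centralizer ({g ^ (orderOf g / 7)} : Set G) :=
      mem_centralizer_singleton_iff.mpr ((Commute.refl g).pow_right _).eq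
    rw [card_centralizer_seven h hy] at hg
    exact Nat.dvd_antisymm (hy ▸ orderOf_dvd_of_mem_zpowers hg) h7
  right
  have hc3 : (orderOf g).Coprime 3 := ((Nat.prime_three.coprime_iff_not_dvd).mpr h3).symm
  have hc7 : (orderOf g).Coprime 7 := (((by norm_num : Nat.Prime 7).coprime_iff_not_dvd).mpr h7).symm
  have hc : (orderOf g).Coprime 21 := (hc3.mul_right hc7 :)
  exact hc.dvd_of_dvd_mul_left (show orderOf g ∣ 21 * 8 from h168)

theorem card_sylow_two (h : Nat.card G = 168) [Fact (Nat.Prime 2)] : Nat.card (Sylow 2 G) = 21 := by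
  classical
  haveI : Fact (Nat.Prime 3) := ⟨Nat.prime_three⟩
  obtain ⟨T⟩ : Nonempty (Sylow 2 G) := inferInstance
  obtain ⟨h1, h2⟩ := Cfsg.Lib.Small.sylow_facts T (a := 3) (m := 21) (by rw [h]; norm_num) (by norm_num)
  have hne1 := Cfsg.Lib.Small.card_sylow_ne_one (p := 2) (hnc h) (by rw [h]; norm_num)
  have hinj : Function.Injective (MulAction.toPermHom G (Sylow 2 G)) :=
    Cfsg.Lib.Small.toPermHom_sylow_injective (hnc h) (by rw [h]; norm_num)
  have hperm : 168 ∣ (Nat.card (Sylow 2 G)).factorial := by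
    have := Subgroup.card_dvd_of_injective _ hinj
    rwa [h, Nat.card_perm] at this
  have hne3 : Nat.card (Sylow 2 G) ≠ 3 := fun h3 => by rw [h3] at hperm; norm_num [Nat.factorial] at hperm
  have hne7 : Nat.card (Sylow 2 G) ≠ 7 := by
    intro h7
    set N := normalizer ((T : Subgroup G) : Set G) with hN
    have hNc : Nat.card N = 24 := by
      have : Nat.card N * Nat.card (Sylow 2 G) = Nat.card G := Cfsg.Lib.Small.card_normalizer_mul T
      rw [h7, h] at this
      omega
    obtain ⟨⟨y, hyN⟩, hy⟩ := exists_prime_orderOf_dvd_card' (G := N) 3 (by rw [hNc]; norm_num)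
    rw [Subgroup.orderOf_mk] at hy
    have hY : IsPGroup 3 (zpowers y) := IsPGroup.of_card (n := 1) (by rw [Nat.card_zpowers, hy, pow_one])
    letI : MulAction (zpowers y) (T : Subgroup G) :=
      MulAction.compHom _ ((T : Subgroup G).normalizerMonoidHom.comp (inclusion (zpowers_le.mpr hyN)))
    have hmod := hY.card_modEq_card_fixedPoints (T : Subgroup G)
    rw [sylow_two_card h T] at hmod
    have hle : Nat.card (MulAction.fixedPoints (zpowers y) (T : Subgroup G)) ≤ 1 := by
      refine Finite.card_le_one_iff_subsingleton.mpr ⟨?_⟩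
      have key : ∀ a : MulAction.fixedPoints (zpowers y) (T : Subgroup G), (a : (T : Subgroup G)) = 1 := by
        rintro ⟨⟨t, ht⟩, hfix⟩
        have hc : y * t * y⁻¹ = t := congrArg Subtype.val (hfix ⟨y, mem_zpowers y⟩)
        have htC : t ∈ zpowers y := card_centralizer_three h hy ▸
          mem_centralizer_singleton_iff.mpr (mul_inv_eq_iff_eq_mul.mp hc).symm
        have h8 : orderOf t ∣ 8 := sylow_two_card h T ▸ (T : Subgroup G).orderOf_dvd_natCard ht
        have h3 : orderOf t ∣ 3 := hy ▸ orderOf_dvd_of_mem_zpowers htC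
        exact Subtype.ext (orderOf_eq_one_iff.mp (Nat.eq_one_of_dvd_coprimes (by norm_num) h8 h3))
      exact fun a b => Subtype.ext ((key a).trans (key b).symm)
    unfold Nat.ModEq at hmod
    omega
  have hle : Nat.card (Sylow 2 G) ≤ 21 := Nat.le_of_dvd (by norm_num) h1
  generalize Nat.card (Sylow 2 G) = n at h1 h2 hne1 hne3 hne7 hle
  interval_cases n <;> omega

theorem normalizer_two (h : Nat.card G = 168) [Fact (Nat.Prime 2)] (T : Sylow 2 G) :
    normalizer ((T : Subgroup G) : Set G) = T := by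
  refine (eq_of_le_of_card_ge le_normalizer ?_).symm
  have := Cfsg.Lib.Small.card_normalizer_mul T
  rw [card_sylow_two h, h] at this
  rw [sylow_two_card h T]
  omega

/-- the centraliser of a central element of a Sylow 2-subgroup -/
theorem centralizer_central (h : Nat.card G = 168) [Fact (Nat.Prime 2)] (T : Sylow 2 G) {z : G}
    (hzT : z ∈ (T : Subgroup G)) (hz1 : z ≠ 1) (hz : ∀ t ∈ (T : Subgroup G), t * z = z * t) :
    centralizer ({z} : Set G) = T := by
  set C := centralizer ({z} : Set G) with hC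
  have hle : (T : Subgroup G) ≤ C := fun t ht => mem_centralizer_singleton_iff.mpr (hz t ht)
  refine (eq_of_le_of_card_ge hle ?_).symm
  have hd : Nat.card C ∣ 168 := h ▸ C.card_subgroup_dvd_card
  have hz8 : orderOf z ∣ 8 := sylow_two_card h T ▸ (T : Subgroup G).orderOf_dvd_natCard hzT
  have hno : ∀ (q : ℕ), q.Prime → (q = 3 ∨ q = 7) → ¬ q ∣ Nat.card C := by
    intro q hq hq37 hqd
    haveI := Fact.mk hq
    obtain ⟨⟨y, hy⟩, hyo⟩ := exists_prime_orderOf_dvd_card' (G := C) q hqd
    rw [Subgroup.orderOf_mk] at hyo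
    have hzy : z ∈ zpowers y := by
      rcases hq37 with rfl | rfl
      · exact card_centralizer_three h hyo ▸
          mem_centralizer_singleton_iff.mpr (mem_centralizer_singleton_iff.mp hy).symm
      · exact card_centralizer_seven h hyo ▸
          mem_centralizer_singleton_iff.mpr (mem_centralizer_singleton_iff.mp hy).symm
    have h1 := hyo ▸ orderOf_dvd_of_mem_zpowers hzy
    refine hz1 (orderOf_eq_one_iff.mp (Nat.eq_one_of_dvd_coprimes ?_ hz8 h1))
    rcases hq37 with rfl | rfl <;> norm_num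
  have hc3 : (Nat.card C).Coprime 3 := ((Nat.prime_three.coprime_iff_not_dvd).mpr
    (hno 3 Nat.prime_three (Or.inl rfl))).symm
  have hc7 : (Nat.card C).Coprime 7 := (((by norm_num : Nat.Prime 7).coprime_iff_not_dvd).mpr
    (hno 7 (by norm_num) (Or.inr rfl))).symm
  have hc : (Nat.card C).Coprime 21 := (hc3.mul_right hc7 :)
  rw [sylow_two_card h T]
  exact Nat.le_of_dvd (by norm_num) (hc.dvd_of_dvd_mul_left (show Nat.card C ∣ 21 * 8 from hd))

theorem card_elements_prime (h : Nat.card G = 168) {p : ℕ} [Fact p.Prime]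
    (hP : ∀ P : Sylow p G, Nat.card (P : Subgroup G) = p) :
    Nat.card {g : G // orderOf g = p} = Nat.card (Sylow p G) * (p - 1) := by
  classical
  have hp : p.Prime := Fact.out
  let F : (Σ Q : Sylow p G, {x : (Q : Subgroup G) // x ≠ 1}) → {g : G // orderOf g = p} := fun q =>
    ⟨q.2.1, by
      rw [Subgroup.orderOf_coe]
      rcases (Nat.dvd_prime hp).mp (hP q.1 ▸ _root_.orderOf_dvd_natCard q.2.1) with h | h
      · exact absurd (orderOf_eq_one_iff.mp h) q.2.2
      · exact h⟩
  have hF : Function.Bijective F := by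
    constructor
    · rintro ⟨Q, ⟨x, hx⟩, hx1⟩ ⟨R, ⟨y, hy⟩, hy1⟩ he
      have hxy : x = y := congrArg Subtype.val he
      subst hxy
      have hQR : R = Q := Cfsg.Lib.Small.sylow_fixed_eq (hP Q) hx (fun h => hx1 (Subtype.ext h))
        (Sylow.smul_eq_iff_mem_normalizer.mpr (le_normalizer hy))
      subst hQR
      rfl
    · rintro ⟨g, hg⟩
      obtain ⟨Q, hQ⟩ := exists_sylow_of_orderOf (p := p) hg
      exact ⟨⟨Q, ⟨g, hQ⟩, fun h => hp.ne_one (by
        rw [← hg, show g = 1 from congrArg Subtype.val h, orderOf_one])⟩, rfl⟩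
  haveI := Fintype.ofFinite (Sylow p G)
  rw [← Nat.card_congr (Equiv.ofBijective F hF), Nat.card_sigma]
  rw [Finset.sum_const_nat (m := p - 1), Finset.card_univ, Nat.card_eq_fintype_card (α := Sylow p G)]
  intro Q _
  haveI := Fintype.ofFinite (Q : Subgroup G)
  rw [Nat.card_eq_fintype_card, Fintype.card_subtype_compl, Fintype.card_subtype_eq,
    ← Nat.card_eq_fintype_card, hP]

theorem card_three (h : Nat.card G = 168) : Nat.card {g : G // orderOf g = 3} = 56 := by
  haveI : Fact (Nat.Prime 3) := ⟨Nat.prime_three⟩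
  rw [card_elements_prime h (fun P => sylow_three_card h P), card_sylow_three h]

theorem card_seven (h : Nat.card G = 168) : Nat.card {g : G // orderOf g = 7} = 48 := by
  haveI : Fact (Nat.Prime 7) := ⟨by norm_num⟩
  rw [card_elements_prime h (fun P => sylow_seven_card h P), card_sylow_seven h]

/-- A Sylow 2-subgroup is not commutative. -/
theorem not_comm_two (h : Nat.card G = 168) [Fact (Nat.Prime 2)] (T : Sylow 2 G) :
    ∃ u ∈ (T : Subgroup G), ∃ v ∈ (T : Subgroup G), u * v ≠ v * u := by
  by_contra hcon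
  push Not at hcon
  refine Cfsg.Lib.Small.not_normalizer_le_centralizer (hnc h) (by rw [h]; norm_num) T ?_
  rw [normalizer_two h T]
  exact fun t ht => mem_centralizer_iff.mpr fun u hu => hcon u hu t ht

/-- Raw structure of a Sylow 2-subgroup: an element `a` of order 4 whose square is central. -/
theorem exists_four (h : Nat.card G = 168) [Fact (Nat.Prime 2)] (T : Sylow 2 G) :
    ∃ a ∈ (T : Subgroup G), orderOf a = 4 ∧ (∀ t ∈ (T : Subgroup G), t * a ^ 2 = a ^ 2 * t) ∧
      ∀ t ∈ (T : Subgroup G), t ^ 2 ∈ zpowers a := by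
  have h8 := sylow_two_card h T
  have hord : ∀ t ∈ (T : Subgroup G), orderOf t = 1 ∨ orderOf t = 2 ∨ orderOf t = 4 := by
    intro t ht
    have hd : orderOf t ∣ 8 := h8 ▸ (T : Subgroup G).orderOf_dvd_natCard ht
    have hne8 : orderOf t ≠ 8 := by
      intro he
      obtain ⟨u, hu, v, hv, huv⟩ := not_comm_two h T
      have hz : zpowers t = (T : Subgroup G) :=
        eq_of_le_of_card_ge (zpowers_le.mpr ht) (by rw [h8, Nat.card_zpowers, he])
      rw [← hz] at hu hv
      obtain ⟨i, rfl⟩ := mem_zpowers_iff.mp hu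
      obtain ⟨j, rfl⟩ := mem_zpowers_iff.mp hv
      exact huv (((Commute.refl t).zpow_zpow i j).eq)
    have hle := Nat.le_of_dvd (by norm_num) hd
    generalize orderOf t = n at hd hne8 hle
    interval_cases n <;> omega
  obtain ⟨a, ha, ha4⟩ : ∃ a ∈ (T : Subgroup G), orderOf a = 4 := by
    by_contra hno
    push Not at hno
    have hsq : ∀ t ∈ (T : Subgroup G), t * t = 1 := fun t ht => by
      rcases hord t ht with h1 | h1 | h1
      · rw [orderOf_eq_one_iff.mp h1, one_mul]
      · rw [← pow_two, ← h1, pow_orderOf_eq_one]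
      · exact absurd h1 (hno t ht)
    obtain ⟨u, hu, v, hv, huv⟩ := not_comm_two h T
    refine huv ?_
    calc u * v = u * (u * v * (u * v)) * v := by rw [hsq _ (mul_mem hu hv), mul_one]
      _ = (u * u) * (v * u) * (v * v) := by group
      _ = v * u := by rw [hsq u hu, hsq v hv, one_mul, mul_one]
  set A := (zpowers a).subgroupOf (T : Subgroup G) with hA
  have hAc : Nat.card A = 4 := by
    rw [hA, Nat.card_congr (subgroupOfEquivOfLe (zpowers_le.mpr ha)).toEquiv, Nat.card_zpowers, ha4]
  have hAi : A.index = 2 := by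
    have := A.index_mul_card
    rw [hAc, h8] at this
    omega
  haveI : A.Normal := normal_of_index_eq_two hAi
  refine ⟨a, ha, ha4, fun t ht => ?_, fun t ht => ?_⟩
  · have hmem : t * a * t⁻¹ ∈ zpowers a := by
      have := Subgroup.Normal.conj_mem (inferInstance : A.Normal) ⟨a, ha⟩
        (mem_subgroupOf.mpr (mem_zpowers a)) ⟨t, ht⟩
      exact mem_subgroupOf.mp this
    -- the only element of order 2 of `⟨a⟩` is `a ^ 2`
    obtain ⟨i, hi⟩ := mem_zpowers_iff.mp hmem
    have h1 : t * a ^ 2 * t⁻¹ = a ^ (2 * i) := by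
      rw [← conj_pow, ← hi, ← zpow_natCast, ← zpow_mul, mul_comm]
      rfl
    have hodd : Odd i := by
      by_contra hev
      rw [Int.not_odd_iff_even] at hev
      obtain ⟨j, rfl⟩ := hev
      have h2 : orderOf (t * a * t⁻¹) ∣ 2 := orderOf_dvd_of_pow_eq_one (by
        rw [← hi, ← zpow_natCast, ← zpow_mul, show (j + j) * ((2 : ℕ) : ℤ) = (4 : ℕ) * j by push_cast; ring,
          zpow_mul, zpow_natCast, ← ha4, pow_orderOf_eq_one, one_zpow])
      rw [show orderOf (t * a * t⁻¹) = orderOf a from (MulAut.conj t).orderOf_eq a, ha4] at h2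
      omega
    obtain ⟨j, rfl⟩ := hodd
    rw [show (2 : ℤ) * (2 * j + 1) = ((4 : ℕ) : ℤ) * j + (2 : ℕ) by push_cast; ring, zpow_add,
      zpow_mul, zpow_natCast, zpow_natCast, ← ha4, pow_orderOf_eq_one, one_zpow, one_mul] at h1
    exact mul_inv_eq_iff_eq_mul.mp h1
  · rw [pow_two]
    exact mem_subgroupOf.mp (mul_self_mem_of_index_two hAi ⟨t, ht⟩)

theorem card_partition (h : Nat.card G = 168) :
    Nat.card {g : G // orderOf g = 2} + Nat.card {g : G // orderOf g = 4} = 63 := by
  classical
  haveI := Fintype.ofFinite G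
  have hno8 : ∀ g : G, orderOf g ≠ 8 := by
    intro g hg
    haveI : Fact (Nat.Prime 2) := ⟨Nat.prime_two⟩
    obtain ⟨T, hT⟩ := (IsPGroup.of_card (n := 3) (by rw [Nat.card_zpowers, hg]; norm_num) :
      IsPGroup 2 (zpowers g)).exists_le_sylow
    have hz : zpowers g = (T : Subgroup G) :=
      eq_of_le_of_card_ge hT (by rw [sylow_two_card h T, Nat.card_zpowers, hg])
    obtain ⟨u, hu, v, hv, huv⟩ := not_comm_two h T
    rw [← hz] at hu hv
    obtain ⟨i, rfl⟩ := mem_zpowers_iff.mp hu
    obtain ⟨j, rfl⟩ := mem_zpowers_iff.mp hv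
    exact huv (((Commute.refl g).zpow_zpow i j).eq)
  have hord : ∀ g ∈ (Finset.univ : Finset G), orderOf g ∈ ({1, 2, 3, 4, 7} : Finset ℕ) := by
    intro g _
    rcases orderOf_three_or h g with h1 | h1 | h1
    · simp [h1]
    · simp [h1]
    · have hle := Nat.le_of_dvd (by norm_num) h1
      have := hno8 g
      generalize orderOf g = n at h1 hle this
      interval_cases n <;> simp_all
  have hsum := Finset.card_eq_sum_card_fiberwise hord
  have hf : ∀ k, (Finset.univ.filter fun g : G => orderOf g = k).card =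
      Nat.card {g : G // orderOf g = k} := fun k => by
    rw [Nat.card_eq_fintype_card, Fintype.card_subtype]
  simp only [hf, Finset.card_univ] at hsum
  rw [← Nat.card_eq_fintype_card, h] at hsum
  have h1 : Nat.card {g : G // orderOf g = 1} = 1 := Nat.card_eq_one_iff_unique.mpr
    ⟨⟨fun a b => Subtype.ext ((orderOf_eq_one_iff.mp a.2).trans (orderOf_eq_one_iff.mp b.2).symm)⟩,
      ⟨⟨1, orderOf_one⟩⟩⟩
  rw [show ({1, 2, 3, 4, 7} : Finset ℕ) = insert 1 (insert 2 (insert 3 (insert 4 {7}))) from rfl,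
    Finset.sum_insert (by decide), Finset.sum_insert (by decide), Finset.sum_insert (by decide),
    Finset.sum_insert (by decide), Finset.sum_singleton, h1, card_three h, card_seven h] at hsum
  omega

/-- The global counts and the shape of a Sylow 2-subgroup. -/
theorem two_structure (h : Nat.card G = 168) [Fact (Nat.Prime 2)] :
    Nat.card {g : G // orderOf g = 2} = 21 ∧ Nat.card {g : G // orderOf g = 4} = 42 ∧
      ∀ T : Sylow 2 G, ∀ t ∈ (T : Subgroup G), ∀ a ∈ (T : Subgroup G), orderOf a = 4 →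
        t ∉ zpowers a → orderOf t = 2 := by
  classical
  haveI := Fintype.ofFinite G
  haveI := Fintype.ofFinite (Sylow 2 G)
  choose a ha ha4 hacen hasq using exists_four h
  have hz2 : ∀ T, orderOf ((a T) ^ 2) = 2 := fun T => by
    rw [orderOf_pow_of_dvd (by norm_num) (by rw [ha4]; norm_num), ha4]
  have hC : ∀ T, centralizer ({(a T) ^ 2} : Set G) = T := fun T =>
    centralizer_central h T (pow_mem (ha T) 2) (fun h0 => by
      have := hz2 T; rw [h0, orderOf_one] at this; omega) (hacen T)
  -- centres give distinct involutions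
  have h21 : 21 ≤ Nat.card {g : G // orderOf g = 2} := by
    rw [← card_sylow_two h]
    exact Nat.card_le_card_of_injective (fun T => (⟨(a T) ^ 2, hz2 T⟩ : {g : G // orderOf g = 2}))
      fun T T' he => Sylow.ext (by
        have he' : (a T) ^ 2 = (a T') ^ 2 := congrArg Subtype.val he
        rw [← hC T, ← hC T', he'])
  -- the elements of order 4 with the square in the centre
  have h4eq : ∀ T : Sylow 2 G, ∀ t ∈ (T : Subgroup G), orderOf t = 4 → t ^ 2 = (a T) ^ 2 := by
    intro T t ht ht4
    obtain ⟨i, hi⟩ := mem_zpowers_iff.mp (hasq T t ht)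
    have h2 : orderOf (t ^ 2) = 2 := by
      rw [orderOf_pow_of_dvd (by norm_num) (by rw [ht4]; norm_num), ht4]
    have hmem : t ^ 2 ∈ zpowers ((a T) ^ 2) := by
      rcases Int.even_or_odd i with ⟨j, rfl⟩ | ⟨j, rfl⟩
      · refine mem_zpowers_iff.mpr ⟨j, ?_⟩
        rw [← hi, ← zpow_natCast, ← zpow_mul]
        congr 1
        push_cast; ring
      · exfalso
        have h4 : orderOf ((a T) ^ (2 * j + 1)) = 4 := by
          refine orderOf_eq_prime_pow (p := 2) (n := 1) (fun h0 => ?_) ?_
          · rw [pow_one, ← zpow_natCast, ← zpow_mul, ← orderOf_dvd_iff_zpow_eq_one, ha4] at h0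
            push_cast at h0
            omega
          · rw [← zpow_natCast, ← zpow_mul, ← orderOf_dvd_iff_zpow_eq_one, ha4]
            exact dvd_mul_left _ _
        rw [hi, h2] at h4
        omega
    have hgen : zpowers (t ^ 2) = zpowers ((a T) ^ 2) := eq_of_le_of_card_ge (zpowers_le.mpr hmem)
      (by rw [Nat.card_zpowers, Nat.card_zpowers, h2, hz2])
    obtain ⟨j, hj⟩ := mem_zpowers_iff.mp hmem
    rcases Int.even_or_odd j with ⟨k, rfl⟩ | ⟨k, rfl⟩
    · exfalso
      have h0 : t ^ 2 = 1 := by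
        rw [← hj, ← two_mul, zpow_mul, show ((a T) ^ 2) ^ (2 : ℤ) = 1 from
          orderOf_dvd_iff_zpow_eq_one.mp (by rw [hz2]; exact dvd_rfl), one_zpow]
      rw [h0, orderOf_one] at h2
      omega
    · rw [← hj, zpow_add, zpow_mul, zpow_one, show ((a T) ^ 2) ^ (2 : ℤ) = 1 from
          orderOf_dvd_iff_zpow_eq_one.mp (by rw [hz2]; exact dvd_rfl), one_zpow,
        one_mul]
  have hinv : ∀ T, orderOf ((a T)⁻¹) = 4 := fun T => by rw [orderOf_inv, ha4]
  have hne : ∀ T, (a T)⁻¹ ≠ a T := fun T he => by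
    have h2 : orderOf (a T) ∣ 2 := orderOf_dvd_of_pow_eq_one (by
      rw [pow_two]; nth_rewrite 1 [← he]; exact inv_mul_cancel _)
    rw [ha4] at h2
    omega
  let F : Sylow 2 G × Bool → {g : G // orderOf g = 4} := fun x =>
    if x.2 then ⟨a x.1, ha4 x.1⟩ else ⟨(a x.1)⁻¹, hinv x.1⟩
  have hsylow : ∀ T T' : Sylow 2 G, ∀ t, t ∈ (T : Subgroup G) → t ∈ (T' : Subgroup G) → orderOf t = 4 → T = T' :=
    fun T T' t ht ht' ht4 => Sylow.ext (by
      rw [← hC T, ← hC T', ← h4eq T t ht ht4, ← h4eq T' t ht' ht4])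
  have hF : Function.Injective F := by
    rintro ⟨T, b⟩ ⟨T', b'⟩ he
    have he' : ((F (T, b) : {g : G // orderOf g = 4}) : G) = F (T', b') := congrArg Subtype.val he
    have hmem : ∀ (T : Sylow 2 G) b, ((F (T, b) : {g : G // orderOf g = 4}) : G) ∈ (T : Subgroup G) := by
      intro T b
      cases b
      · exact inv_mem (ha T)
      · exact ha T
    obtain rfl := hsylow T T' _ (hmem T b) (he' ▸ hmem T' b') (F (T, b)).2
    cases b <;> cases b'
    · rfl
    · exact absurd he' (hne T)
    · exact absurd he'.symm (hne T)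
    · rfl
  have h42 : 42 ≤ Nat.card {g : G // orderOf g = 4} := by
    refine le_trans ?_ (Nat.card_le_card_of_injective F hF)
    rw [Nat.card_prod, card_sylow_two h, Nat.card_eq_fintype_card (α := Bool), Fintype.card_bool]
  have hpart := card_partition h
  refine ⟨by omega, by omega, fun T t ht b hb hb4 htb => ?_⟩
  have hsurj : Function.Surjective F := ((Nat.bijective_iff_injective_and_card F).mpr
    ⟨hF, by rw [Nat.card_prod, card_sylow_two h, Nat.card_eq_fintype_card (α := Bool), Fintype.card_bool]; omega⟩).2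
  have hbz : zpowers b = zpowers (a T) := by
    obtain ⟨⟨T', c⟩, hc⟩ := hsurj ⟨b, hb4⟩
    have hbT : b ∈ (T' : Subgroup G) := by
      rw [show b = ((F (T', c) : {g : G // orderOf g = 4}) : G) from (congrArg Subtype.val hc).symm]
      cases c
      · exact inv_mem (ha T')
      · exact ha T'
    obtain rfl := hsylow T T' b hb hbT hb4
    cases c
    · rw [show b = (a T)⁻¹ from (congrArg Subtype.val hc).symm, zpowers_inv]
    · rw [show b = a T from (congrArg Subtype.val hc).symm]
  rw [hbz] at htb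
  have hd : orderOf t ∣ 8 := sylow_two_card h T ▸ (T : Subgroup G).orderOf_dvd_natCard ht
  have hne1 : orderOf t ≠ 1 := fun h1 => htb (by rw [orderOf_eq_one_iff.mp h1]; exact one_mem _)
  have hne4 : orderOf t ≠ 4 := by
    intro ht4
    obtain ⟨⟨T', c⟩, hc⟩ := hsurj ⟨t, ht4⟩
    have hbT : t ∈ (T' : Subgroup G) := by
      rw [show t = ((F (T', c) : {g : G // orderOf g = 4}) : G) from (congrArg Subtype.val hc).symm]
      cases c
      · exact inv_mem (ha T')
      · exact ha T'
    obtain rfl := hsylow T T' t ht hbT ht4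
    cases c
    · exact htb ((show t = (a T)⁻¹ from (congrArg Subtype.val hc).symm) ▸ inv_mem (mem_zpowers _))
    · exact htb ((show t = a T from (congrArg Subtype.val hc).symm) ▸ mem_zpowers _)
  have hne8 : orderOf t ≠ 8 := by
    intro ht8
    have h4 : orderOf (t ^ 2) = 4 := by
      rw [orderOf_pow_of_dvd (by norm_num) (by rw [ht8]; norm_num), ht8]
    have hz : zpowers t = (T : Subgroup G) :=
      eq_of_le_of_card_ge (zpowers_le.mpr ht) (by rw [sylow_two_card h T, Nat.card_zpowers, ht8])
    obtain ⟨u, hu, v, hv, huv⟩ := not_comm_two h T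
    rw [← hz] at hu hv
    obtain ⟨i, rfl⟩ := mem_zpowers_iff.mp hu
    obtain ⟨j, rfl⟩ := mem_zpowers_iff.mp hv
    exact huv (((Commute.refl t).zpow_zpow i j).eq)
  have hle := Nat.le_of_dvd (by norm_num) hd
  generalize orderOf t = n at hd hne1 hne4 hne8 hle
  interval_cases n <;> omega

/-- A Sylow 2-subgroup is dihedral: generators. -/
theorem dihedral_data (h : Nat.card G = 168) [Fact (Nat.Prime 2)] (T : Sylow 2 G) :
    ∃ a ∈ (T : Subgroup G), ∃ b ∈ (T : Subgroup G), orderOf a = 4 ∧ b ∉ zpowers a ∧ b * b = 1 ∧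
      b * a * b = a⁻¹ ∧ centralizer ({a ^ 2} : Set G) = T ∧ orderOf (a ^ 2) = 2 ∧
      (∀ t ∈ (T : Subgroup G), t ∈ zpowers a ∨ t * b⁻¹ ∈ zpowers a) ∧
      ∀ t ∈ (T : Subgroup G), t ∉ zpowers a → orderOf t = 2 := by
  obtain ⟨a, ha, ha4, hacen, hasq⟩ := exists_four h T
  have hother : ∀ t ∈ (T : Subgroup G), t ∉ zpowers a → orderOf t = 2 :=
    fun t ht hta => (two_structure h).2.2 T t ht a ha ha4 hta
  obtain ⟨b, hb, hba⟩ : ∃ b ∈ (T : Subgroup G), b ∉ zpowers a := by
    by_contra hno
    push Not at hno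
    have := card_le_of_le (show (T : Subgroup G) ≤ zpowers a from hno)
    rw [sylow_two_card h T, Nat.card_zpowers, ha4] at this
    omega
  have hb2 : b * b = 1 := by rw [← pow_two, ← hother b hb hba, pow_orderOf_eq_one]
  have hbai : b * a ∉ zpowers a := fun hm =>
    hba (by simpa using mul_mem hm (inv_mem (mem_zpowers a)))
  have hba2 : b * a * (b * a) = 1 := by
    rw [← pow_two, ← hother _ (mul_mem hb ha) hbai, pow_orderOf_eq_one]
  have hconj : b * a * b = a⁻¹ := eq_inv_of_mul_eq_one_left (by rw [← hba2]; group)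
  have hz2 : orderOf (a ^ 2) = 2 := by
    rw [orderOf_pow_of_dvd (by norm_num) (by rw [ha4]; norm_num), ha4]
  refine ⟨a, ha, b, hb, ha4, hba, hb2, hconj, centralizer_central h T (pow_mem ha 2)
    (fun h0 => by rw [h0, orderOf_one] at hz2; omega) hacen, hz2, fun t ht => ?_, hother⟩
  by_contra hcon
  push Not at hcon
  set A := (zpowers a).subgroupOf (T : Subgroup G) with hA
  have hAc : Nat.card A = 4 := by
    rw [hA, Nat.card_congr (subgroupOfEquivOfLe (zpowers_le.mpr ha)).toEquiv, Nat.card_zpowers, ha4]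
  have hAi : A.index = 2 := by
    have := A.index_mul_card
    rw [hAc, sylow_two_card h T] at this
    omega
  have := (mul_mem_iff_of_index_two hAi (a := (⟨t, ht⟩ : (T : Subgroup G))) (b := (⟨b, hb⟩⁻¹ : (T : Subgroup G)))).mpr
    ⟨fun h1 => absurd (mem_subgroupOf.mp h1) hcon.1, fun h1 => absurd (mem_subgroupOf.mp (inv_mem_iff.mp h1)) hba⟩
  exact hcon.2 (mem_subgroupOf.mp this)

theorem iso_dihedral (h : Nat.card G = 168) [Fact (Nat.Prime 2)] (T : Sylow 2 G) :
    Nonempty ((T : Subgroup G) ≃* DihedralGroup 4) := by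
  obtain ⟨a, ha, b, hb, ha4, hba, hb2, hconj, -⟩ := dihedral_data h T
  refine Cfsg.Lib.Classical.Refl.nonempty_dihedral (G := (T : Subgroup G)) ⟨a, ha⟩ ⟨b, hb⟩ 4
    (by rw [Subgroup.orderOf_mk, ha4]) (Subtype.ext hb2) (Subtype.ext hconj) (fun hm => hba ?_)
    (by rw [sylow_two_card h T])
  obtain ⟨i, hi⟩ := mem_zpowers_iff.mp hm
  exact mem_zpowers_iff.mpr ⟨i, by simpa using congrArg Subtype.val hi⟩

/-- Every involution is the central involution of a Sylow 2-subgroup. -/
theorem centralizer_two (h : Nat.card G = 168) [Fact (Nat.Prime 2)] {u : G} (hu : orderOf u = 2) :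
    ∃ T : Sylow 2 G, centralizer ({u} : Set G) = T := by
  classical
  choose a ha b hb hall using dihedral_data h
  let F : Sylow 2 G → {g : G // orderOf g = 2} := fun T => ⟨(a T) ^ 2, (hall T).2.2.2.2.2.1⟩
  have hF : Function.Injective F := fun T T' he => Sylow.ext (by
    have he' : (a T) ^ 2 = (a T') ^ 2 := congrArg Subtype.val he
    rw [← (hall T).2.2.2.2.1, ← (hall T').2.2.2.2.1, he'])
  obtain ⟨T, hT⟩ := ((Nat.bijective_iff_injective_and_card F).mpr
    ⟨hF, by rw [card_sylow_two h, (two_structure h).1]⟩).2 ⟨u, hu⟩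
  refine ⟨T, ?_⟩
  rw [← (hall T).2.2.2.2.1, show u = (a T) ^ 2 from (congrArg Subtype.val hT).symm]

theorem conj_of_centralizer_card (h : Nat.card G = 168) (k c : ℕ) (hk : k * c = 168)
    {s t : G} (hs : Nat.card (centralizer ({s} : Set G)) = c)
    (hn : Nat.card {g : G // orderOf g = orderOf s} = k) (ht : orderOf t = orderOf s) : IsConj s t := by
  let ι : {g : G // IsConj s g} → {g : G // orderOf g = orderOf s} := fun g => ⟨g.1, by
    obtain ⟨x, hx⟩ := isConj_iff.mp g.2
    rw [← hx]; exact (MulAut.conj x).orderOf_eq s⟩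
  have hι : Function.Injective ι := fun a b he => Subtype.ext (congrArg Subtype.val he :)
  have hc0 : 0 < c := hs ▸ Nat.card_pos
  have hsize : Nat.card {g : G // IsConj s g} = k := by
    rw [Cfsg.Lib.Chars.card_isConj]
    have h1 := (centralizer ({s} : Set G)).index_mul_card
    rw [hs, h] at h1
    exact Nat.eq_of_mul_eq_mul_right hc0 (h1.trans hk.symm)
  obtain ⟨g, hg⟩ := ((Nat.bijective_iff_injective_and_card ι).mpr ⟨hι, hsize.trans hn.symm⟩).2 ⟨t, ht⟩
  exact (show g.1 = t from congrArg Subtype.val hg) ▸ g.2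

theorem conj_two (h : Nat.card G = 168) {s t : G} (hs : orderOf s = 2) (ht : orderOf t = 2) :
    IsConj s t := by
  haveI : Fact (Nat.Prime 2) := ⟨Nat.prime_two⟩
  obtain ⟨T, hT⟩ := centralizer_two h hs
  exact conj_of_centralizer_card h 21 8 (by norm_num) (by rw [hT, sylow_two_card h T])
    (by rw [hs]; exact (two_structure h).1) (ht.trans hs.symm)

theorem conj_three (h : Nat.card G = 168) {s t : G} (hs : orderOf s = 3) (ht : orderOf t = 3) :
    IsConj s t :=
  conj_of_centralizer_card h 56 3 (by norm_num)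
    (by rw [card_centralizer_three h hs, Nat.card_zpowers, hs]) (by rw [hs]; exact card_three h)
    (ht.trans hs.symm)

theorem conj_four (h : Nat.card G = 168) {s t : G} (hs : orderOf s = 4) (ht : orderOf t = 4) :
    IsConj s t := by
  haveI : Fact (Nat.Prime 2) := ⟨Nat.prime_two⟩
  refine conj_of_centralizer_card h 42 4 (by norm_num) ?_ (by rw [hs]; exact (two_structure h).2.1)
    (ht.trans hs.symm)
  have h2 : orderOf (s ^ 2) = 2 := by
    rw [orderOf_pow_of_dvd (by norm_num) (by rw [hs]; norm_num), hs]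
  obtain ⟨T, hT⟩ := centralizer_two h h2
  have hle : centralizer ({s} : Set G) ≤ (T : Subgroup G) := hT ▸ fun x hx =>
    mem_centralizer_singleton_iff.mpr
      ((show Commute x s from mem_centralizer_singleton_iff.mp hx).pow_right 2).eq
  have hge : zpowers s ≤ centralizer ({s} : Set G) :=
    zpowers_le.mpr (mem_centralizer_singleton_iff.mpr rfl)
  have h1 := card_dvd_of_le hge
  have h3 := card_dvd_of_le hle
  rw [Nat.card_zpowers, hs] at h1
  rw [sylow_two_card h T] at h3
  have hne8 : Nat.card (centralizer ({s} : Set G)) ≠ 8 := by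
    intro h8
    have heq : centralizer ({s} : Set G) = T :=
      eq_of_le_of_card_ge hle (by rw [h8, sylow_two_card h T])
    have hsT : s ∈ (T : Subgroup G) := heq ▸ mem_centralizer_singleton_iff.mpr rfl
    obtain ⟨a, ha, b, hb, ha4, hba, hb2, hconj, -, -, -, hother⟩ := dihedral_data h T
    have hsa : s ∈ zpowers a := by
      by_contra hsa
      have := hother s hsT hsa
      omega
    have haz : zpowers s = zpowers a :=
      eq_of_le_of_card_ge (zpowers_le.mpr hsa) (by rw [Nat.card_zpowers, Nat.card_zpowers, hs, ha4])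
    obtain ⟨i, hi⟩ := mem_zpowers_iff.mp (haz ▸ mem_zpowers a : a ∈ zpowers s)
    have hbs : Commute b s := mem_centralizer_singleton_iff.mp (heq ▸ hb)
    have hba' : Commute b a := hi ▸ hbs.zpow_right i
    rw [hba'.eq, mul_assoc, hb2, mul_one] at hconj
    have hd : orderOf a ∣ 2 := orderOf_dvd_of_pow_eq_one (by
      rw [pow_two]; nth_rewrite 1 [hconj]; exact inv_mul_cancel a)
    rw [ha4] at hd
    omega
  have := Nat.le_of_dvd (by norm_num) h3
  generalize Nat.card (centralizer ({s} : Set G)) = n at h1 h3 hne8 this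
  interval_cases n <;> omega

theorem seven_class (h : Nat.card G = 168) {x : G} (hx : orderOf x = 7) :
    Nat.card {g : G // IsConj x g} = 24 ∧ ¬ IsConj x x⁻¹ := by
  haveI : Fact (Nat.Prime 7) := ⟨by norm_num⟩
  refine ⟨?_, fun hc => ?_⟩
  · rw [Cfsg.Lib.Chars.card_isConj]
    have h1 := (centralizer ({x} : Set G)).index_mul_card
    rw [card_centralizer_seven h hx, Nat.card_zpowers, hx, h] at h1
    rw [card_centralizer_seven h hx]
    omega
  obtain ⟨c, hc⟩ := isConj_iff.mp hc
  obtain ⟨P, hxP⟩ := exists_sylow_of_orderOf (p := 7) hx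
  have hPx : zpowers x = (P : Subgroup G) :=
    eq_of_le_of_card_ge (zpowers_le.mpr hxP) (by rw [sylow_seven_card h P, Nat.card_zpowers, hx])
  have hcN : c ∈ normalizer ((P : Subgroup G) : Set G) := by
    refine conjMap_eq_self_iff.mp ?_
    rw [← hPx]
    show (zpowers x).map (MulAut.conj c).toMonoidHom = _
    rw [MonoidHom.map_zpowers, show (MulAut.conj c).toMonoidHom x = c * x * c⁻¹ from rfl, hc, zpowers_inv]
  have ho : orderOf c ∣ 21 := card_normalizer_seven h P ▸ (normalizer ((P : Subgroup G) : Set G)).orderOf_dvd_natCard hcN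
  have hc2 : Commute (c ^ 2) x := by
    show c ^ 2 * x = x * c ^ 2
    rw [← mul_inv_eq_iff_eq_mul, pow_two, show c * c * x * (c * c)⁻¹ = c * (c * x * c⁻¹) * c⁻¹ by group, hc,
      show c * x⁻¹ * c⁻¹ = (c * x * c⁻¹)⁻¹ by group, hc, inv_inv]
  have hc' : Commute c x := by
    have e : c = (c ^ 2) ^ 11 := by
      rw [← pow_mul, show 2 * 11 = 21 + 1 by norm_num, pow_succ, orderOf_dvd_iff_pow_eq_one.mp ho, one_mul]
    exact e ▸ hc2.pow_left 11
  rw [hc'.eq, mul_inv_cancel_right] at hc
  have hd : orderOf x ∣ 2 := orderOf_dvd_of_pow_eq_one (by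
    rw [pow_two]; nth_rewrite 1 [hc]; exact inv_mul_cancel x)
  rw [hx] at hd
  omega

theorem klein_mem {U : Subgroup G} [IsKleinFour U] {x : G} (hx : x ∈ U) : x * x = 1 := by
  have := congrArg Subtype.val (IsKleinFour.mul_self (⟨x, hx⟩ : U))
  simpa using this

theorem klein_comm {U : Subgroup G} [IsKleinFour U] {x y : G} (hx : x ∈ U) (hy : y ∈ U) : x * y = y * x :=
  congrArg Subtype.val (mul_comm_of_exponent_two (IsKleinFour.exponent_two (G := U)) (⟨x, hx⟩ : U) ⟨y, hy⟩)

theorem klein_orderOf {U : Subgroup G} [IsKleinFour U] {x : G} (hx : x ∈ U) (hx1 : x ≠ 1) :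
    orderOf x = 2 :=
  orderOf_eq_prime (by rw [pow_two]; exact klein_mem hx) hx1

theorem klein_isPGroup (U : Subgroup G) [IsKleinFour U] : IsPGroup 2 U :=
  IsPGroup.of_card (n := 2) (by rw [IsKleinFour.card_four]; norm_num)

/-- A Sylow 2-subgroup containing a Klein four subgroup normalises it. -/
theorem le_normalizer_klein (h : Nat.card G = 168) [Fact (Nat.Prime 2)] {U : Subgroup G} [IsKleinFour U]
    {T : Sylow 2 G} (hUT : U ≤ (T : Subgroup G)) : (T : Subgroup G) ≤ normalizer (U : Set G) := by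
  have hc : Nat.card (U.subgroupOf (T : Subgroup G)) = 4 := by
    rw [Nat.card_congr (subgroupOfEquivOfLe hUT).toEquiv, IsKleinFour.card_four]
  have hi : (U.subgroupOf (T : Subgroup G)).index = 2 := by
    have := (U.subgroupOf (T : Subgroup G)).index_mul_card
    rw [hc, sylow_two_card h T] at this
    omega
  exact (normal_subgroupOf_iff_le_normalizer hUT).mp (normal_of_index_eq_two hi)

theorem exists_sylow_klein [Fact (Nat.Prime 2)] (U : Subgroup G) [IsKleinFour U] :
    ∃ T : Sylow 2 G, U ≤ (T : Subgroup G) :=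
  (klein_isPGroup U).exists_le_sylow

/-- The normaliser of a Klein four subgroup. -/
theorem normalizer_klein (h : Nat.card G = 168) (U : Subgroup G) [IsKleinFour U] :
    Nat.card (normalizer (U : Set G)) = 24 ∧
      Nonempty (normalizer (U : Set G) ≃* Equiv.Perm (Fin 4)) := by
  classical
  haveI : Fact (Nat.Prime 2) := ⟨Nat.prime_two⟩
  have hU4 : Nat.card U = 4 := IsKleinFour.card_four
  obtain ⟨T, hUT⟩ := exists_sylow_klein U
  obtain ⟨a, ha, b, hb, ha4, hba, hb2, hconj, hCa, hz2, hcoset, hother⟩ := dihedral_data h T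
  -- a non-central involution of `U`
  obtain ⟨u, hu, hu1, huz⟩ : ∃ u ∈ U, u ≠ 1 ∧ u ≠ a ^ 2 := by
    by_contra hno
    push Not at hno
    have hle : U ≤ zpowers (a ^ 2) := fun x hx => by
      by_cases hx1 : x = 1
      · exact hx1 ▸ one_mem _
      · exact (hno x hx hx1) ▸ mem_zpowers _
    have := card_le_of_le hle
    rw [hU4, Nat.card_zpowers, hz2] at this
    omega
  obtain ⟨T', hT'⟩ := centralizer_two h (klein_orderOf hu hu1)
  have hUT' : U ≤ (T' : Subgroup G) := hT' ▸ fun x hx => mem_centralizer_singleton_iff.mpr (klein_comm hx hu)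
  have hTT' : (T' : Subgroup G) ≠ T := by
    intro he
    have huc : ∀ t ∈ (T : Subgroup G), t * u = u * t := fun t ht =>
      mem_centralizer_singleton_iff.mp (hT'.symm ▸ he.symm ▸ ht)
    -- the centre of `T` is generated by `a ^ 2`
    have hua : u ∈ zpowers a := by
      by_contra hua
      rcases hcoset u (hUT hu) with h1 | h1
      · exact hua h1
      obtain ⟨i, hi⟩ := mem_zpowers_iff.mp h1
      have hb' : Commute b a := by
        have h2 : Commute u a := (huc a ha).symm
        rw [show u = a ^ i * b by rw [hi]; group] at h2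
        have h3 : Commute ((a ^ i)⁻¹ * (a ^ i * b)) a :=
          (((Commute.refl a).zpow_left i).inv_left).mul_left h2
        rwa [inv_mul_cancel_left] at h3
      rw [hb'.eq, mul_assoc, hb2, mul_one] at hconj
      have hd : orderOf a ∣ 2 := orderOf_dvd_of_pow_eq_one (by
        rw [pow_two]; nth_rewrite 1 [hconj]; exact inv_mul_cancel a)
      rw [ha4] at hd
      omega
    obtain ⟨i, hi⟩ := mem_zpowers_iff.mp hua
    have hu2 := klein_orderOf hu hu1
    rcases Int.even_or_odd i with ⟨j, rfl⟩ | ⟨j, rfl⟩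
    · rcases Int.even_or_odd j with ⟨k, rfl⟩ | ⟨k, rfl⟩
      · refine hu1 ?_
        rw [← hi, show k + k + (k + k) = ((4 : ℕ) : ℤ) * k by push_cast; ring, zpow_mul, zpow_natCast,
          ← ha4, pow_orderOf_eq_one, one_zpow]
      · refine huz ?_
        rw [← hi, show 2 * k + 1 + (2 * k + 1) = ((4 : ℕ) : ℤ) * k + (2 : ℕ) by push_cast; ring, zpow_add,
          zpow_mul, zpow_natCast, zpow_natCast, ← ha4, pow_orderOf_eq_one, one_zpow, one_mul]
    · have h2 : a ^ ((2 * j + 1) * 2) = 1 := by
        rw [zpow_mul, hi, show (2 : ℤ) = ((2 : ℕ) : ℤ) from rfl, zpow_natCast, ← hu2, pow_orderOf_eq_one]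
      rw [← orderOf_dvd_iff_zpow_eq_one, ha4] at h2
      omega
  set N := normalizer (U : Set G) with hN
  have hTN : (T : Subgroup G) ≤ N := le_normalizer_klein h hUT
  have hT'N : (T' : Subgroup G) ≤ N := le_normalizer_klein h hUT'
  set C := centralizer (U : Set G) with hC
  have hUC : U ≤ C := fun x hx => mem_centralizer_iff.mpr fun y hy => klein_comm hy hx
  have hCle : C ≤ (T : Subgroup G) ⊓ (T' : Subgroup G) := by
    have hzU : a ^ 2 ∈ U := by
      -- otherwise `U` and `a ^ 2` generate a commutative `T`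
      by_contra hzU
      have hle : U ⊔ zpowers (a ^ 2) ≤ (T : Subgroup G) := sup_le hUT (zpowers_le.mpr (pow_mem ha 2))
      have hzc : ∀ x ∈ U, x * a ^ 2 = a ^ 2 * x := fun x hx =>
        mem_centralizer_singleton_iff.mp (hCa.symm ▸ hUT hx)
      have hsup : U ⊔ zpowers (a ^ 2) = (T : Subgroup G) := by
        refine eq_of_le_of_card_ge hle ?_
        have hinf : U ⊓ zpowers (a ^ 2) = ⊥ := by
          rw [eq_bot_iff]
          rintro x ⟨hxU, hxz⟩
          by_contra hx1
          have he : zpowers x = zpowers (a ^ 2) := eq_of_le_of_card_ge (zpowers_le.mpr hxz)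
            (by rw [Nat.card_zpowers, Nat.card_zpowers, hz2, klein_orderOf hxU hx1])
          exact hzU ((zpowers_le.mpr hxU) (he ▸ mem_zpowers _))
        rw [card_sup_of_inf_eq_bot (zpowers_le.mpr (hTN (pow_mem ha 2))) hinf, hU4,
          Nat.card_zpowers, hz2, sylow_two_card h T]
      obtain ⟨v, hv, w, hw, hvw⟩ := not_comm_two h T
      refine hvw ?_
      have key : ∀ x ∈ U ⊔ zpowers (a ^ 2), ∀ y ∈ U, x * y = y * x := by
        intro x hx y hy
        obtain ⟨p, hp, q, hq, rfl⟩ :=
          (mem_sup_of_le_normalizer (zpowers_le.mpr (hTN (pow_mem ha 2)))).mp hx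
        obtain ⟨i, rfl⟩ := mem_zpowers_iff.mp hq
        exact (Commute.mul_left (show Commute p y from klein_comm hp hy)
          ((show Commute (a ^ 2) y from (hzc y hy).symm).zpow_left i)).eq
      rw [← hsup] at hv hw
      obtain ⟨p, hp, q, hq, rfl⟩ :=
        (mem_sup_of_le_normalizer (zpowers_le.mpr (hTN (pow_mem ha 2)))).mp hw
      obtain ⟨i, rfl⟩ := mem_zpowers_iff.mp hq
      have hvT : v ∈ (T : Subgroup G) := hle hv
      exact (Commute.mul_right (show Commute v p from key v hv p hp)
        ((show Commute v (a ^ 2) from mem_centralizer_singleton_iff.mp (hCa.symm ▸ hvT)).zpow_right i)).eq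
    refine le_inf (hCa ▸ fun x hx => ?_) (hT' ▸ fun x hx => ?_)
    · exact mem_centralizer_singleton_iff.mpr (mem_centralizer_iff.mp hx _ hzU).symm
    · exact mem_centralizer_singleton_iff.mpr (mem_centralizer_iff.mp hx _ hu).symm
  have hCU : C = U := by
    have h4 := card_le_of_le hCle
    have hd := card_dvd_of_le (hCle.trans inf_le_left)
    rw [sylow_two_card h T] at hd
    have hge := card_le_of_le hUC
    rw [hU4] at hge
    have hne8 : Nat.card C ≠ 8 := fun h8 => hTT' (eq_of_le_of_card_ge
      (inf_eq_left.mp (eq_of_le_of_card_ge inf_le_left (by rw [sylow_two_card h T]; omega)))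
      (by rw [sylow_two_card h T', sylow_two_card h T])).symm
    refine (eq_of_le_of_card_ge hUC ?_).symm
    rw [hU4]
    have hle := Nat.le_of_dvd (by norm_num) hd
    generalize Nat.card C = n at hd hge hne8 hle ⊢
    interval_cases n <;> omega
  have hgt : 8 < Nat.card N := by
    have h1 := card_le_of_le hTN
    rw [sylow_two_card h T] at h1
    refine lt_of_le_of_ne h1 fun he => hTT' ?_
    have e1 : N = (T : Subgroup G) := (eq_of_le_of_card_ge hTN (by rw [← he, sylow_two_card h T])).symm
    exact eq_of_le_of_card_ge (e1 ▸ hT'N) (by rw [sylow_two_card h T', sylow_two_card h T])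
  have hdiv8 : 8 ∣ Nat.card N := sylow_two_card h T ▸ card_dvd_of_le hTN
  have hle24 : Nat.card N ≤ 24 := by
    set f := U.normalizerMonoidHom with hf
    have hk : Nat.card f.ker = 4 := by
      rw [hf, normalizerMonoidHom_ker,
        Nat.card_congr (subgroupOfEquivOfLe (centralizer_le_normalizer _)).toEquiv, ← hC, hCU,
        hU4]
    have hdvd : Nat.card f.range ∣ 6 := by
      refine (Subgroup.card_subgroup_dvd_card f.range).trans ?_
      haveI := Fintype.ofFinite {x : U // x ≠ 1}
      have h3 : Nat.card {x : U // x ≠ 1} = 3 := by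
        haveI := Fintype.ofFinite U
        rw [Nat.card_eq_fintype_card, Fintype.card_subtype_compl, Fintype.card_subtype_eq,
          ← Nat.card_eq_fintype_card, hU4]
      let g : MulAut U →* Equiv.Perm {x : U // x ≠ 1} :=
        { toFun := fun a => a.toEquiv.subtypeEquiv fun x => (a.map_ne_one_iff).symm
          map_one' := Equiv.ext fun x => rfl
          map_mul' := fun a b => Equiv.ext fun x => rfl }
      have hg : Function.Injective g := fun a b hab => MulEquiv.ext fun x => by
        by_cases hx : x = 1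
        · rw [hx, map_one, map_one]
        · exact congrArg Subtype.val (Equiv.ext_iff.mp hab ⟨x, hx⟩)
      have := Subgroup.card_dvd_of_injective g hg
      rwa [Nat.card_perm, h3] at this
    have h1 := f.ker.card_mul_index
    rw [index_ker, hk] at h1
    change 4 * _ = Nat.card N at h1
    have := Nat.le_of_dvd (by norm_num) hdvd
    omega
  have hcard : Nat.card N = 24 := by
    obtain ⟨k, hk⟩ := hdiv8
    have hd : Nat.card N ∣ 168 := h ▸ N.card_subgroup_dvd_card
    have hne : Nat.card N ≠ 16 := fun h16 => by rw [h16] at hd; norm_num at hd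
    omega
  refine ⟨hcard, ?_⟩
  apply Cfsg.Agent.S1012.result hcard
  intro g hg
  rw [← Subgroup.orderOf_coe] at hg
  rcases orderOf_three_or h (g : G) with h1 | h1 | h1 <;> rw [hg] at h1 <;> norm_num at h1

/-- Two distinct Klein four subgroups of one Sylow 2-subgroup are not conjugate. -/
theorem klein_not_conj (h : Nat.card G = 168) [Fact (Nat.Prime 2)] {U W : Subgroup G} [IsKleinFour U]
    [IsKleinFour W] {T : Sylow 2 G} (hUT : U ≤ (T : Subgroup G)) (hWT : W ≤ (T : Subgroup G))
    (hne : U ≠ W) (g : G) : U.map (MulAut.conj g).toMonoidHom ≠ W := by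
  intro hg
  have hTW : (T : Subgroup G) ≤ normalizer (W : Set G) := le_normalizer_klein h hWT
  have hW2 : W ≤ ((g • T : Sylow 2 G) : Subgroup G) := by
    rw [← hg, Sylow.coe_subgroup_smul, conj_smul_eq]
    exact conjMap_mono hUT
  have hgW : ((g • T : Sylow 2 G) : Subgroup G) ≤ normalizer (W : Set G) := le_normalizer_klein h hW2
  set N := normalizer (W : Set G) with hN
  obtain ⟨⟨n, hnN⟩, hn⟩ := MulAction.exists_smul_eq N ((g • T).subtype hgW) (T.subtype hTW)
  rw [Sylow.smul_subtype] at hn
  have hn' : n • g • T = T := Sylow.subtype_injective hn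
  rw [smul_smul] at hn'
  have hngT : n * g ∈ (T : Subgroup G) := normalizer_two h T ▸ Sylow.smul_eq_iff_mem_normalizer.mp hn'
  have hUfix : U.map (MulAut.conj (n * g)).toMonoidHom = U :=
    conjMap_eq_self (le_normalizer_klein h hUT hngT)
  have hWfix : W.map (MulAut.conj n).toMonoidHom = W := conjMap_eq_self hnN
  apply hne
  rw [← hUfix, ← hWfix, ← hg]
  exact (conjMap_mul n g U).symm

/-- The Klein four subgroups of a Sylow 2-subgroup. -/
theorem klein_two (h : Nat.card G = 168) [Fact (Nat.Prime 2)] (T : Sylow 2 G) :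
    ∃ U₁ U₂ : Subgroup G, U₁ ≠ U₂ ∧ U₁ ≤ (T : Subgroup G) ∧ U₂ ≤ (T : Subgroup G) ∧
      IsKleinFour U₁ ∧ IsKleinFour U₂ ∧
      ∀ U : Subgroup G, U ≤ (T : Subgroup G) → IsKleinFour U → U = U₁ ∨ U = U₂ := by
  classical
  obtain ⟨a, ha, b, hb, ha4, hba, hb2, hconj, hCa, hz2, hcoset, hother⟩ := dihedral_data h T
  have hzc : ∀ t ∈ (T : Subgroup G), t * a ^ 2 = a ^ 2 * t := fun t ht =>
    mem_centralizer_singleton_iff.mp (hCa.symm ▸ ht)
  let V : G → Subgroup G := fun c => zpowers c ⊔ zpowers (a ^ 2)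
  have hnorm : ∀ c ∈ (T : Subgroup G), zpowers (a ^ 2) ≤ normalizer (zpowers c : Set G) := fun c hc => by
    refine zpowers_le.mpr (conjMap_eq_self_iff.mp ?_)
    show (zpowers c).map (MulAut.conj (a ^ 2)).toMonoidHom = _
    rw [MonoidHom.map_zpowers, show (MulAut.conj (a ^ 2)).toMonoidHom c = a ^ 2 * c * (a ^ 2)⁻¹ from rfl,
      ← hzc c hc, mul_inv_cancel_right]
  have hV : ∀ c ∈ (T : Subgroup G), c ∉ zpowers a → IsKleinFour (V c) ∧ V c ≤ (T : Subgroup G) := by
    intro c hc hca
    have hc2 : orderOf c = 2 := hother c hc hca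
    have hinf : zpowers c ⊓ zpowers (a ^ 2) = ⊥ := by
      rw [eq_bot_iff]
      rintro x ⟨hx1, hx2⟩
      by_contra hne
      have hd := hc2 ▸ orderOf_dvd_of_mem_zpowers hx1
      have hxo : orderOf x = 2 := ((Nat.dvd_prime Nat.prime_two).mp hd).resolve_left
        fun h0 => hne (mem_bot.mpr (orderOf_eq_one_iff.mp h0))
      have he : zpowers x = zpowers c := eq_of_le_of_card_ge (zpowers_le.mpr hx1)
        (by rw [Nat.card_zpowers, Nat.card_zpowers, hxo, hc2])
      exact hca ((zpowers_le.mpr ((zpowers_le.mpr (pow_mem (mem_zpowers a) 2)) hx2)) (he ▸ mem_zpowers c))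
    have hcard : Nat.card (V c) = 4 := by
      show Nat.card ↥(zpowers c ⊔ zpowers (a ^ 2)) = 4
      rw [card_sup_of_inf_eq_bot (hnorm c hc) hinf, Nat.card_zpowers, Nat.card_zpowers, hc2, hz2]
    refine ⟨⟨hcard, ?_⟩, sup_le (zpowers_le.mpr hc) (zpowers_le.mpr (pow_mem ha 2))⟩
    refine Nat.dvd_antisymm (Monoid.exponent_dvd_of_forall_pow_eq_one fun x => ?_) ?_
    · obtain ⟨p, hp, q, hq, hpq⟩ := (mem_sup_of_le_normalizer (hnorm c hc)).mp x.2
      obtain ⟨i, rfl⟩ := mem_zpowers_iff.mp hp
      obtain ⟨j, rfl⟩ := mem_zpowers_iff.mp hq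
      apply Subtype.ext
      rw [coe_pow, ← hpq, OneMemClass.coe_one,
        (((show Commute c (a ^ 2) from hzc c hc).zpow_zpow i j)).mul_pow, ← zpow_natCast, ← zpow_mul,
        ← zpow_natCast ((a ^ 2) ^ j), ← zpow_mul]
      rw [(orderOf_dvd_iff_zpow_eq_one (x := c)).mp (by rw [hc2]; exact dvd_mul_left _ _),
        (orderOf_dvd_iff_zpow_eq_one (x := a ^ 2)).mp (by rw [hz2]; exact dvd_mul_left _ _), one_mul]
    · have hmem : c ∈ V c := mem_sup_left (mem_zpowers c)
      exact (dvd_of_eq (((orderOf_mk c hmem)).trans hc2).symm).trans (Monoid.order_dvd_exponent _)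
  have habT : a * b ∈ (T : Subgroup G) := mul_mem ha hb
  have haba : a * b ∉ zpowers a := fun hm =>
    hba (by simpa using mul_mem (inv_mem (mem_zpowers a)) hm)
  obtain ⟨hK1, hl1⟩ := hV b hb hba
  obtain ⟨hK2, hl2⟩ := hV (a * b) habT haba
  refine ⟨V b, V (a * b), ?_, hl1, hl2, hK1, hK2, ?_⟩
  · intro he
    haveI := hK1
    have h1 : a * b ∈ V b := he ▸ mem_sup_left (mem_zpowers _)
    have h2 : a ∈ V b := by simpa using mul_mem h1 (inv_mem (mem_sup_left (mem_zpowers b) : b ∈ V b))
    have h3 := klein_orderOf h2 (fun h0 => by rw [h0, orderOf_one] at ha4; omega)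
    omega
  · intro U hUT hU
    haveI := hU
    -- `U` has an involution outside `⟨a⟩`
    obtain ⟨c, hcU, hca⟩ : ∃ c ∈ U, c ∉ zpowers a := by
      by_contra hno
      push Not at hno
      haveI : IsCyclic U := isCyclic_of_injective (inclusion (show U ≤ zpowers a from hno)) (inclusion_injective _)
      exact IsKleinFour.not_isCyclic (G := U) inferInstance
    have hz : a ^ 2 ∈ U := by
      -- `U ⊓ ⟨a⟩` has order two
      obtain ⟨d, hd, hdc, hd1⟩ : ∃ d ∈ U, d ≠ c ∧ d ≠ 1 := by
        by_contra hno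
        push Not at hno
        have hle : U ≤ zpowers c := fun x hx => by
          by_cases hxc : x = c
          · exact hxc ▸ mem_zpowers c
          · exact (hno x hx hxc) ▸ one_mem _
        have := card_le_of_le hle
        rw [IsKleinFour.card_four, Nat.card_zpowers, klein_orderOf hcU (fun h0 => hca (h0 ▸ one_mem _))] at this
        omega
      obtain ⟨e, heU, hea, he1⟩ : ∃ e ∈ U, e ∈ zpowers a ∧ e ≠ 1 := by
        by_cases hda : d ∈ zpowers a
        · exact ⟨d, hd, hda, hd1⟩
        refine ⟨d * c⁻¹, mul_mem hd (inv_mem hcU), ?_, fun h0 => hdc (mul_inv_eq_one.mp h0)⟩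
        have h1 := (hcoset d (hUT hd)).resolve_left hda
        have h2 := (hcoset c (hUT hcU)).resolve_left hca
        have := mul_mem h1 (inv_mem h2)
        simpa [mul_assoc] using this
      have heo := klein_orderOf heU he1
      obtain ⟨i, hi⟩ := mem_zpowers_iff.mp hea
      rcases Int.even_or_odd i with ⟨j, rfl⟩ | ⟨j, rfl⟩
      · rcases Int.even_or_odd j with ⟨k, rfl⟩ | ⟨k, rfl⟩
        · refine absurd ?_ he1
          rw [← hi, show k + k + (k + k) = ((4 : ℕ) : ℤ) * k by push_cast; ring, zpow_mul, zpow_natCast,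
            ← ha4, pow_orderOf_eq_one, one_zpow]
        · have : e = a ^ 2 := by
            rw [← hi, show 2 * k + 1 + (2 * k + 1) = ((4 : ℕ) : ℤ) * k + (2 : ℕ) by push_cast; ring, zpow_add,
              zpow_mul, zpow_natCast, zpow_natCast, ← ha4, pow_orderOf_eq_one, one_zpow, one_mul]
          exact this ▸ heU
      · have h2 : a ^ ((2 * j + 1) * 2) = 1 := by
          rw [zpow_mul, hi, show (2 : ℤ) = ((2 : ℕ) : ℤ) from rfl, zpow_natCast, ← heo, pow_orderOf_eq_one]
        rw [← orderOf_dvd_iff_zpow_eq_one, ha4] at h2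
        omega
    obtain ⟨i, hi⟩ := mem_zpowers_iff.mp ((hcoset c (hUT hcU)).resolve_left hca)
    have hc_eq : c = a ^ i * b := by rw [hi]; group
    have hVU : ∀ v, v ∈ U → v ∈ (T : Subgroup G) → v ∉ zpowers a → U = V v := fun v hv hvT hva => by
      haveI := (hV v hvT hva).1
      refine (eq_of_le_of_card_ge (sup_le (zpowers_le.mpr hv) (zpowers_le.mpr hz)) ?_).symm
      rw [show Nat.card ↥(zpowers v ⊔ zpowers (a ^ 2)) = 4 from (IsKleinFour.card_four (G := V v)),
        IsKleinFour.card_four]
    rcases Int.even_or_odd i with ⟨j, rfl⟩ | ⟨j, rfl⟩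
    · left
      refine hVU b ?_ hb hba
      have : b = ((a ^ 2) ^ j)⁻¹ * c := by
        rw [hc_eq, ← zpow_natCast, ← zpow_mul, ← two_mul]; push_cast; group
      exact this ▸ mul_mem (inv_mem (zpow_mem hz j)) hcU
    · right
      refine hVU (a * b) ?_ habT haba
      have : a * b = ((a ^ 2) ^ j)⁻¹ * c := by
        rw [hc_eq, ← zpow_natCast, ← zpow_mul, zpow_add]; push_cast; group
      exact this ▸ mul_mem (inv_mem (zpow_mem hz j)) hcU

theorem card_le_of_ne_top (h : Nat.card G = 168) {M : Subgroup G} (hM : M ≠ ⊤) : Nat.card M ≤ 24 := by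
  have h1 := Cfsg.Lib.Small.two_mul_card_dvd_index_factorial (hnc h) M hM
  have h2 := M.index_mul_card
  rw [h] at h1 h2
  have hi : 7 ≤ M.index := by
    by_contra hlt
    have hle : M.index.factorial ≤ (6 : ℕ).factorial := Nat.factorial_le (by omega)
    generalize M.index = n at h1 hlt
    interval_cases n <;> norm_num [Nat.factorial] at h1
  have : 7 * Nat.card M ≤ 168 := h2 ▸ Nat.mul_le_mul_right _ hi
  omega

/-- A subgroup with a normal subgroup of order four normalises a Klein four subgroup. -/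
theorem le_normalizer_four (h : Nat.card G = 168) {M V : Subgroup G} (hV : Nat.card V = 4)
    (hMV : M ≤ normalizer (V : Set G)) (h3 : 3 ∣ Nat.card M) :
    IsKleinFour V := by
  classical
  haveI : Fact (Nat.Prime 2) := ⟨Nat.prime_two⟩
  have hncyc : ¬ IsCyclic V := by
    intro hc
    obtain ⟨⟨v, hv⟩, hvo⟩ := IsCyclic.exists_ofOrder_eq_natCard (α := V)
    rw [Subgroup.orderOf_mk, hV] at hvo
    obtain ⟨⟨y, hyM⟩, hy⟩ := exists_prime_orderOf_dvd_card' (G := M) (hp := ⟨Nat.prime_three⟩) 3 h3
    rw [Subgroup.orderOf_mk] at hy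
    have hz : zpowers v = V := eq_of_le_of_card_ge (zpowers_le.mpr hv) (by rw [hV, Nat.card_zpowers, hvo])
    have hmem : y * v * y⁻¹ ∈ zpowers v := by
      rw [hz]; exact (mem_normalizer_iff.mp (hMV hyM) v).mp hv
    obtain ⟨i, hi⟩ := mem_zpowers_iff.mp hmem
    have hodd : Odd i := by
      by_contra hev
      rw [Int.not_odd_iff_even] at hev
      obtain ⟨j, rfl⟩ := hev
      have h2 : orderOf (y * v * y⁻¹) ∣ 2 := orderOf_dvd_of_pow_eq_one (by
        rw [← hi, ← zpow_natCast, ← zpow_mul, show (j + j) * ((2 : ℕ) : ℤ) = ((4 : ℕ) : ℤ) * j by push_cast; ring,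
          zpow_mul, zpow_natCast, ← hvo, pow_orderOf_eq_one, one_zpow])
      rw [show orderOf (y * v * y⁻¹) = orderOf v from (MulAut.conj y).orderOf_eq v, hvo] at h2
      omega
    obtain ⟨j, rfl⟩ := hodd
    have hfix : y * v ^ 2 * y⁻¹ = v ^ 2 := by
      rw [← conj_pow, ← hi, ← zpow_natCast, ← zpow_mul,
        show (2 * j + 1) * ((2 : ℕ) : ℤ) = ((4 : ℕ) : ℤ) * j + (2 : ℕ) by push_cast; ring, zpow_add, zpow_mul,
        zpow_natCast, zpow_natCast, ← hvo, pow_orderOf_eq_one, one_zpow, one_mul]
    have hv2 : v ^ 2 ∈ zpowers y := card_centralizer_three h hy ▸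
      mem_centralizer_singleton_iff.mpr (mul_inv_eq_iff_eq_mul.mp hfix).symm
    have hd := orderOf_dvd_of_mem_zpowers hv2
    rw [orderOf_pow_of_dvd (by norm_num) (by rw [hvo]; norm_num), hvo, hy] at hd
    omega
  refine ⟨hV, Nat.dvd_antisymm (Monoid.exponent_dvd_of_forall_pow_eq_one fun x => ?_) ?_⟩
  · obtain ⟨j, -, hj⟩ := (Nat.dvd_prime_pow Nat.prime_two (m := 2)).mp
      (show orderOf x ∣ 2 ^ 2 by rw [show (2 : ℕ) ^ 2 = 4 by norm_num, ← hV]; exact _root_.orderOf_dvd_natCard x)
    rcases lt_or_ge j 2 with hj2 | hj2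
    · rw [← orderOf_dvd_iff_pow_eq_one, hj]
      exact (pow_dvd_pow 2 (show j ≤ 1 by omega)).trans (dvd_of_eq (pow_one 2))
    · exfalso
      refine hncyc (isCyclic_of_orderOf_eq_card x (Nat.dvd_antisymm (_root_.orderOf_dvd_natCard x) ?_))
      rw [hV, hj]
      exact (show (4 : ℕ) ∣ 2 ^ j from (dvd_of_eq (by norm_num)).trans (pow_dvd_pow 2 hj2))
  · obtain ⟨x, hx⟩ := exists_prime_orderOf_dvd_card' (G := V) 2 (by rw [hV]; norm_num)
    exact (dvd_of_eq hx.symm).trans (Monoid.order_dvd_exponent x)

/-- Every proper subgroup normalises a Sylow 7-subgroup or a Klein four subgroup. -/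
theorem overgroup (h : Nat.card G = 168) {M : Subgroup G} (hM : M ≠ ⊤) :
    (∃ Q : Sylow 7 G, M ≤ normalizer ((Q : Subgroup G) : Set G)) ∨
      ∃ U : Subgroup G, IsKleinFour U ∧ M ≤ normalizer (U : Set G) := by
  classical
  haveI : Fact (Nat.Prime 2) := ⟨Nat.prime_two⟩
  haveI : Fact (Nat.Prime 3) := ⟨Nat.prime_three⟩
  haveI : Fact (Nat.Prime 7) := ⟨by norm_num⟩
  have hle := card_le_of_ne_top h hM
  have hd : Nat.card M ∣ 168 := h ▸ M.card_subgroup_dvd_card
  by_cases h7 : 7 ∣ Nat.card M
  · left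
    obtain ⟨S⟩ : Nonempty (Sylow 7 M) := inferInstance
    obtain ⟨m, hm⟩ := h7
    have hm7 : ¬ 7 ∣ m := fun hdd => by
      obtain ⟨r, rfl⟩ := hdd
      have h49 : 49 ∣ 168 := (Dvd.intro r (by rw [hm]; ring)).trans hd
      norm_num at h49
    obtain ⟨h1, h2⟩ := Cfsg.Lib.Small.sylow_facts S (a := 1) (m := m) (by rw [hm]; ring) hm7
    have hm0 : 0 < m := by
      have : 0 < Nat.card M := Nat.card_pos
      omega
    have hn1 := Nat.le_of_dvd hm0 h1
    haveI : Subsingleton (Sylow 7 M) := Finite.card_le_one_iff_subsingleton.mp (by omega)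
    haveI := Sylow.normal_of_subsingleton S
    have hSc : Nat.card ((S : Subgroup M).map M.subtype) = 7 := by
      rw [card_map_of_injective M.subtype_injective,
        Cfsg.Lib.Small.card_sylow_of_factor S (a := 1) (m := m) (by rw [hm]; ring) hm7, pow_one]
    have hni : ¬ 7 ∣ ((S : Subgroup M).map M.subtype).index := fun hdd => by
      have h3 := ((S : Subgroup M).map M.subtype).card_mul_index
      rw [hSc, h] at h3
      omega
    refine ⟨(S.2.map M.subtype).toSylow hni, ?_⟩
    have hSn : M ≤ normalizer ((((S : Subgroup M).map M.subtype) : Subgroup G) : Set G) := by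
      refine (normal_subgroupOf_iff_le_normalizer (map_subtype_le _)).mp ?_
      rw [subgroupOf, comap_map_eq_self_of_injective M.subtype_injective]
      infer_instance
    exact hSn
  right
  -- a fixed Klein four subgroup
  obtain ⟨T₀⟩ : Nonempty (Sylow 2 G) := inferInstance
  obtain ⟨U₀, -, -, -, -, hU₀, -, -⟩ := klein_two h T₀
  by_cases h3 : 3 ∣ Nat.card M
  swap
  · -- a 2-group
    have h8 : Nat.card M ∣ 8 := by
      have hc3 : (Nat.card M).Coprime 3 := ((Nat.prime_three.coprime_iff_not_dvd).mpr h3).symm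
      have hc7 : (Nat.card M).Coprime 7 := (((by norm_num : Nat.Prime 7).coprime_iff_not_dvd).mpr h7).symm
      have hc : (Nat.card M).Coprime 21 := (hc3.mul_right hc7 :)
      exact hc.dvd_of_dvd_mul_left (show Nat.card M ∣ 21 * 8 from hd)
    obtain ⟨k, -, hk⟩ := (Nat.dvd_prime_pow Nat.prime_two (m := 3)).mp h8
    obtain ⟨T, hT⟩ := (IsPGroup.of_card hk).exists_le_sylow
    obtain ⟨U, -, -, hUT, -, hU, -, -⟩ := klein_two h T
    haveI := hU
    exact ⟨U, hU, hT.trans (le_normalizer_klein h hUT)⟩
  obtain ⟨m, hm⟩ := h3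
  obtain ⟨S⟩ : Nonempty (Sylow 3 M) := inferInstance
  have hm3 : ¬ 3 ∣ m := fun hdd => by
    obtain ⟨r, rfl⟩ := hdd
    have h9 : 9 ∣ 168 := (Dvd.intro r (by rw [hm]; ring)).trans hd
    norm_num at h9
  obtain ⟨h1, h2⟩ := Cfsg.Lib.Small.sylow_facts S (a := 1) (m := m) (by rw [hm]; ring) hm3
  have hm0 : 0 < m := by
    have : 0 < Nat.card M := Nat.card_pos
    omega
  have hm8 : m ∣ 8 := by
    have hd' : 3 * m ∣ 3 * 56 := by rw [← hm]; exact hd
    have h56 : m ∣ 7 * 8 := Nat.dvd_of_mul_dvd_mul_left (by norm_num) hd'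
    have hc7 : m.Coprime 7 := (((by norm_num : Nat.Prime 7).coprime_iff_not_dvd).mpr fun hdd =>
      h7 (hm ▸ hdd.mul_left 3)).symm
    exact hc7.dvd_of_dvd_mul_left h56
  by_cases hn1 : Nat.card (Sylow 3 M) = 1
  · -- inside the normaliser of a group of order three
    haveI : Subsingleton (Sylow 3 M) := Finite.card_le_one_iff_subsingleton.mp hn1.le
    haveI := Sylow.normal_of_subsingleton S
    obtain ⟨⟨s, hs⟩, hso⟩ := exists_prime_orderOf_dvd_card' (G := (S : Subgroup M)) 3
      (S.dvd_card_of_dvd_card (by rw [hm]; exact dvd_mul_right 3 m))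
    rw [Subgroup.orderOf_mk] at hso
    have hy : orderOf (s : G) = 3 := by rw [Subgroup.orderOf_coe, hso]
    obtain ⟨P, hyP⟩ := exists_sylow_of_orderOf (p := 3) hy
    have hPy : zpowers (s : G) = (P : Subgroup G) :=
      eq_of_le_of_card_ge (zpowers_le.mpr hyP) (by rw [sylow_three_card h P, Nat.card_zpowers, hy])
    have hSmap : (S : Subgroup M).map M.subtype = zpowers (s : G) := by
      refine (eq_of_le_of_card_ge (zpowers_le.mpr (mem_map_of_mem M.subtype hs)) ?_).symm
      rw [card_map_of_injective M.subtype_injective,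
        Cfsg.Lib.Small.card_sylow_of_factor S (a := 1) (m := m) (by rw [hm]; ring) hm3, pow_one,
        Nat.card_zpowers, show orderOf (M.subtype s) = 3 from hy]
    have hMN : M ≤ normalizer ((P : Subgroup G) : Set G) := by
      rw [← hPy, ← hSmap]
      refine (normal_subgroupOf_iff_le_normalizer (map_subtype_le _)).mp ?_
      rw [subgroupOf, comap_map_eq_self_of_injective M.subtype_injective]
      infer_instance
    -- the element lies in a conjugate of the normaliser of `U₀`
    haveI := hU₀
    obtain ⟨hN24, -⟩ := normalizer_klein h U₀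
    obtain ⟨⟨w, hwN⟩, hw⟩ := exists_prime_orderOf_dvd_card' (G := normalizer (U₀ : Set G)) 3
      (by rw [hN24]; norm_num)
    rw [Subgroup.orderOf_mk] at hw
    obtain ⟨g, hg⟩ := isConj_iff.mp (conj_three h hw hy)
    have hU : IsKleinFour (conjMap g U₀) := by
      let e : U₀ ≃* conjMap g U₀ := U₀.equivMapOfInjective _ (MulAut.conj g).injective
      exact ⟨(Nat.card_congr e.toEquiv).symm.trans IsKleinFour.card_four,
        (Monoid.exponent_eq_of_mulEquiv e).symm.trans IsKleinFour.exponent_two⟩
    haveI := hU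
    refine ⟨conjMap g U₀, hU, hMN.trans ?_⟩
    set N := normalizer ((conjMap g U₀ : Subgroup G) : Set G) with hNdef
    obtain ⟨hN24', -⟩ := normalizer_klein h (conjMap g U₀)
    have hsN : (s : G) ∈ N := by
      rw [hNdef, normalizer_conjMap, mem_conjMap, ← hg]
      simpa [mul_assoc] using hwN
    have hPN : (P : Subgroup G) ≤ N := hPy ▸ zpowers_le.mpr hsN
    obtain ⟨S'⟩ : Nonempty (Sylow 3 N) := inferInstance
    obtain ⟨k1, k2⟩ := Cfsg.Lib.Small.sylow_facts (P.subtype hPN) (a := 1) (m := 8)
      (by rw [hN24']; norm_num) (by norm_num)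
    have hk4 : Nat.card (Sylow 3 N) ≤ 4 := by
      have hle := Nat.le_of_dvd (by norm_num) k1
      generalize Nat.card (Sylow 3 N) = n at k1 k2 hle
      interval_cases n <;> omega
    have hmul := Cfsg.Lib.Small.card_normalizer_mul (P.subtype hPN)
    rw [hN24'] at hmul
    set L := normalizer (((P.subtype hPN : Sylow 3 N) : Subgroup N) : Set N) with hL
    have hLc : 6 ≤ Nat.card L := by
      have := Nat.mul_le_mul_left (Nat.card L) hk4
      omega
    have hLle : L.map N.subtype ≤ normalizer ((P : Subgroup G) : Set G) := by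
      have hco : ((P.subtype hPN : Sylow 3 N) : Subgroup N) = (P : Subgroup G).subgroupOf N :=
        Sylow.coe_subtype ..
      rintro _ ⟨n, hn, rfl⟩
      rw [hL, hco, SetLike.mem_coe, mem_normalizer_iff] at hn
      refine mem_normalizer_iff.mpr fun x => ⟨fun hx => ?_, fun hx => ?_⟩
      · exact mem_subgroupOf.mp ((hn ⟨x, hPN hx⟩).mp (mem_subgroupOf.mpr hx))
      · have hxN : x ∈ N := by
          have := mul_mem (mul_mem (inv_mem n.2) (hPN hx)) n.2
          simpa [mul_assoc] using this
        exact mem_subgroupOf.mp ((hn ⟨x, hxN⟩).mpr (mem_subgroupOf.mpr hx))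
    have heq : L.map N.subtype = normalizer ((P : Subgroup G) : Set G) := eq_of_le_of_card_ge hLle
      (by rw [card_map_of_injective N.subtype_injective, card_normalizer_three h P]; exact hLc)
    exact heq ▸ map_subtype_le _
  -- four Sylow 3-subgroups
  have hm48 : Nat.card (Sylow 3 M) = 4 ∧ (m = 4 ∨ m = 8) := by
    have hn := Nat.le_of_dvd hm0 h1
    have hm' := Nat.le_of_dvd (by norm_num) hm8
    generalize Nat.card (Sylow 3 M) = n at h1 h2 hn1 hn
    interval_cases m <;> interval_cases n <;> omega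
  suffices hV : ∃ V : Subgroup M, V.Normal ∧ Nat.card V = 4 by
    obtain ⟨V, hVn, hVc⟩ := hV
    have hVc' : Nat.card (V.map M.subtype) = 4 := by rw [card_map_of_injective M.subtype_injective, hVc]
    have hMV : M ≤ normalizer ((V.map M.subtype : Subgroup G) : Set G) := by
      refine (normal_subgroupOf_iff_le_normalizer (map_subtype_le _)).mp ?_
      rw [subgroupOf, comap_map_eq_self_of_injective M.subtype_injective]
      exact hVn
    exact ⟨_, le_normalizer_four h hVc' hMV (by rw [hm]; exact dvd_mul_right 3 m), hMV⟩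
  rcases hm48.2 with h4 | h8
  · -- order twelve
    obtain ⟨R⟩ : Nonempty (Sylow 2 M) := inferInstance
    have hMc : Nat.card M = 12 := by rw [hm, h4]
    have hRc : Nat.card (R : Subgroup M) = 4 := by
      rw [Cfsg.Lib.Small.card_sylow_of_factor R (a := 2) (m := 3) (by rw [hMc]; norm_num) (by norm_num)]
      norm_num
    haveI := Fintype.ofFinite M
    let A : Finset M := Finset.univ.filter fun x => orderOf x ≠ 3
    have hA : A.card ≤ 4 := by
      have hfac : ∀ P : Sylow 3 M, Nat.card (P : Subgroup M) = 3 := fun P => by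
        rw [Cfsg.Lib.Small.card_sylow_of_factor P (a := 1) (m := 4) (by rw [hMc]; norm_num) (by norm_num),
          pow_one]
      let F : Sylow 3 M × Bool → M := fun x =>
        let y := (exists_prime_orderOf_dvd_card' (G := (x.1 : Subgroup M)) 3 (by rw [hfac x.1])).choose
        if x.2 then (y : M) else (y : M)⁻¹
      have hy : ∀ P : Sylow 3 M, orderOf
          (exists_prime_orderOf_dvd_card' (G := (P : Subgroup M)) 3 (by rw [hfac P])).choose = 3 := fun P =>
        (exists_prime_orderOf_dvd_card' (G := (P : Subgroup M)) 3 (by rw [hfac P])).choose_spec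
      have hFmem : ∀ x, F x ∈ (x.1 : Subgroup M) ∧ orderOf (F x) = 3 := by
        rintro ⟨P, b⟩
        cases b
        · exact ⟨inv_mem (SetLike.coe_mem _), (orderOf_inv _).trans ((Subgroup.orderOf_coe _).trans (hy P))⟩
        · exact ⟨SetLike.coe_mem _, (Subgroup.orderOf_coe _).trans (hy P)⟩
      have hFi : Function.Injective F := by
        intro x x' he
        have hP : x'.1 = x.1 := Cfsg.Lib.Small.sylow_fixed_eq (hfac x.1) (hFmem x).1
          (fun h0 => by have := (hFmem x).2; rw [h0, orderOf_one] at this; omega)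
          (Sylow.smul_eq_iff_mem_normalizer.mpr (le_normalizer (he ▸ (hFmem x').1)))
        obtain ⟨P, b⟩ := x
        obtain ⟨P', b'⟩ := x'
        simp only at hP
        subst hP
        have hyy := hy P'
        cases b <;> cases b'
        · rfl
        · exfalso
          have he' : ((exists_prime_orderOf_dvd_card' (G := (P' : Subgroup M)) 3 (by rw [hfac P'])).choose : M)⁻¹ =
              ((exists_prime_orderOf_dvd_card' (G := (P' : Subgroup M)) 3 (by rw [hfac P'])).choose : M) := he
          rw [← Subgroup.orderOf_coe] at hyy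
          have hd : 3 ∣ 2 := hyy ▸ orderOf_dvd_of_pow_eq_one (by
            rw [pow_two]; nth_rewrite 1 [← he']; exact inv_mul_cancel _)
          omega
        · exfalso
          have he' : ((exists_prime_orderOf_dvd_card' (G := (P' : Subgroup M)) 3 (by rw [hfac P'])).choose : M)⁻¹ =
              ((exists_prime_orderOf_dvd_card' (G := (P' : Subgroup M)) 3 (by rw [hfac P'])).choose : M) := he.symm
          rw [← Subgroup.orderOf_coe] at hyy
          have hd : 3 ∣ 2 := hyy ▸ orderOf_dvd_of_pow_eq_one (by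
            rw [pow_two]; nth_rewrite 1 [← he']; exact inv_mul_cancel _)
          omega
        · rfl
      have h8' : 8 ≤ (Finset.univ.filter fun x : M => orderOf x = 3).card := by
        refine le_trans ?_ (Finset.card_le_card_of_injOn (s := (Finset.univ : Finset (Bool)) ×ˢ (Set.finite_univ (α := Sylow 3 M)).toFinset)
          (fun x => F (x.2, x.1)) (fun x _ => by simp [(hFmem _).2])
          (fun x _ y _ he => by
            have := hFi he
            simp only [Prod.mk.injEq] at this
            exact Prod.ext this.2 this.1))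
        rw [Finset.card_product, ← Set.ncard_eq_toFinset_card, Set.ncard_univ, hm48.1]
        rfl
      have hpart := Finset.card_filter_add_card_filter_not (s := (Finset.univ : Finset M)) (fun x => orderOf x = 3)
      rw [Finset.card_univ, ← Nat.card_eq_fintype_card, hMc] at hpart
      show (Finset.univ.filter fun x : M => orderOf x ≠ 3).card ≤ 4
      simp only [ne_eq]
      omega
    have huniq : ∀ R' : Sylow 2 M, ((R' : Subgroup M) : Set M) = A := by
      intro R'
      have hR'c : Nat.card (R' : Subgroup M) = 4 := (Nat.card_congr (Sylow.equiv R' R).toEquiv).trans hRc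
      refine Set.eq_of_subset_of_ncard_le (fun x hx => ?_) ?_ (Set.toFinite _)
      · have : orderOf x ∣ 4 := hR'c ▸ (R' : Subgroup M).orderOf_dvd_natCard hx
        simp only [A, Finset.coe_filter, Finset.mem_univ, true_and, Set.mem_setOf_eq]
        intro h0
        rw [h0] at this
        omega
      · rw [Set.ncard_coe_finset, ← Nat.card_coe_set_eq]
        exact hA.trans hR'c.ge
    haveI : Subsingleton (Sylow 2 M) := ⟨fun X Y => Sylow.ext (SetLike.coe_injective ((huniq X).trans (huniq Y).symm))⟩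
    exact ⟨R, Sylow.normal_of_subsingleton R, hRc⟩
  · -- order twenty-four
    obtain ⟨e⟩ := Cfsg.Agent.S1012.result (G := M) (by rw [hm, h8]) (fun g hg => by
      rw [← Subgroup.orderOf_coe] at hg
      rcases orderOf_three_or h (g : G) with k1 | k1 | k1 <;> rw [hg] at k1 <;> norm_num at k1)
    have hK := alternatingGroup.normal_kleinFour (α := Fin 4) (by simp)
    haveI := alternatingGroup.characteristic_kleinFour (α := Fin 4) (by simp)
    let K : Subgroup (Equiv.Perm (Fin 4)) :=
      (alternatingGroup.kleinFour (Fin 4)).map (alternatingGroup (Fin 4)).subtype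
    haveI : K.Normal := inferInstanceAs ((alternatingGroup.kleinFour (Fin 4)).map (alternatingGroup (Fin 4)).subtype).Normal
    refine ⟨K.comap e.toMonoidHom, inferInstance, ?_⟩
    rw [← card_map_of_injective (f := e.toMonoidHom) e.injective,
      map_comap_eq_self_of_surjective e.surjective]
    show Nat.card ((alternatingGroup.kleinFour (Fin 4)).map (alternatingGroup (Fin 4)).subtype) = 4
    rw [card_map_of_injective (alternatingGroup (Fin 4)).subtype_injective,
      alternatingGroup.kleinFour_card_of_card_eq_four (by simp)]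

theorem coatom_klein (h : Nat.card G = 168) (U : Subgroup G) [IsKleinFour U] :
    IsCoatom (normalizer (U : Set G)) := by
  obtain ⟨hc, -⟩ := normalizer_klein h U
  refine ⟨fun he => ?_, fun M hM => by_contra fun hne => ?_⟩
  · rw [he, card_top, h] at hc; omega
  · have := card_le_of_ne_top h hne
    exact hM.ne (eq_of_le_of_card_ge hM.le (by omega))

/-- The maximal subgroups. -/
theorem maximal (h : Nat.card G = 168) {M : Subgroup G} (hM : IsCoatom M) :
    (∃ U : Subgroup G, IsKleinFour U ∧ M = normalizer (U : Set G)) ∨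
      (Nat.card M = 21 ∧ ¬ IsMulCommutative M ∧
        ∃ Q : Sylow 7 G, M = normalizer ((Q : Subgroup G) : Set G)) := by
  haveI : Fact (Nat.Prime 7) := ⟨by norm_num⟩
  rcases overgroup h hM.1 with ⟨Q, hQ⟩ | ⟨U, hU, hMU⟩
  · right
    have hc := card_normalizer_seven h Q
    have hne : normalizer ((Q : Subgroup G) : Set G) ≠ ⊤ := fun he => by rw [he, card_top, h] at hc; omega
    have heq : M = normalizer ((Q : Subgroup G) : Set G) :=
      le_antisymm hQ (not_lt_iff_le_imp_ge.mp (fun hlt => hne (hM.2 _ hlt)) hQ)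
    have hMc : Nat.card M = 21 := by rw [heq]; exact hc
    refine ⟨hMc, fun hab => ?_, Q, heq⟩
    obtain ⟨⟨x, hxQ⟩, hx⟩ := exists_prime_orderOf_dvd_card' (G := (Q : Subgroup G)) 7
      (by rw [sylow_seven_card h Q])
    rw [Subgroup.orderOf_mk] at hx
    have hle : M ≤ zpowers x := card_centralizer_seven h hx ▸ fun m hm =>
      mem_centralizer_singleton_iff.mpr
        (congrArg Subtype.val (mul_comm' (⟨m, hm⟩ : M) ⟨x, heq ▸ le_normalizer hxQ⟩))
    have := card_le_of_le hle
    rw [Nat.card_zpowers, hx, hMc] at this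
    omega
  · left
    haveI := hU
    refine ⟨U, hU, le_antisymm hMU (not_lt_iff_le_imp_ge.mp (fun hlt => ?_) hMU)⟩
    exact (coatom_klein h U).1 (hM.2 _ hlt)

end Cfsg.Lib.Small.Order168
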