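import Cfsg.Agent.RankOne.SharpJordan
import Cfsg.Agent.S1013
import Cfsg.Prelude.Def_Sporadic

/-!
Sharply four-transitive groups of degree 11 and sharply five-transitive groups of degree 12 are
simple of order 7920 and 95040.
-/

namespace Cfsg.Lib.SharpMathieu

open Cfsg MulAction Cfsg.Lib.PermGroups

variable {α : Type*} [Fintype α] [DecidableEq α]

theorem isM11 (hα : Fintype.card α = 11) (G : Subgroup (Equiv.Perm α))
    [hG : IsMultiplyPretransitive G α 4] (hsharp : ∀ x : Fin 4 ↪ α, stabilizer G x = ⊥) : IsM11 G := by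
  classical
  have : Fact (Nat.Prime 11) := ⟨by norm_num⟩
  obtain ⟨x₀⟩ : Nonempty (Fin 4 ↪ α) := Function.Embedding.nonempty_of_card_le (by simp [hα])
  have hc : Nat.card G = 7920 := by
    rw [SharpJordan.card_group hG hsharp x₀, hα]; rfl
  refine ⟨?_, hc⟩
  have : IsPretransitive G α := by
    rw [← is_one_pretransitive_iff]
    exact isMultiplyPretransitive_of_le (n := 4) (by norm_num) (by simp [hα])
  obtain ⟨e, τ, hτ, hτe⟩ := PrimeDegree.exists_coord hα G
  obtain ⟨P, hP⟩ := PrimeDegree.sylow_coord hα G hτ hτe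
  set N := Subgroup.normalizer ((P : Subgroup G) : Set G) with hN
  have hPc : Nat.card (P : Subgroup G) = 11 := by
    rw [hP, Nat.card_zpowers, ← Subgroup.orderOf_coe]; exact PrimeDegree.orderOf_coord hτe
  have hle : Nat.card N ≤ 121 := by
    have h : ∀ g : N, ∃ c k : ZMod 11, ∀ i, e.symm (((g : G) : Equiv.Perm α) (e i)) = c + k * i := by
      rintro ⟨g, hg⟩
      refine PrimeDegree.affine_of_conj hτe ?_
      have h1 := (Subgroup.mem_normalizer_iff.mp hg ⟨τ, hτ⟩).mp (hP ▸ Subgroup.mem_zpowers _)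
      rw [hP] at h1
      obtain ⟨k, hk⟩ := Subgroup.mem_zpowers_iff.mp h1
      exact Subgroup.mem_zpowers_iff.mpr ⟨k, by simpa using congrArg Subtype.val hk⟩
    choose c k hck using h
    refine le_trans (Nat.card_le_card_of_injective (fun g => (c g, k g)) fun g g' hgg => ?_) (by simp)
    simp only [Prod.mk.injEq] at hgg
    refine Subtype.ext (Subtype.ext (Equiv.ext fun a => ?_))
    obtain ⟨i, rfl⟩ := e.surjective a
    exact e.symm.injective (by rw [hck, hck, hgg.1, hgg.2])
  have h11 : 11 ∣ Nat.card N := hPc ▸ Subgroup.card_dvd_of_le Subgroup.le_normalizer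
  have hmul : Nat.card (Sylow 11 G) * Nat.card N = 7920 := by
    rw [P.card_eq_index_normalizer, ← hc]; exact N.index_mul_card
  have hmod : Nat.card (Sylow 11 G) % 11 = 1 := card_sylow_modEq_one 11 G
  have h55 : Nat.card N = 55 := by
    obtain ⟨m, hm⟩ := h11
    rw [hm] at hmul hle ⊢
    have hm1 : m ≤ 11 := by omega
    interval_cases m <;> omega
  have hn : 1 < Nat.card (Sylow 11 G) := by rw [h55] at hmul; omega
  refine Cfsg.Agent.S1013.result hα G P hn ?_
  have hidx : ((P : Subgroup G).subgroupOf N).index * 11 = 55 := by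
    have h := Subgroup.index_mul_card ((P : Subgroup G).subgroupOf N)
    rwa [Nat.card_congr (Subgroup.subgroupOfEquivOfLe
      (Subgroup.le_normalizer : (P : Subgroup G) ≤ N)).toEquiv, hPc, h55] at h
  rw [show ((P : Subgroup G).subgroupOf N).index = 5 by omega]
  norm_num

theorem isM12 (hα : Fintype.card α = 12) (G : Subgroup (Equiv.Perm α))
    [hG : IsMultiplyPretransitive G α 5] (hsharp : ∀ x : Fin 5 ↪ α, stabilizer G x = ⊥) : IsM12 G := by
  classical
  obtain ⟨x₀⟩ : Nonempty (Fin 5 ↪ α) := Function.Embedding.nonempty_of_card_le (by simp [hα])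
  have hc : Nat.card G = 95040 := by
    rw [SharpJordan.card_group hG hsharp x₀, hα]; rfl
  refine ⟨?_, hc⟩
  have h2 : IsMultiplyPretransitive G α 2 :=
    isMultiplyPretransitive_of_le (n := 5) (by norm_num) (by simp [hα])
  have : IsPreprimitive G α := isPreprimitive_of_is_two_pretransitive h2
  obtain ⟨a⟩ : Nonempty α := Fintype.card_pos_iff.1 (by omega)
  let f : stabilizer G a →* Equiv.Perm {x : α // x ≠ a} := MonoidHom.mk'
    (fun g => ((g : G) : Equiv.Perm α).subtypePerm fun x => by
      have hga : ((g : G) : Equiv.Perm α) a = a := g.2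
      exact ⟨fun h e => h (e ▸ hga), fun h e => h (((g : G) : Equiv.Perm α).injective (e.trans hga.symm))⟩)
    fun g h => Equiv.ext fun x => Subtype.ext rfl
  let ext' : (Fin 4 ↪ {x : α // x ≠ a}) → (Fin 5 ↪ α) := fun x =>
    ⟨Fin.cons a fun i => (x i : α), by
      rw [Fin.cons_injective_iff]
      exact ⟨fun ⟨i, hi⟩ => (x i).2 hi, Subtype.val_injective.comp x.injective⟩⟩
  have hfinj : Function.Injective f := by
    intro g g' h
    refine Subtype.ext (Subtype.ext (Equiv.ext fun x => ?_))
    by_cases hx : x = a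
    · subst hx; exact g.2.trans g'.2.symm
    · exact congrArg Subtype.val (DFunLike.congr_fun h ⟨x, hx⟩)
  have hKtr : IsMultiplyPretransitive f.range {x : α // x ≠ a} 4 := ⟨fun x y => by
    obtain ⟨g, hg⟩ := SharpJordan.exists_map hG (ext' x) (ext' y)
    have hga : g ∈ stabilizer G a := mem_stabilizer_iff.2 (by simpa [ext'] using hg 0)
    refine ⟨⟨f ⟨g, hga⟩, _, rfl⟩, DFunLike.ext _ _ fun i => Subtype.ext ?_⟩
    have := hg i.succ
    simp only [ext', Function.Embedding.coeFn_mk, Fin.cons_succ] at this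
    exact this⟩
  have hKsharp : ∀ x : Fin 4 ↪ {x : α // x ≠ a}, stabilizer f.range x = ⊥ := by
    intro x
    rw [Subgroup.eq_bot_iff_forall]
    rintro ⟨_, g, rfl⟩ hp
    have h1 : (g : G) = 1 := by
      refine SharpJordan.eq_one_of_fixes hsharp (ext' x) fun i => ?_
      refine Fin.cases ?_ (fun j => ?_) i
      · simpa [ext'] using mem_stabilizer_iff.1 g.2
      · have h2 := congrArg Subtype.val (DFunLike.congr_fun (mem_stabilizer_iff.1 hp) j)
        simp only [ext', Function.Embedding.coeFn_mk, Fin.cons_succ]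
        exact h2
    exact Subtype.ext ((congrArg f (show g = 1 from Subtype.ext h1)).trans (map_one f))
  have hsimp := (isM11 (α := {x : α // x ≠ a}) (by have := SharpJordan.card_ne a; omega) f.range hKsharp).1
  have hsimpA : IsSimpleGroup (stabilizer G a) :=
    (MonoidHom.ofInjective hfinj).isSimpleGroup
  have : Nontrivial G := Finite.one_lt_card_iff_nontrivial.1 (by omega)
  refine { eq_bot_or_eq_top_of_normal := fun N hNn => or_iff_not_imp_left.2 fun hN => ?_ }
  have htr : IsPretransitive N α := IsQuasiPreprimitive.isPretransitive_of_normal (G := G) fun h => hN (by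
    rw [Subgroup.eq_bot_iff_forall]
    intro n hn
    refine eq_of_smul_eq_smul (α := α) fun z => ?_
    rw [one_smul]
    exact (h.symm ▸ Set.mem_univ z : z ∈ fixedPoints N α) ⟨n, hn⟩)
  rcases hsimpA.eq_bot_or_eq_top_of_normal (N.subgroupOf (stabilizer G a)) inferInstance with h | h
  · exfalso
    have hreg : ∀ n ∈ N, n • a = a → n = 1 := fun n hn hna =>
      congrArg Subtype.val ((Subgroup.eq_bot_iff_forall _).1 h ⟨n, mem_stabilizer_iff.2 hna⟩ hn)
    have hbij : Function.Bijective fun n : N => (n : G) • a := by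
      refine ⟨fun n m hnm => ?_, fun b => ?_⟩
      · refine Subtype.ext (inv_mul_eq_one.1 (hreg _ (N.mul_mem (N.inv_mem m.2) n.2) ?_)).symm
        rw [mul_smul]
        exact inv_smul_eq_iff.2 hnm
      · obtain ⟨n, hn⟩ := exists_smul_eq N a b
        exact ⟨n, hn⟩
    have hcN : Nat.card N = 12 := by
      rw [Nat.card_eq_of_bijective _ hbij, Nat.card_eq_fintype_card, hα]
    have horder : ∀ n ∈ N, ∀ m ∈ N, n ≠ 1 → m ≠ 1 → orderOf n = orderOf m := by
      intro n hn m hm hn1 hm1
      have hna : a ≠ n • a := fun e => hn1 (hreg n hn e.symm)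
      have hma : a ≠ m • a := fun e => hm1 (hreg m hm e.symm)
      obtain ⟨g, hga, hgn⟩ := (is_two_pretransitive_iff.1 h2) hna hma
      have hginv : g⁻¹ • a = a := inv_smul_eq_iff.2 hga.symm
      have h1 : (g * n * g⁻¹) • a = m • a := by rw [mul_smul, mul_smul, hginv, hgn]
      have h2 : m⁻¹ * (g * n * g⁻¹) = 1 :=
        hreg _ (N.mul_mem (N.inv_mem hm) (hNn.conj_mem n hn g)) (by rw [mul_smul]; exact inv_smul_eq_iff.2 h1)
      rw [inv_mul_eq_one.1 h2]
      exact (orderOf_injective (MulAut.conj g).toMonoidHom (MulAut.conj g).injective n).symm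
    have : Fact (Nat.Prime 2) := ⟨Nat.prime_two⟩
    have : Fact (Nat.Prime 3) := ⟨Nat.prime_three⟩
    obtain ⟨u, hu⟩ := exists_prime_orderOf_dvd_card' (G := N) 2 (by rw [hcN]; norm_num)
    obtain ⟨v, hv⟩ := exists_prime_orderOf_dvd_card' (G := N) 3 (by rw [hcN]; norm_num)
    have := horder u u.2 v v.2 (fun e => by rw [← Subgroup.orderOf_coe, e, orderOf_one] at hu; omega)
      (fun e => by rw [← Subgroup.orderOf_coe, e, orderOf_one] at hv; omega)
    rw [Subgroup.orderOf_coe, Subgroup.orderOf_coe, hu, hv] at this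
    omega
  · rw [Subgroup.eq_top_iff']
    intro g
    obtain ⟨n, hn⟩ := exists_smul_eq N a (g • a)
    have hmem : (n : G)⁻¹ * g ∈ stabilizer G a :=
      mem_stabilizer_iff.2 (by rw [mul_smul]; exact inv_smul_eq_iff.2 hn.symm)
    have : (n : G)⁻¹ * g ∈ N := by
      have h' : (⟨_, hmem⟩ : stabilizer G a) ∈ N.subgroupOf (stabilizer G a) := h ▸ Subgroup.mem_top _
      exact h'
    simpa using N.mul_mem n.2 this

end Cfsg.Lib.SharpMathieu
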