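import Mathlib
import Cfsg.Agent.Small.Toolkit
import Cfsg.Agent.Transfer.ThompsonTransfer

/-!
# Orders excluded by intersections of Sylow subgroups
-/

namespace Cfsg.Lib.Small

open MulAction
open scoped Pointwise

universe u

variable {G : Type u} [Group G] [Finite G]

section

variable {p : ℕ} [Fact p.Prime]

omit [Finite G] in
/-- A subgroup of index `p` in a finite `p`-subgroup is normalised by it. -/
theorem le_normalizer_of_relIndex_eq {X R : Subgroup G} [Finite R] (hR : IsPGroup p R) (hX : X ≤ R)
    (h : X.relIndex R = p) : R ≤ Subgroup.normalizer (X : Set G) := by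
  have hn : (X.subgroupOf R).Normal := by
    refine Subgroup.normal_of_index_eq_minFac_card ?_
    obtain ⟨a, ha⟩ := hR.exists_card_eq
    have ha0 : a ≠ 0 := fun e => by
      have h1 := Subgroup.index_dvd_card (X.subgroupOf R)
      rw [← Subgroup.relIndex, h, ha, e, pow_zero] at h1
      exact (Fact.out : p.Prime).ne_one (Nat.dvd_one.1 h1)
    rw [ha, Nat.Prime.pow_minFac Fact.out ha0]
    exact h
  exact (Subgroup.normal_subgroupOf_iff_le_normalizer hX).1 hn

/-- Two Sylow subgroups meeting in index `p` lie in the normalizer of the intersection. -/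
theorem exists_inter_normalizer {a : ℕ} (P : Sylow p G) (hP : Nat.card ↥(P : Subgroup G) = p ^ a)
    (h : ¬ Nat.card (Sylow p G) ≡ 1 [MOD p ^ 2]) :
    ∃ R : Sylow p G, P ≠ R ∧ Nat.card ↥((P : Subgroup G) ⊓ R) * p = p ^ a ∧
      (P : Subgroup G) ≤ Subgroup.normalizer (((P : Subgroup G) ⊓ R : Subgroup G) : Set G) ∧
      (R : Subgroup G) ≤ Subgroup.normalizer (((P : Subgroup G) ⊓ R : Subgroup G) : Set G) := by
  have hp := (Fact.out : p.Prime)
  obtain ⟨R, hne, hle⟩ := exists_inter_index_le 2 h P
  rw [show 2 - 1 = 1 from rfl, pow_one] at hle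
  have hidx : ((R : Subgroup G).subgroupOf (P : Subgroup G)).index = p := by
    have h1 := Subgroup.index_dvd_card ((R : Subgroup G).subgroupOf (P : Subgroup G))
    rw [hP] at h1
    obtain ⟨j, -, hj⟩ := (Nat.dvd_prime_pow hp).1 h1
    rcases j with _ | _ | j
    · refine absurd ?_ hne
      rw [pow_zero, Subgroup.index_eq_one, Subgroup.subgroupOf_eq_top] at hj
      exact Sylow.ext (P.is_maximal' R.2 hj).symm
    · rw [hj, pow_one]
    · rw [hj] at hle
      exact absurd hle (not_le.2 (lt_of_lt_of_le (by nlinarith [hp.two_le] : p < p ^ 2)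
        (Nat.pow_le_pow_right hp.pos (by omega))))
  have hrel : ((P : Subgroup G) ⊓ R).relIndex P = p := by
    rw [Subgroup.inf_relIndex_left]
    exact hidx
  have hmul : Nat.card ↥((P : Subgroup G) ⊓ R) * p = p ^ a := by
    have h1 := Subgroup.card_mul_index (((P : Subgroup G) ⊓ R).subgroupOf (P : Subgroup G))
    rwa [Nat.card_congr (Subgroup.subgroupOfEquivOfLe inf_le_left).toEquiv, ← Subgroup.relIndex,
      hrel, hP] at h1
  refine ⟨R, hne, hmul, le_normalizer_of_relIndex_eq P.2 inf_le_left hrel,
    le_normalizer_of_relIndex_eq R.2 inf_le_right ?_⟩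
  have h1 := Subgroup.card_mul_index (((P : Subgroup G) ⊓ R).subgroupOf (R : Subgroup G))
  rw [Nat.card_congr (Subgroup.subgroupOfEquivOfLe inf_le_right).toEquiv, ← Subgroup.relIndex,
    Nat.card_congr (R.equiv P).toEquiv, hP, ← hmul] at h1
  exact Nat.eq_of_mul_eq_mul_left Nat.card_pos h1

/-- The data of a proper subgroup with several Sylow subgroups. -/
theorem exists_inter_data [IsSimpleGroup G] (hnc : ¬ ∀ a b : G, a * b = b * a) {a m : ℕ}
    (hG : Nat.card G = p ^ a * m) (hm : ¬ p ∣ m) (ha : 2 ≤ a) (P : Sylow p G)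
    (h : ¬ Nat.card (Sylow p G) ≡ 1 [MOD p ^ 2]) :
    ∃ (R : Sylow p G) (k j : ℕ), P ≠ R ∧
      Nat.card ↥((P : Subgroup G) ⊓ R) * p = p ^ a ∧
      (P : Subgroup G) ≤ Subgroup.normalizer (((P : Subgroup G) ⊓ R : Subgroup G) : Set G) ∧
      (R : Subgroup G) ≤ Subgroup.normalizer (((P : Subgroup G) ⊓ R : Subgroup G) : Set G) ∧
      k % p = 1 ∧ k ≠ 1 ∧ k * j ∣ m ∧
      Nat.card ↥(Subgroup.normalizer (((P : Subgroup G) ⊓ R : Subgroup G) : Set G) ⊓
        Subgroup.normalizer ((P : Subgroup G) : Set G)) = j * p ^ a ∧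
      (Subgroup.normalizer (((P : Subgroup G) ⊓ R : Subgroup G) : Set G)).index * (k * j) = m ∧
      2 * Nat.card G ∣
        (Subgroup.normalizer (((P : Subgroup G) ⊓ R : Subgroup G) : Set G)).index.factorial ∧
      Nat.card ↥(Subgroup.normalizer (((P : Subgroup G) ⊓ R : Subgroup G) : Set G)) =
        k * j * p ^ a := by
  have hp := (Fact.out : p.Prime)
  have hP := card_sylow_of_factor P hG hm
  obtain ⟨R, hne, hX, hPH, hRH⟩ := exists_inter_normalizer P hP h
  set X := (P : Subgroup G) ⊓ R with hXdef
  set H := Subgroup.normalizer (X : Set G) with hHdef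
  have hXne : X ≠ ⊥ := fun e => by
    rw [e, Subgroup.card_bot, one_mul] at hX
    have : p ^ 1 = p ^ a := by rw [pow_one]; exact hX
    have := Nat.pow_right_injective hp.two_le this
    omega
  have hH : H ≠ ⊤ := fun e => by
    rcases (Subgroup.normalizer_eq_top_iff.1 e).eq_bot_or_eq_top with h1 | h1
    · exact hXne h1
    · have h2 : Nat.card X = Nat.card G := by rw [h1, Subgroup.card_top]
      rw [h2, hG] at hX
      have hpa : 0 < p ^ a := pow_pos hp.pos a
      have h3 : m * p = 1 := Nat.eq_of_mul_eq_mul_left hpa (by rw [mul_one, ← mul_assoc, hX])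
      exact hp.ne_one (Nat.eq_one_of_mul_eq_one_left h3)
  obtain ⟨k, hk, hcard, hk1⟩ := exists_card_eq_mul_inf_normalizer P hPH
  have hkne : k ≠ 1 := fun e => hne (Sylow.ext (R.is_maximal' P.2 (by
    have h2 : (R : Subgroup G) ≤ Subgroup.normalizer ((P : Subgroup G) : Set G) :=
      hRH.trans (hk1 e)
    exact inf_eq_left.1 ((R.2.inf_normalizer_sylow P).symm.trans (inf_eq_left.2 h2)))))
  obtain ⟨j, hj⟩ := Subgroup.card_dvd_of_le (le_inf hPH Subgroup.le_normalizer :
    (P : Subgroup G) ≤ H ⊓ Subgroup.normalizer ((P : Subgroup G) : Set G))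
  rw [hP, mul_comm] at hj
  have hHc : Nat.card H = k * j * p ^ a := by rw [hcard, hj, mul_assoc]
  have hi : H.index * (k * j) = m := by
    have h1 := Subgroup.card_mul_index H
    rw [hHc, hG] at h1
    exact Nat.eq_of_mul_eq_mul_left (pow_pos hp.pos a) (by rw [← h1]; ring)
  exact ⟨R, k, j, hne, hX, hPH, hRH, hk, hkne, Dvd.intro_left _ hi, hj, hi,
    two_mul_card_dvd_index_factorial hnc H hH, hHc⟩

end

section Order5400

theorem small_factorial : ∀ i < 10, ¬ 2 * 5400 ∣ i.factorial := by decide +kernel

theorem small_pairs' : ((List.range 22).all fun k => (List.range 22).all fun j =>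
    decide (k % 5 ≠ 1) || decide (k = 1) || decide (21 < k * j) || decide (216 % (k * j) ≠ 0) ||
      (decide (k = 6) && (decide (j = 1) || decide (j = 2) || decide (j = 3)))) = true := by
  decide +kernel

theorem small_pairs (k : ℕ) (hk : k ≤ 21) (j : ℕ) (hj : j ≤ 21) (h1 : k % 5 = 1) (h2 : k ≠ 1)
    (h3 : k * j ≤ 21) (h4 : k * j ∣ 216) : k = 6 ∧ (j = 1 ∨ j = 2 ∨ j = 3) := by
  have h := small_pairs'
  rw [List.all_eq_true] at h
  have h' := h k (List.mem_range.2 (by omega))
  rw [List.all_eq_true] at h'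
  have h'' := h' j (List.mem_range.2 (by omega))
  simp only [Bool.or_eq_true, Bool.and_eq_true, decide_eq_true_eq, or_assoc] at h''
  have h5 := Nat.mod_eq_zero_of_dvd h4
  omega

variable [IsSimpleGroup G]

theorem card_ne_5400 : Nat.card G ≠ 5400 := by
  intro hG
  classical
  have hnc := not_comm_of_isSimple (G := G) (by rw [hG]; norm_num)
  have : Fact (Nat.Prime 5) := ⟨by norm_num⟩
  have hG' : Nat.card G = 5 ^ 2 * 216 := by rw [hG]; norm_num
  obtain ⟨P⟩ : Nonempty (Sylow 5 G) := Sylow.nonempty
  have h5 : 5 ∣ Nat.card G := by rw [hG]; norm_num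
  obtain ⟨hdvd, hmod⟩ := sylow_facts P hG' (by norm_num)
  have hne := card_sylow_ne_one (p := 5) hnc h5
  have hP : Nat.card ↥(P : Subgroup G) = 25 := card_sylow_of_factor P hG' (by norm_num)
  have hNmul := card_normalizer_mul P
  rw [hG] at hNmul
  have hcases : Nat.card (Sylow 5 G) = 6 ∨ Nat.card (Sylow 5 G) = 36 ∨ Nat.card (Sylow 5 G) = 216 := by
    have key : ∀ d ∈ Nat.divisors 216, d % 5 = 1 → d ≠ 1 → d = 6 ∨ d = 36 ∨ d = 216 := by decide +kernel
    exact key _ (Nat.mem_divisors.2 ⟨hdvd, by norm_num⟩) hmod hne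
  rcases hcases with hn | hn | hn
  · have hi : (Subgroup.normalizer ((P : Subgroup G) : Set G)).index = Nat.card (Sylow 5 G) :=
      P.card_eq_index_normalizer.symm
    have h1 := two_mul_card_dvd_index_factorial hnc (Subgroup.normalizer ((P : Subgroup G) : Set G))
      (fun e => hne (by rw [← hi, e, Subgroup.index_top]))
    rw [hi, hn, hG] at h1
    norm_num [Nat.factorial] at h1
  swap
  · rw [hn] at hNmul
    have hN : Subgroup.normalizer ((P : Subgroup G) : Set G) = (P : Subgroup G) :=
      (Subgroup.eq_of_le_of_card_ge Subgroup.le_normalizer (by omega)).symm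
    refine not_normalizer_le_centralizer hnc h5 P ?_
    rw [hN]
    have hc : IsMulCommutative ↥(P : Subgroup G) :=
      IsPGroup.isMulCommutative_of_card_eq_prime_sq (p := 5) (hP.trans (by norm_num))
    exact Subgroup.le_centralizer (P : Subgroup G)
  rw [hn] at hNmul
  -- the local data of each intersection
  have hloc : ∀ R : Sylow 5 G, Nat.card ↥((P : Subgroup G) ⊓ R) = 5 →
      Nat.card (Sylow 5 ↥(Subgroup.normalizer (((P : Subgroup G) ⊓ R : Subgroup G) : Set G))) = 6 ∧
      Nat.card ↥(Subgroup.normalizer (((P : Subgroup G) ⊓ R : Subgroup G) : Set G) ⊓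
        Subgroup.normalizer ((P : Subgroup G) : Set G)) = 50 ∧
      (P : Subgroup G) ≤ Subgroup.normalizer (((P : Subgroup G) ⊓ R : Subgroup G) : Set G) ∧
      (R : Subgroup G) ≤ Subgroup.normalizer (((P : Subgroup G) ⊓ R : Subgroup G) : Set G) ∧ P ≠ R := by
    intro R hR
    set X := (P : Subgroup G) ⊓ R with hXdef
    have hPR : P ≠ R := fun e => by
      have h1 : X = (P : Subgroup G) := by rw [hXdef, ← e, inf_idem]
      rw [h1, hP] at hR
      omega
    have hRc : Nat.card ↥(R : Subgroup G) = 25 := card_sylow_of_factor R hG' (by norm_num)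
    have hrel : ∀ (Q : Sylow 5 G), X ≤ Q → X.relIndex Q = 5 := fun Q hQ => by
      have h1 := Subgroup.card_mul_index (X.subgroupOf (Q : Subgroup G))
      rw [Nat.card_congr (Subgroup.subgroupOfEquivOfLe hQ).toEquiv, hR,
        card_sylow_of_factor Q hG' (by norm_num)] at h1
      rw [Subgroup.relIndex]
      omega
    have hPX := le_normalizer_of_relIndex_eq P.2 inf_le_left (hrel P inf_le_left)
    have hRX := le_normalizer_of_relIndex_eq R.2 inf_le_right (hrel R inf_le_right)
    set H := Subgroup.normalizer (X : Set G) with hHdef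
    have hXne : X ≠ ⊥ := fun e => by rw [e, Subgroup.card_bot] at hR; omega
    have hH : H ≠ ⊤ := fun e => by
      rcases (Subgroup.normalizer_eq_top_iff.1 e).eq_bot_or_eq_top with h1 | h1
      · exact hXne h1
      · rw [h1, Subgroup.card_top, hG] at hR
        omega
    obtain ⟨k, hk, hcard, hk1⟩ := exists_card_eq_mul_inf_normalizer P hPX
    have hkne : k ≠ 1 := fun e => hPR (Sylow.ext (R.is_maximal' P.2 (by
      exact inf_eq_left.1 ((R.2.inf_normalizer_sylow P).symm.trans (inf_eq_left.2 (hRX.trans (hk1 e)))))))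
    have hkS : Nat.card (Sylow 5 H) = k := by
      have h1 : (Subgroup.normalizer ((P : Subgroup G) : Set G)).subgroupOf H =
          Subgroup.normalizer (((P : Subgroup G).subgroupOf H : Subgroup H) : Set H) :=
        Subgroup.subgroupOf_normalizer_eq hPX
      have h2 := Subgroup.card_mul_index ((Subgroup.normalizer ((P : Subgroup G) : Set G)).subgroupOf H)
      rw [Nat.card_congr (Subgroup.subgroupOfEquivOfLe (inf_le_left : H ⊓ Subgroup.normalizer
          ((P : Subgroup G) : Set G) ≤ H)).toEquiv.symm] at hcard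
      rw [show (H ⊓ Subgroup.normalizer ((P : Subgroup G) : Set G)).subgroupOf H =
        (Subgroup.normalizer ((P : Subgroup G) : Set G)).subgroupOf H from
          Subgroup.inf_subgroupOf_left _ _, mul_comm] at hcard
      rw [(P.subtype hPX).card_eq_index_normalizer]
      show (Subgroup.normalizer (((P : Subgroup G).subgroupOf H : Subgroup H) : Set H)).index = k
      rw [← h1]
      exact Nat.eq_of_mul_eq_mul_left Nat.card_pos (h2.trans hcard)
    obtain ⟨j, hj⟩ := Subgroup.card_dvd_of_le (le_inf hPX Subgroup.le_normalizer :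
      (P : Subgroup G) ≤ H ⊓ Subgroup.normalizer ((P : Subgroup G) : Set G))
    rw [hP] at hj
    have hHc : Nat.card H = 25 * (k * j) := by rw [hcard, hj]; ring
    have hidx : H.index * (k * j) = 216 := by
      have h1 := Subgroup.card_mul_index H
      rw [hHc, hG, mul_assoc, mul_comm (k * j)] at h1
      omega
    have hfac := two_mul_card_dvd_index_factorial hnc H hH
    rw [hG] at hfac
    have hi10 : 10 ≤ H.index := by
      by_contra hlt
      exact small_factorial _ (not_le.1 hlt) hfac
    have hkj : k * j ∣ 216 := Dvd.intro_left _ hidx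
    have hkj21 : k * j ≤ 21 := by
      by_contra hlt
      have : 10 * 22 ≤ H.index * (k * j) := Nat.mul_le_mul hi10 (by omega)
      omega
    have hk6 : k = 6 ∧ (j = 1 ∨ j = 2 ∨ j = 3) := by
      have hj0 : 1 ≤ j := Nat.pos_of_ne_zero fun e => by simp [e] at hidx
      have hk0 : 1 ≤ k := by omega
      exact small_pairs k ((Nat.le_mul_of_pos_right k hj0).trans hkj21) j
        ((Nat.le_mul_of_pos_left j hk0).trans hkj21) hk hkne hkj21 hkj
    obtain ⟨hk6, hj2⟩ := hk6
    refine ⟨hkS.trans hk6, ?_, hPX, hRX, hPR⟩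
    rcases hj2 with e | e | e
    rotate_left
    · rw [hj, e]
    all_goals
      exfalso
      -- a subgroup of order twice an odd number
      rw [hk6, e] at hHc
      have : Fact (Nat.Prime 2) := ⟨Nat.prime_two⟩
      obtain ⟨t, ht⟩ := exists_prime_orderOf_dvd_card' (G := H) 2 (by rw [hHc]; norm_num)
      obtain ⟨K, hKn, hK2, -⟩ := Cfsg.Lib.Transfer.exists_index_two_not_mem (⊥ : Subgroup H)
        (m := Nat.card H / 2) (by rw [hHc]; decide) (by rw [Subgroup.index_bot, hHc]) ht
        (fun g hg => by
          rw [Subgroup.mem_bot] at hg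
          have : t = 1 := by
            calc t = g * (g⁻¹ * t * g) * g⁻¹ := by group
              _ = 1 := by rw [hg]; group
          rw [this, orderOf_one] at ht
          omega)
      have hle : ∀ S : Sylow 5 H, (S : Subgroup H) ≤ K := fun S x hx => by
        obtain ⟨i, hi⟩ := S.2 ⟨x, hx⟩
        have hi' : x ^ 5 ^ i = 1 := by simpa using congrArg Subtype.val hi
        rw [← QuotientGroup.eq_one_iff (N := K), ← orderOf_eq_one_iff]
        refine Nat.eq_one_of_dvd_coprimes (Nat.Coprime.pow_left i (by norm_num : Nat.Coprime 5 2))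
          (orderOf_dvd_of_pow_eq_one ?_) ?_
        · rw [← QuotientGroup.mk_pow, hi', QuotientGroup.mk_one]
        · rw [← hK2, Subgroup.index_eq_card]
          exact orderOf_dvd_natCard _
      have hKc : Nat.card K * 2 = Nat.card H := by rw [← hK2, Subgroup.card_mul_index]
      obtain ⟨S⟩ : Nonempty (Sylow 5 H) := Sylow.nonempty
      have hK5 : Nat.card (Sylow 5 K) = 1 := by
        obtain ⟨S'⟩ : Nonempty (Sylow 5 K) := Sylow.nonempty
        obtain ⟨h1, h2⟩ := sylow_facts S' (a := 2) (m := Nat.card K / 25) (by omega) (by omega)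
        have h3 : Nat.card (Sylow 5 K) ≤ Nat.card K / 25 := Nat.le_of_dvd (by omega) h1
        have key : ∀ m ∈ [3, 9], ∀ d ∈ Nat.divisors m, d % 5 = 1 → d = 1 := by decide +kernel
        exact key _ (by simp; omega) _ (Nat.mem_divisors.2 ⟨h1, by omega⟩) h2
      have hsub := (Nat.card_eq_one_iff_unique.1 hK5).1
      have hinj : Function.Injective fun S : Sylow 5 H => S.subtype (hle S) :=
        fun S T h => Sylow.subtype_injective h
      have := Nat.card_le_card_of_injective _ hinj
      omega
  -- the fibres of the intersection map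
  have := Fintype.ofFinite (Sylow 5 G)
  let f : Sylow 5 G → Subgroup G := fun R => (P : Subgroup G) ⊓ R
  set A : Finset (Sylow 5 G) := Finset.univ.filter fun R => Nat.card ↥(f R) = 5 with hA
  set B : Finset (Sylow 5 G) := Finset.univ.filter fun R => f R = ⊥ with hB
  have hsplit : 1 + A.card + B.card = 36 := by
    have h1 : ∀ R : Sylow 5 G, R = P ∨ Nat.card ↥(f R) = 5 ∨ f R = ⊥ := fun R => by
      have h2 : Nat.card ↥(f R) ∣ 5 ^ 2 := (hP.trans (by norm_num : 25 = 5 ^ 2)) ▸
        Subgroup.card_dvd_of_le inf_le_left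
      obtain ⟨i, hi, he⟩ := (Nat.dvd_prime_pow (by norm_num)).1 h2
      interval_cases i
      · exact Or.inr (Or.inr (Subgroup.card_eq_one.1 (by simpa using he)))
      · exact Or.inr (Or.inl (by simpa using he))
      · refine Or.inl (Sylow.ext (P.is_maximal' R.2 ?_))
        have h3 : f R = (P : Subgroup G) :=
          Subgroup.eq_of_le_of_card_ge inf_le_left (by rw [he, hP]; norm_num)
        exact h3 ▸ inf_le_right
    have hu : (Finset.univ : Finset (Sylow 5 G)) = {P} ∪ A ∪ B := by
      ext R
      simp only [Finset.mem_univ, Finset.mem_union, Finset.mem_singleton, hA, hB, Finset.mem_filter,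
        true_and, true_iff, or_assoc]
      exact h1 R
    have h2 := congrArg Finset.card hu
    rw [Finset.card_univ, ← Nat.card_eq_fintype_card, hn, Finset.card_union_of_disjoint,
      Finset.card_union_of_disjoint, Finset.card_singleton] at h2
    · omega
    · rw [Finset.disjoint_left]
      intro R hR hR'
      rw [Finset.mem_singleton.1 hR, hA, Finset.mem_filter] at hR'
      simp only [f, inf_idem] at hR'
      omega
    · rw [Finset.disjoint_left]
      intro R hR hR'
      rw [hB, Finset.mem_filter] at hR'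
      rw [Finset.mem_union, Finset.mem_singleton, hA, Finset.mem_filter] at hR
      rcases hR with rfl | hR
      · rw [show f R = (R : Subgroup G) from inf_idem _] at hR'
        rw [hR'.2, Subgroup.card_bot] at hP
        omega
      · rw [hR'.2, Subgroup.card_bot] at hR
        omega
  have hB25 : 25 ∣ B.card := by
    have hinv : ∀ (x : ↥(P : Subgroup G)) (R : Sylow 5 G), R ∈ B → (x : G) • R ∈ B := by
      intro x R hR
      rw [hB, Finset.mem_filter] at hR ⊢
      refine ⟨Finset.mem_univ _, (Subgroup.eq_bot_iff_forall _).2 fun y hy => ?_⟩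
      have h1 : (x : G)⁻¹ * y * x ∈ f R := by
        refine ⟨(P : Subgroup G).mul_mem ((P : Subgroup G).mul_mem
          ((P : Subgroup G).inv_mem x.2) hy.1) x.2, ?_⟩
        have h2 : y ∈ ((((x : G) • R : Sylow 5 G)) : Subgroup G) := hy.2
        rw [Sylow.coe_subgroup_smul, Subgroup.mem_pointwise_smul_iff_inv_smul_mem] at h2
        show (x : G)⁻¹ * y * (x : G) ∈ (R : Subgroup G)
        simpa [MulAut.smul_def, mul_assoc] using h2
      rw [hR.2, Subgroup.mem_bot] at h1
      calc y = (x : G) * ((x : G)⁻¹ * y * x) * (x : G)⁻¹ := by group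
        _ = 1 := by rw [h1]; group
    let _ : MulAction ↥(P : Subgroup G) {R // R ∈ B} :=
      { smul := fun x R => ⟨(x : G) • R.1, hinv x R.1 R.2⟩
        one_smul := fun R => Subtype.ext (one_smul G R.1)
        mul_smul := fun x y R => Subtype.ext (mul_smul (x : G) (y : G) R.1) }
    have hfree : ∀ R : {R // R ∈ B}, MulAction.stabilizer ↥(P : Subgroup G) R = ⊥ := fun R => by
      refine (Subgroup.eq_bot_iff_forall _).2 fun x hx => ?_
      have h1 : (x : G) • R.1 = R.1 := congrArg Subtype.val (MulAction.mem_stabilizer_iff.1 hx)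
      have h2 : (x : G) ∈ f R.1 := by
        show (x : G) ∈ (P : Subgroup G) ⊓ R.1
        rw [← P.2.inf_normalizer_sylow R.1]
        exact ⟨x.2, Sylow.smul_eq_iff_mem_normalizer.1 h1⟩
      rw [(Finset.mem_filter.1 R.2).2, Subgroup.mem_bot] at h2
      exact Subtype.ext h2
    have h1 := Nat.card_congr (MulAction.selfEquivOrbitsQuotientProd hfree)
    rw [Nat.card_prod, hP, Nat.card_eq_fintype_card, Fintype.card_coe] at h1
    rw [h1]
    exact dvd_mul_left _ _
  set 𝒳 : Finset (Subgroup G) := A.image f with h𝒳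
  have hfib : ∀ X ∈ 𝒳, (A.filter fun R => f R = X).card = 5 := by
    intro X hX
    obtain ⟨R₁, hR₁, rfl⟩ := Finset.mem_image.1 hX
    have hX5 : Nat.card ↥(f R₁) = 5 := (Finset.mem_filter.1 hR₁).2
    obtain ⟨h6, -, hPX, -, -⟩ := hloc R₁ hX5
    set H := Subgroup.normalizer ((f R₁ : Subgroup G) : Set G) with hH
    have hmem : ∀ R : Sylow 5 G, R ≠ P → ((R : Subgroup G) ≤ H ↔ R ∈ A ∧ f R = f R₁) := by
      intro R hR
      constructor
      · intro hle
        have hXR : f R₁ ≤ R := by
          have hs : IsPGroup 5 ↥((R : Subgroup G) ⊔ f R₁) :=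
            IsPGroup.to_sup_of_normal_right' R.2 (P.2.to_le inf_le_left) hle
          exact le_sup_right.trans (R.is_maximal' hs le_sup_left).le
        have h1 : f R₁ ≤ f R := le_inf inf_le_left hXR
        have h2 : Nat.card ↥(f R) ∣ 5 ^ 2 := (hP.trans (by norm_num : 25 = 5 ^ 2)) ▸
          Subgroup.card_dvd_of_le inf_le_left
        obtain ⟨i, hi, he⟩ := (Nat.dvd_prime_pow (by norm_num)).1 h2
        have h3 : Nat.card ↥(f R) = 5 := by
          interval_cases i
          · have h4 := Subgroup.card_le_of_le h1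
            simp only [he, hX5, pow_zero] at h4
            omega
          · simpa using he
          · refine absurd (Sylow.ext (P.is_maximal' R.2 ?_)) hR
            have h4 : f R = (P : Subgroup G) :=
              Subgroup.eq_of_le_of_card_ge inf_le_left (by rw [he, hP]; norm_num)
            exact h4 ▸ inf_le_right
        exact ⟨Finset.mem_filter.2 ⟨Finset.mem_univ _, h3⟩,
          (Subgroup.eq_of_le_of_card_ge h1 (by rw [h3, hX5])).symm⟩
      · rintro ⟨hR', e⟩
        obtain ⟨-, -, -, hRX, -⟩ := hloc R (Finset.mem_filter.1 hR').2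
        rw [hH, ← e]
        exact hRX
    have hcount : (Finset.univ.filter fun R : Sylow 5 G => (R : Subgroup G) ≤ H).card = 6 := by
      rw [← h6, ← Fintype.card_coe, ← Nat.card_eq_fintype_card]
      refine Nat.card_congr (Equiv.ofBijective (fun R => R.1.subtype (Finset.mem_filter.1 R.2).2) ⟨?_, ?_⟩)
      · intro R T h
        exact Subtype.ext (Sylow.subtype_injective h)
      · intro S
        obtain ⟨R, hR⟩ := S.exists_comap_subtype_eq
        have hle : (R : Subgroup G) ≤ H := by
          have hc : Nat.card ↥(S : Subgroup H) = 25 := by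
            refine Nat.dvd_antisymm ?_ ?_
            · have h1 := Subgroup.card_dvd_of_le (H := (S : Subgroup H).map H.subtype)
                (K := (R : Subgroup G)) (Subgroup.map_le_iff_le_comap.2 hR.ge)
              rwa [Subgroup.card_map_of_injective H.subtype_injective,
                card_sylow_of_factor R hG' (by norm_num)] at h1
            · exact S.pow_dvd_card_of_pow_dvd_card (n := 2)
                ((hP.trans (by norm_num : 25 = 5 ^ 2)) ▸ Subgroup.card_dvd_of_le hPX)
          have h2 : (S : Subgroup H).map H.subtype = (R : Subgroup G) :=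
            Subgroup.eq_of_le_of_card_ge (Subgroup.map_le_iff_le_comap.2 hR.ge) (by
              rw [Subgroup.card_map_of_injective H.subtype_injective, hc,
                card_sylow_of_factor R hG' (by norm_num)]
              norm_num)
          rw [← h2]
          exact Subgroup.map_subtype_le _
        exact ⟨⟨R, Finset.mem_filter.2 ⟨Finset.mem_univ _, hle⟩⟩, Sylow.ext hR⟩
    have hsplit' : (Finset.univ.filter fun R : Sylow 5 G => (R : Subgroup G) ≤ H) =
        insert P (A.filter fun R => f R = f R₁) := by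
      ext R
      rw [Finset.mem_filter, Finset.mem_insert, Finset.mem_filter]
      by_cases hR : R = P
      · subst hR
        simp [hPX]
      · simp [hR, hmem R hR]
    rw [hsplit', Finset.card_insert_of_notMem (fun h => by
      have h1 := (Finset.mem_filter.1 (Finset.mem_filter.1 h).1).2
      rw [show f P = (P : Subgroup G) from inf_idem _, hP] at h1
      omega)] at hcount
    omega
  have hA5 : A.card = 𝒳.card * 5 := by
    rw [Finset.card_eq_sum_card_fiberwise (fun R hR => Finset.mem_image_of_mem f hR),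
      Finset.sum_congr rfl hfib, Finset.sum_const, smul_eq_mul]
  -- an element of order three of the normalizer
  have : Fact (Nat.Prime 3) := ⟨Nat.prime_three⟩
  obtain ⟨u, hu⟩ := exists_prime_orderOf_dvd_card'
    (G := ↥(Subgroup.normalizer ((P : Subgroup G) : Set G))) 3 (by omega)
  have huP : (u : G) • P = P := Sylow.smul_eq_iff_mem_normalizer.2 u.2
  have huinv : ∀ X ∈ 𝒳, X.map (MulAut.conj (u : G)).toMonoidHom ∈ 𝒳 := by
    intro X hX
    obtain ⟨R, hR, rfl⟩ := Finset.mem_image.1 hX
    have hmap : (f R).map (MulAut.conj (u : G)).toMonoidHom = f ((u : G) • R) := by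
      show ((P : Subgroup G) ⊓ R).map _ = (P : Subgroup G) ⊓ _
      rw [Subgroup.map_inf _ _ _ (MulAut.conj (u : G)).injective]
      exact congrArg₂ (· ⊓ ·) ((Sylow.coe_subgroup_smul (g := (u : G)) (P := P)).symm.trans
        (congrArg (fun Q : Sylow 5 G => (Q : Subgroup G)) huP)) rfl
    rw [hmap]
    refine Finset.mem_image_of_mem f (Finset.mem_filter.2 ⟨Finset.mem_univ _, ?_⟩)
    rw [← hmap, Subgroup.card_map_of_injective (MulAut.conj (u : G)).injective]
    exact (Finset.mem_filter.1 hR).2
  have h3 : 3 ∣ 𝒳.card := by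
    by_contra hnd
    let σ : {X // X ∈ 𝒳} → {X // X ∈ 𝒳} := fun X => ⟨_, huinv X.1 X.2⟩
    have hσ : ∀ X, σ (σ (σ X)) = X := fun X => Subtype.ext (by
      show ((X.1.map _).map _).map _ = X.1
      rw [Subgroup.map_map, Subgroup.map_map]
      convert Subgroup.map_id X.1 using 2
      ext g
      have h4 : (u : G) ^ 3 = 1 := by
        rw [← Subgroup.coe_pow, ← hu, pow_orderOf_eq_one, Subgroup.coe_one]
      show (u : G) * ((u : G) * ((u : G) * g * (u : G)⁻¹) * (u : G)⁻¹) * (u : G)⁻¹ = g
      rw [show (u : G) * ((u : G) * ((u : G) * g * (u : G)⁻¹) * (u : G)⁻¹) * (u : G)⁻¹ =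
        (u : G) ^ 3 * g * ((u : G) ^ 3)⁻¹ by rw [pow_succ, pow_two]; group, h4, one_mul, inv_one, mul_one])
    obtain ⟨X, hX⟩ := Equiv.Perm.exists_fixed_point_of_prime (p := 3) (n := 1)
      (α := {X // X ∈ 𝒳}) (by rwa [Fintype.card_coe])
      (σ := ⟨σ, fun X => σ (σ X), hσ, hσ⟩) (Equiv.ext fun X => by simpa [pow_succ] using hσ X)
    obtain ⟨R, hR, hRX⟩ := Finset.mem_image.1 X.2
    obtain ⟨-, h50, -, -, -⟩ := hloc R (Finset.mem_filter.1 hR).2
    have hu' : (u : G) ∈ Subgroup.normalizer ((f R : Subgroup G) : Set G) ⊓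
        Subgroup.normalizer ((P : Subgroup G) : Set G) := by
      refine ⟨Subgroup.mem_set_normalizer_iff.2 fun g => ?_, u.2⟩
      have h4 : (f R).map (MulAut.conj (u : G)).toMonoidHom = f R := by
        rw [hRX]
        exact congrArg Subtype.val hX
      constructor
      · intro hg
        rw [← h4]
        exact ⟨g, hg, rfl⟩
      · intro hg
        rw [← h4] at hg
        obtain ⟨g', hg', e⟩ := hg
        have : g' = g := (MulAut.conj (u : G)).injective e
        exact this ▸ hg'
    have h7 := Subgroup.orderOf_dvd_natCard _ hu'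
    rw [h50, Subgroup.orderOf_coe, hu] at h7
    norm_num at h7
  obtain ⟨b, hb⟩ := hB25
  obtain ⟨c, hc⟩ := h3
  omega

end Order5400

end Cfsg.Lib.Small
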