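import Mathlib
import Cfsg.Agent.Small.Toolkit
import Cfsg.Agent.Small.SylowInter
import Cfsg.Agent.Blocks.DegreeEquation.Check
import Cfsg.Agent.Chars.Burnside
import Cfsg.Agent.S0073
import Cfsg.Agent.S0499

/-!
# A sieve for the orders of small simple groups
-/

namespace Cfsg.Lib.Small.Sieve

universe u

/-- A candidate for the least prime factor. -/
def mf (n : ℕ) : ℕ := ((List.range 80).find? fun d => decide (2 ≤ d) && (n % d == 0)).getD n

/-- Primality by trial division. -/
def isP (p : ℕ) : Bool :=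
  decide (2 ≤ p) && (List.range (Nat.sqrt p + 1)).all fun d => decide (d < 2) || decide (p % d ≠ 0)

/-- Removal of the factor `p`. -/
def strip : ℕ → ℕ → ℕ → ℕ
  | 0, n, _ => n
  | k + 1, n, p => if n % p = 0 then strip k (n / p) p else n

lemma strip_spec : ∀ k n p : ℕ, ∃ a, n = p ^ a * strip k n p
  | 0, n, _ => ⟨0, by simp [strip]⟩
  | k + 1, n, p => by
    by_cases h : n % p = 0
    · obtain ⟨a, ha⟩ := strip_spec k (n / p) p
      refine ⟨a + 1, ?_⟩
      rw [strip, if_pos h, pow_succ', mul_assoc, ← ha, Nat.mul_div_cancel' (Nat.dvd_of_mod_eq_zero h)]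
    · exact ⟨0, by simp [strip, h]⟩

lemma isP_prime {p : ℕ} (h : isP p = true) : p.Prime := by
  rw [isP, Bool.and_eq_true, decide_eq_true_eq, List.all_eq_true] at h
  refine Nat.prime_def_le_sqrt.2 ⟨h.1, fun d hd2 hd hdvd => ?_⟩
  have h1 := h.2 d (List.mem_range.2 (by omega))
  rw [Bool.or_eq_true, decide_eq_true_eq, decide_eq_true_eq] at h1
  exact h1.elim (by omega) fun h2 => h2 (Nat.mod_eq_zero_of_dvd hdvd)

/-- At most two prime divisors. -/
def burn (n : ℕ) : Bool :=
  let p := mf n
  let r := strip 14 n p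
  let q := if r = 1 then p else mf r
  isP p && isP q && decide (strip 14 r q = 1)

/-- The condition on the least prime. -/
def least (n : ℕ) : Bool :=
  let p := mf n
  isP p && decide (n % p = 0) && decide (n % 12 ≠ 0) && decide (n % (p ^ 3) ≠ 0) &&
    (List.range p).all fun d => decide (d < 2) || decide (n % d ≠ 0)

/-- The condition on groups of even order. -/
def even (n : ℕ) : Bool :=
  decide (n % 2 = 0) && decide (n % 12 ≠ 0) && decide (n % 16 ≠ 0) && decide (n % 56 ≠ 0)

/-- No possible number of Sylow `p`-subgroups. -/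
def sylow (n p : ℕ) : Bool :=
  let m := strip 14 n p
  isP p && decide (n % p = 0) && decide (m % p ≠ 0) &&
    (List.range 31).all (fun N =>
      !(decide (1 < N ∧ m % N = 0 ∧ N % p = 1)) || decide (N.factorial % (2 * n) ≠ 0)) &&
    (List.range (m / 31 + 1)).all (fun k =>
      decide (k = 0) || decide (m % k ≠ 0) || decide (m / k ≤ 30) || decide (m / k % p ≠ 1))

/-- The possible prime divisors used. -/
def sylowAny (n : ℕ) : Bool :=
  let p := mf n
  let r := strip 14 n p
  let q := mf r
  let s := strip 14 r q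
  let t := mf s
  let u := strip 14 s t
  sylow n p || sylow n q || sylow n t || sylow n u

/-- No possible intersection of two Sylow subgroups. -/
def inter (n p : ℕ) : Bool :=
  let m := strip 14 n p
  isP p && decide (m % p ≠ 0) && decide (n % (p * p) = 0) &&
    (List.range (m + 1)).all (fun N =>
      !(decide (1 < N ∧ m % N = 0 ∧ N % p = 1)) || decide (N % (p * p) ≠ 1)) &&
    (List.range (m / (p + 1) + 1)).all (fun i =>
      decide (i = 0) || decide (i.factorial % (2 * n) ≠ 0))

/-- The degree test. -/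
def degree (n p : ℕ) : Bool :=
  isP p && decide (n % p = 0) && decide (n / p % p ≠ 0) &&
    Blocks.DegreeEquation.check p (n / p) (Nat.sqrt n + 1)

/-- A group order is excluded. -/
def kill (degTable interTable : List (ℕ × ℕ)) (n : ℕ) : Bool :=
  decide (n < 2) || burn n || least n || even n || sylowAny n ||
    (degTable.any fun q => decide (q.1 = n) && degree n q.2) ||
    (interTable.any fun q => decide (q.1 = n) && inter n q.2)

variable {G : Type u} [Group G] [Finite G] [IsSimpleGroup G]

section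

variable (hnc : ¬ ∀ a b : G, a * b = b * a)
include hnc

theorem false_of_burn (h : burn (Nat.card G) = true) : False := by
  simp only [burn, Bool.and_eq_true, decide_eq_true_eq] at h
  set n := Nat.card G
  set p := mf n
  set r := strip 14 n p
  set q := if r = 1 then p else mf r
  obtain ⟨⟨hp, hq⟩, hs⟩ := h
  obtain ⟨a, ha⟩ := strip_spec 14 n p
  obtain ⟨b, hb⟩ := strip_spec 14 r q
  rw [hs, mul_one] at hb
  have := Cfsg.Lib.Chars.burnside_isSolvable p q (isP_prime hp) (isP_prime hq) G
    ⟨a, b, by rw [← hb]; exact ha⟩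
  exact hnc fun x y => IsSimpleGroup.comm_iff_isSolvable.2 this x y

theorem false_of_least (h : least (Nat.card G) = true) : False := by
  simp only [least, Bool.and_eq_true, decide_eq_true_eq, List.all_eq_true, Bool.or_eq_true,
    List.mem_range] at h
  set p := mf (Nat.card G)
  obtain ⟨⟨⟨⟨hp, hd⟩, h12⟩, h3⟩, hall⟩ := h
  have hpp := isP_prime hp
  have hne : Nat.card G ≠ 1 := fun e => by
    rw [e, Nat.one_mod_eq_zero_iff] at hd
    exact hpp.ne_one hd
  have hmf : (Nat.card G).minFac = p := by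
    refine le_antisymm (Nat.minFac_le_of_dvd hpp.two_le (Nat.dvd_of_mod_eq_zero hd)) ?_
    by_contra hlt
    have h2 := (Nat.minFac_prime hne).two_le
    rcases hall _ (not_le.1 hlt) with h1 | h1
    · omega
    · exact h1 (Nat.mod_eq_zero_of_dvd (Nat.minFac_dvd _))
  have hxy : ∃ x y : G, x * y ≠ y * x := by simpa using hnc
  rcases Cfsg.Agent.S0073.result hxy with h1 | h1
  · rw [hmf] at h1
    exact h3 (Nat.mod_eq_zero_of_dvd h1)
  · exact h12 (Nat.mod_eq_zero_of_dvd h1)

theorem false_of_even (h : even (Nat.card G) = true) : False := by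
  simp only [even, Bool.and_eq_true, decide_eq_true_eq] at h
  obtain ⟨⟨⟨h2, h12⟩, h16⟩, h56⟩ := h
  rcases Cfsg.Agent.S0499.result (G := G) (fun hc => hnc fun a b => hc.is_comm.comm a b)
    (Nat.even_iff.2 h2) with h1 | h1 | h1
  · exact h12 (Nat.mod_eq_zero_of_dvd h1)
  · exact h16 (Nat.mod_eq_zero_of_dvd h1)
  · exact h56 (Nat.mod_eq_zero_of_dvd h1)

theorem false_of_sylow {p : ℕ} (h : sylow (Nat.card G) p = true) : False := by
  simp only [sylow, Bool.and_eq_true, decide_eq_true_eq, List.all_eq_true, Bool.or_eq_true,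
    Bool.not_eq_true', decide_eq_false_iff_not, List.mem_range] at h
  obtain ⟨⟨⟨⟨hp, hd⟩, hm⟩, hsmall⟩, hbig⟩ := h
  set m := strip 14 (Nat.card G) p
  have : Fact p.Prime := ⟨isP_prime hp⟩
  obtain ⟨a, ha⟩ := strip_spec 14 (Nat.card G) p
  change Nat.card G = p ^ a * m at ha
  have hm' : ¬ p ∣ m := fun e => hm (Nat.mod_eq_zero_of_dvd e)
  obtain ⟨P⟩ : Nonempty (Sylow p G) := Sylow.nonempty
  obtain ⟨hdvd, hmod⟩ := sylow_facts P ha hm'
  have hne := card_sylow_ne_one (p := p) hnc (Nat.dvd_of_mod_eq_zero hd)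
  set N := Nat.card (Sylow p G)
  have hm0 : 0 < m := Nat.pos_of_ne_zero fun e => hm (by rw [e, Nat.zero_mod])
  have hN0 : 0 < N := Nat.pos_of_dvd_of_pos hdvd hm0
  have hidx : (Subgroup.normalizer ((P : Subgroup G) : Set G)).index = N :=
    P.card_eq_index_normalizer.symm
  rcases Nat.lt_or_ge N 31 with hlt | hge
  · rcases hsmall N hlt with h1 | h1
    · exact h1 ⟨by omega, Nat.mod_eq_zero_of_dvd hdvd, hmod⟩
    · have h2 := two_mul_card_dvd_index_factorial hnc
        (Subgroup.normalizer ((P : Subgroup G) : Set G))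
        (fun e => hne (by rw [← hidx, e, Subgroup.index_top]))
      rw [hidx] at h2
      exact h1 (Nat.mod_eq_zero_of_dvd h2)
  · obtain ⟨k, hk⟩ := hdvd
    have hk0 : 0 < k := Nat.pos_of_ne_zero fun e => by rw [hk, e, mul_zero] at hm0; omega
    have hk31 : k ≤ m / 31 := by
      rw [Nat.le_div_iff_mul_le (by norm_num), hk, mul_comm]
      exact Nat.mul_le_mul_right k hge
    have hdiv : m / k = N := by rw [hk, Nat.mul_div_cancel _ hk0]
    rcases hbig k (by omega) with ((h1 | h1) | h1) | h1
    · omega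
    · exact h1 (Nat.mod_eq_zero_of_dvd ⟨N, by rw [hk, mul_comm]⟩)
    · omega
    · exact h1 (by rw [hdiv]; exact hmod)

theorem false_of_inter {p : ℕ} (h : inter (Nat.card G) p = true) : False := by
  simp only [inter, Bool.and_eq_true, decide_eq_true_eq, List.all_eq_true, Bool.or_eq_true,
    Bool.not_eq_true', decide_eq_false_iff_not, List.mem_range] at h
  obtain ⟨⟨⟨⟨hp, hm⟩, hd⟩, hN⟩, hI⟩ := h
  set m := strip 14 (Nat.card G) p
  have hpp := isP_prime hp
  have : Fact p.Prime := ⟨hpp⟩
  obtain ⟨a, ha⟩ := strip_spec 14 (Nat.card G) p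
  change Nat.card G = p ^ a * m at ha
  have hm' : ¬ p ∣ m := fun e => hm (Nat.mod_eq_zero_of_dvd e)
  have hpp2 : p ^ 2 ∣ Nat.card G := by rw [pow_two]; exact Nat.dvd_of_mod_eq_zero hd
  have ha2 : 2 ≤ a := by
    rw [ha] at hpp2
    exact (Nat.pow_dvd_pow_iff_le_right hpp.one_lt).1
      (((hpp.coprime_iff_not_dvd.2 hm').pow_left 2).dvd_of_dvd_mul_right hpp2)
  obtain ⟨P⟩ : Nonempty (Sylow p G) := Sylow.nonempty
  obtain ⟨hdvd, hmod⟩ := sylow_facts P ha hm'
  have hne := card_sylow_ne_one (p := p) hnc ((dvd_pow_self p (by norm_num : 2 ≠ 0)).trans hpp2)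
  have hm0 : 0 < m := Nat.pos_of_ne_zero fun e => hm (by rw [e, Nat.zero_mod])
  have hN0 : 0 < Nat.card (Sylow p G) := Nat.pos_of_dvd_of_pos hdvd hm0
  have hsq : ¬ Nat.card (Sylow p G) ≡ 1 [MOD p ^ 2] := fun e => by
    rcases hN _ (Nat.lt_succ_of_le (Nat.le_of_dvd hm0 hdvd)) with h1 | h1
    · exact h1 ⟨by omega, Nat.mod_eq_zero_of_dvd hdvd, hmod⟩
    · refine h1 ?_
      rw [Nat.ModEq, pow_two, Nat.mod_eq_of_lt (show 1 < p * p by nlinarith [hpp.two_le])] at e
      exact e
  obtain ⟨R, k, j, -, -, -, -, hk, hk1, -, -, hidx, hfac, -⟩ :=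
    exists_inter_data hnc ha hm' ha2 P hsq
  set i := (Subgroup.normalizer (((P : Subgroup G) ⊓ R : Subgroup G) : Set G)).index
  have hij : 0 < i ∧ 0 < k * j := by
    constructor <;> refine Nat.pos_of_ne_zero fun e => ?_ <;> rw [e] at hidx <;>
      simp at hidx <;> omega
  have hkp : p + 1 ≤ k * j := by
    have h1 : p + 1 ≤ k := by
      have h2 := Nat.div_add_mod k p
      rcases Nat.eq_zero_or_pos (k / p) with h3 | h3
      · rw [h3] at h2; omega
      · have : p * 1 ≤ p * (k / p) := Nat.mul_le_mul_left p h3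
        omega
    exact h1.trans (Nat.le_mul_of_pos_right k (Nat.pos_of_mul_pos_left hij.2))
  have hi : i ≤ m / (p + 1) := by
    rw [Nat.le_div_iff_mul_le (by omega), ← hidx]
    exact Nat.mul_le_mul_left i hkp
  rcases hI i (by omega) with h1 | h1
  · omega
  · exact h1 (Nat.mod_eq_zero_of_dvd hfac)

theorem false_of_degree {p : ℕ} (h : degree (Nat.card G) p = true) : False := by
  simp only [degree, Bool.and_eq_true, decide_eq_true_eq] at h
  obtain ⟨⟨⟨hp, hd⟩, hm⟩, hc⟩ := h
  have : Fact p.Prime := ⟨isP_prime hp⟩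
  have hG : ¬ IsCyclic G := fun hc => by
    let _ : CommGroup G := IsCyclic.commGroup
    exact hnc mul_comm
  have hmul : p * (Nat.card G / p) = Nat.card G := Nat.mul_div_cancel' (Nat.dvd_of_mod_eq_zero hd)
  refine Blocks.DegreeEquation.false_of_check hG p (Nat.card G / p) (Nat.sqrt (Nat.card G) + 1)
    hmul.symm (fun e => hm (Nat.mod_eq_zero_of_dvd e)) ?_ hc
  rw [hmul]
  exact (Nat.lt_succ_sqrt _).le

/-- No excluded order occurs. -/
theorem false_of_kill {T I : List (ℕ × ℕ)} (h : kill T I (Nat.card G) = true) : False := by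
  simp only [kill, sylowAny, Bool.or_eq_true, decide_eq_true_eq, List.any_eq_true, Bool.and_eq_true,
    or_assoc] at h
  rcases h with h | h | h | h | h | h | h | h | ⟨q, -, -, h⟩ | ⟨q, -, -, h⟩
  · have : Nontrivial G := inferInstance
    exact absurd Finite.one_lt_card (by omega : ¬ 1 < Nat.card G)
  · exact false_of_burn hnc h
  · exact false_of_least hnc h
  · exact false_of_even hnc h
  · exact false_of_sylow hnc h
  · exact false_of_sylow hnc h
  · exact false_of_sylow hnc h
  · exact false_of_sylow hnc h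
  · exact false_of_degree hnc h
  · exact false_of_inter hnc h

/-- The order is allowed. -/
theorem mem_of_all {T I : List (ℕ × ℕ)} {L : List ℕ} {lo len : ℕ}
    (h : ((List.range len).all fun i => kill T I (lo + i) || L.contains (lo + i)) = true)
    (h1 : lo ≤ Nat.card G) (h2 : Nat.card G < lo + len) : Nat.card G ∈ L := by
  rw [List.all_eq_true] at h
  have h3 := h (Nat.card G - lo) (List.mem_range.2 (by omega))
  rw [Nat.add_sub_cancel' h1, Bool.or_eq_true] at h3
  exact h3.elim (fun hk => (false_of_kill hnc hk).elim) fun hL => List.contains_iff_mem.1 hL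

end

end Cfsg.Lib.Small.Sieve
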