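import Cfsg.Agent.Small.Toolkit
import Cfsg.Agent.Chars.Induced
import Cfsg.Agent.Chars.Construct
import Cfsg.Agent.Chars.Values

/-!
A simple group with a self-centralising subgroup of prime order `p` whose normaliser is dihedral of
order `2p`: two irreducible degrees differ by one.
-/

namespace Cfsg.Lib.Small

open Cfsg.Lib.Chars
open scoped ComplexConjugate

universe u

theorem exists_support_of_sum_sq_eq_two {ι : Type*} [Fintype ι] (m : ι → ℤ) (h : ∑ i, m i ^ 2 = 2) :
    ∃ i k, i ≠ k ∧ (m i = 1 ∨ m i = -1) ∧ (m k = 1 ∨ m k = -1) ∧ ∀ l, l ≠ i → l ≠ k → m l = 0 := by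
  classical
  have hle : ∀ i, m i ^ 2 ≤ 2 := fun i =>
    h ▸ Finset.single_le_sum (fun l _ => sq_nonneg (m l)) (Finset.mem_univ i)
  have hval : ∀ i, m i = 0 ∨ m i = 1 ∨ m i = -1 := fun i => by
    have h1 : -1 ≤ m i := by nlinarith [hle i]
    have h2 : m i ≤ 1 := by nlinarith [hle i]
    omega
  have hsq : ∀ i, m i ^ 2 = if m i ≠ 0 then 1 else 0 := fun i => by
    rcases hval i with e | e | e <;> simp [e]
  have hc : (Finset.univ.filter fun i => m i ≠ 0).card = 2 := by
    have h2 : (2 : ℤ) = ((Finset.univ.filter fun i => m i ≠ 0).card : ℤ) := by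
      rw [← h, Finset.sum_congr rfl fun i _ => hsq i, Finset.sum_boole]
    omega
  obtain ⟨i, k, hik, he⟩ := Finset.card_eq_two.1 hc
  have hmem : ∀ l, m l ≠ 0 ↔ (l = i ∨ l = k) := fun l => by
    have := congrArg (fun s => l ∈ s) he
    simpa using this
  refine ⟨i, k, hik, (hval i).resolve_left ((hmem i).2 (Or.inl rfl)),
    (hval k).resolve_left ((hmem k).2 (Or.inr rfl)), fun l h1 h2 => ?_⟩
  by_contra hne
  rcases (hmem l).1 hne with e | e
  · exact h1 e
  · exact h2 e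

/-- The combinatorics of the exceptional characters. -/
theorem exists_common_constituent {ι J : Type*} [Fintype ι] [DecidableEq ι] [DecidableEq J] (d : ι → ℤ) (m : J → ι → ℤ) (neg : J → J)
    (hdeg : ∀ j, ∑ i, m j i * d i = -1)
    (hinner : ∀ j l, ∑ i, m j i * m l i = if j = l ∨ j = neg l then 2 else 1) (j₀ : J) :
    ∃ χ ψ : ι, ∃ a b : ℤ, (a = 1 ∨ a = -1) ∧ (b = 1 ∨ b = -1) ∧ (∀ j, m j χ = a) ∧ a * d χ + b * d ψ = -1 := by
  classical
  have hsupp : ∀ j, ∃ i k, i ≠ k ∧ (m j i = 1 ∨ m j i = -1) ∧ (m j k = 1 ∨ m j k = -1) ∧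
      ∀ l, l ≠ i → l ≠ k → m j l = 0 := fun j => exists_support_of_sum_sq_eq_two (m j) (by
    have := hinner j j
    rw [if_pos (Or.inl rfl)] at this
    simpa [sq] using this)
  obtain ⟨χ, ψ, hne, ha, hb, hz⟩ := hsupp j₀
  have hsum : ∀ f : ι → ℤ, ∑ i, m j₀ i * f i = m j₀ χ * f χ + m j₀ ψ * f ψ := fun f => by
    rw [← Finset.sum_pair hne (f := fun i => m j₀ i * f i)]
    refine (Finset.sum_subset (Finset.subset_univ _) fun l _ hl => ?_).symm
    simp only [Finset.mem_insert, Finset.mem_singleton, not_or] at hl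
    rw [hz l hl.1 hl.2, zero_mul]
  have hcases : ∀ j, (m j χ = m j₀ χ ∧ m j ψ = m j₀ ψ) ∨ (m j χ = m j₀ χ ∧ m j ψ = 0) ∨
      (m j χ = 0 ∧ m j ψ = m j₀ ψ) := fun j => by
    have h1 := hinner j₀ j
    rw [hsum] at h1
    have hv : ∀ l, m j l = 0 ∨ m j l = 1 ∨ m j l = -1 := fun l => by
      obtain ⟨i, k, -, hi, hk, hl⟩ := hsupp j
      by_cases e1 : l = i
      · subst e1; exact Or.inr hi
      by_cases e2 : l = k
      · subst e2; exact Or.inr hk
      exact Or.inl (hl l e1 e2)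
    rcases hv χ with x | x | x <;> rcases hv ψ with y | y | y <;> rcases ha with a | a <;>
      rcases hb with b | b <;> rw [x, y, a, b] at h1 <;> split_ifs at h1 <;> omega
  have hd0 := hdeg j₀
  rw [hsum] at hd0
  by_cases hall : ∀ j, m j χ = m j₀ χ
  · exact ⟨χ, ψ, m j₀ χ, m j₀ ψ, ha, hb, hall, hd0⟩
  by_cases hall' : ∀ j, m j ψ = m j₀ ψ
  · exact ⟨ψ, χ, m j₀ ψ, m j₀ χ, hb, ha, hall', by linarith⟩
  push Not at hall hall'
  obtain ⟨j, hj⟩ := hall'
  obtain ⟨l, hl⟩ := hall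
  exfalso
  have hjχ : m j χ = m j₀ χ ∧ m j ψ = 0 := by
    rcases hcases j with h | h | h
    · exact absurd h.2 hj
    · exact h
    · exact absurd h.2 hj
  have hlψ : m l χ = 0 ∧ m l ψ = m j₀ ψ := by
    rcases hcases l with h | h | h
    · exact absurd h.1 hl
    · exact absurd h.1 hl
    · exact h
  -- the third constituent of `j`
  obtain ⟨i, k, hik, hi, hk, hz'⟩ := hsupp j
  obtain ⟨ω, hω, hsum'⟩ : ∃ ω, ω ≠ χ ∧ ∀ f : ι → ℤ, ∑ t, m j t * f t = m j χ * f χ + m j ω * f ω := by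
    have hχ : χ = i ∨ χ = k := by
      by_contra! hcon
      have := hz' χ hcon.1 hcon.2
      rcases ha with a | a <;> omega
    rcases hχ with e | e
    · refine ⟨k, fun e' => hik (e.symm.trans e'.symm), fun f => ?_⟩
      rw [← Finset.sum_pair (e ▸ hik : χ ≠ k) (f := fun t => m j t * f t)]
      refine (Finset.sum_subset (Finset.subset_univ _) fun t _ ht => ?_).symm
      simp only [Finset.mem_insert, Finset.mem_singleton, not_or] at ht
      rw [hz' t (e ▸ ht.1) ht.2, zero_mul]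
    · refine ⟨i, fun e' => hik (e'.trans e), fun f => ?_⟩
      rw [← Finset.sum_pair (fun e' => hik (e'.symm.trans e) : χ ≠ i) (f := fun t => m j t * f t)]
      refine (Finset.sum_subset (Finset.subset_univ _) fun t _ ht => ?_).symm
      simp only [Finset.mem_insert, Finset.mem_singleton, not_or] at ht
      rw [hz' t ht.2 (e ▸ ht.1), zero_mul]
  have h1 := hinner j l
  rw [hsum', hlψ.1, mul_zero, zero_add] at h1
  -- the constituents of `l`
  obtain ⟨i', k', hik', hi', hk', hz''⟩ := hsupp l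
  have hωψ : ω ≠ ψ := by
    intro e
    subst e
    rw [hjχ.2, zero_mul] at h1
    split_ifs at h1 <;> omega
  have hsum'' : ∀ f : ι → ℤ, ∑ t, m l t * f t = m l ψ * f ψ + m l ω * f ω := fun f => by
    rw [← Finset.sum_pair hωψ.symm (f := fun t => m l t * f t)]
    refine (Finset.sum_subset (Finset.subset_univ _) fun t _ ht => ?_).symm
    simp only [Finset.mem_insert, Finset.mem_singleton, not_or] at ht
    have hψ : ψ = i' ∨ ψ = k' := by
      by_contra! hcon
      have := hz'' ψ hcon.1 hcon.2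
      rcases hb with b | b <;> omega
    have hωm : m l ω ≠ 0 := fun e => by rw [e, mul_zero] at h1; split_ifs at h1 <;> omega
    have hω' : ω = i' ∨ ω = k' := by
      by_contra! hcon
      exact hωm (hz'' ω hcon.1 hcon.2)
    rw [hz'' t, zero_mul] <;> rcases hψ with rfl | rfl <;> rcases hω' with rfl | rfl <;> tauto
  have hc : m j ω = m l ω := by
    have hv : ∀ {J' : J} (z : ι), m J' z = 0 ∨ m J' z = 1 ∨ m J' z = -1 := fun {J'} z => by
      obtain ⟨a, c, -, h1, h2, h3⟩ := hsupp J'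
      by_cases e1 : z = a
      · subst e1; exact Or.inr h1
      by_cases e2 : z = c
      · subst e2; exact Or.inr h2
      exact Or.inl (h3 z e1 e2)
    rcases hv (J' := j) ω with e1 | e1 | e1 <;> rcases hv (J' := l) ω with e2 | e2 | e2 <;>
      rw [e1, e2] at h1 <;> split_ifs at h1 <;> omega
  have hd1 := hdeg j
  have hd2 := hdeg l
  rw [hsum', hjχ.1] at hd1
  rw [hsum'', hlψ.2, ← hc] at hd2
  have h2 : 2 * (m j₀ χ * d χ) = -1 := by linarith
  omega

variable {G : Type u} [Group G] [Finite G]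

theorem exists_degree_pair [IsSimpleGroup G] (hnc : ¬ ∀ a b : G, a * b = b * a) (p : ℕ) [Fact p.Prime]
    (hp2 : p ≠ 2) (P : Sylow p G) (hP : Nat.card ↥(P : Subgroup G) = p)
    (hN : Nat.card ↥(Subgroup.normalizer ((P : Subgroup G) : Set G)) = 2 * p)
    (hC : ¬ Subgroup.normalizer ((P : Subgroup G) : Set G) ≤ Subgroup.centralizer ((P : Subgroup G) : Set G)) :
    ∃ d e : ℕ, d ∣ Nat.card G ∧ e ∣ Nat.card G ∧ 1 < d ∧ 1 < e ∧
      ((d % p = 1 ∧ e = d + 1) ∨ (d % p = p - 1 ∧ e + 1 = d)) := by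
  classical
  have := Fintype.ofFinite G
  have hp : p.Prime := Fact.out
  have : NeZero p := ⟨hp.ne_zero⟩
  set Q : Subgroup G := (P : Subgroup G) with hQdef
  set N := Subgroup.normalizer (Q : Set G) with hNdef
  have := Fintype.ofFinite ↥Q
  have hcyc : IsCyclic ↥Q := isCyclic_of_prime_card hP
  have hQc : ∀ x ∈ Q, ∀ y ∈ Q, x * y = y * x := fun x hx y hy => by
    let _ := IsCyclic.commGroup (α := ↥Q)
    exact congrArg Subtype.val (mul_comm (⟨x, hx⟩ : ↥Q) ⟨y, hy⟩)
  -- the inverting element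
  have hidx : ((Q.subgroupOf N)).index = 2 := by
    have h1 := Subgroup.card_mul_index (Q.subgroupOf N)
    rw [Nat.card_congr (Subgroup.subgroupOfEquivOfLe Subgroup.le_normalizer).toEquiv, hP, hN, mul_comm 2 p] at h1
    exact Nat.eq_of_mul_eq_mul_left hp.pos h1
  obtain ⟨t, htN, htC⟩ : ∃ t ∈ N, t ∉ Subgroup.centralizer (Q : Set G) := SetLike.not_le_iff_exists.1 hC
  have htQ : t ∉ Q := fun h => htC (Subgroup.mem_centralizer_iff.2 fun y hy => hQc y hy t h)
  have hcoset : ∀ n ∈ N, n ∈ Q ∨ t⁻¹ * n ∈ Q := fun n hn => by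
    by_cases h : n ∈ Q
    · exact Or.inl h
    · refine Or.inr ?_
      have h1 := (Subgroup.mul_mem_iff_of_index_two hidx (a := (⟨t, htN⟩ : ↥N)⁻¹) (b := ⟨n, hn⟩)).2
        (by simp [Subgroup.mem_subgroupOf, htQ, h])
      exact h1
  have ht2 : t * t ∈ Q := by
    have h1 := (Subgroup.mul_mem_iff_of_index_two hidx (a := (⟨t, htN⟩ : ↥N)) (b := ⟨t, htN⟩)).2 Iff.rfl
    exact h1
  have hinv : ∀ y ∈ Q, t⁻¹ * y * t = y⁻¹ := by
    intro y hy
    have hy' : t⁻¹ * y * t ∈ Q := by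
      have := (Subgroup.mem_set_normalizer_iff.1 (N.inv_mem htN) y).1 hy
      rwa [inv_inv] at this
    set z := t⁻¹ * y * t * y with hz
    have hzQ : z ∈ Q := Q.mul_mem hy' hy
    by_contra hne
    have hz1 : z ≠ 1 := fun h => hne (eq_inv_of_mul_eq_one_left h)
    have hcomm : Commute z t := by
      have h2 : t * t * (t⁻¹ * y * t) = (t⁻¹ * y * t) * (t * t) := hQc _ ht2 _ hy'
      have h3 : t * y * t⁻¹ = t⁻¹ * y * t := by
        calc t * y * t⁻¹ = (t * t * (t⁻¹ * y * t)) * (t * t)⁻¹ := by group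
          _ = (t⁻¹ * y * t * (t * t)) * (t * t)⁻¹ := by rw [h2]
          _ = t⁻¹ * y * t := by group
      change z * t = t * z
      calc z * t = t * ((t⁻¹ * (t⁻¹ * y * t) * t) * (t⁻¹ * y * t)) := by rw [hz]; group
        _ = t * ((t⁻¹ * (t * y * t⁻¹) * t) * (t⁻¹ * y * t)) := by rw [h3]
        _ = t * (y * (t⁻¹ * y * t)) := by group
        _ = t * z := by rw [hQc y hy _ hy', hz]
    refine htC (Subgroup.mem_centralizer_iff.2 fun w hw => ?_)
    obtain ⟨k, hk⟩ := Subgroup.mem_zpowers_iff.1 (show (⟨w, hw⟩ : ↥Q) ∈ Subgroup.zpowers ⟨z, hzQ⟩ by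
      rw [zpowers_eq_top_of_prime_card hP fun h => hz1 (congrArg Subtype.val h)]; trivial)
    rw [show w = z ^ k from (congrArg Subtype.val hk).symm.trans (Subgroup.coe_zpow _ _ _)]
    exact (hcomm.zpow_left k).eq
  -- the induced function on `Q`
  have hind : ∀ f : ↥Q → ℂ, f 1 = 0 → ∀ y : ↥Q, Cfsg.indFun Q f (y : G) = f y + f y⁻¹ := by
    intro f hf y
    by_cases hy : y = 1
    · subst hy
      rw [inv_one, hf, Subgroup.coe_one, Cfsg.indFun]
      rw [Finset.sum_eq_zero fun x _ => ?_, mul_zero, add_zero]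
      rw [mul_one, inv_mul_cancel, show (1 : G) = ((1 : ↥Q) : G) from rfl, extendByZero_apply, hf]
    have hsupp : ∀ x : G, x⁻¹ * (y : G) * x ∈ Q → x ∈ N := by
      intro x hx
      have h1 : (y : G) • (x • P) = x • P := by
        rw [← mul_smul, show (y : G) * x = x * (x⁻¹ * y * x) by group, mul_smul,
          Sylow.smul_eq_iff_mem_normalizer.2 (Subgroup.le_normalizer hx)]
      have h2 := sylow_fixed_eq hP y.2 (fun h => hy (Subtype.ext h)) h1
      exact Sylow.smul_eq_iff_mem_normalizer.1 h2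
    let s₁ : Finset G := Finset.univ.image ((↑) : ↥Q → G)
    let s₂ : Finset G := Finset.univ.image (fun w : ↥Q => t * (w : G))
    have hdisj : Disjoint s₁ s₂ := by
      rw [Finset.disjoint_left]
      intro x h1 h2
      obtain ⟨w, -, rfl⟩ := Finset.mem_image.1 h1
      obtain ⟨v, -, hv⟩ := Finset.mem_image.1 h2
      exact htQ (by rw [show t = (w : G) * (v : G)⁻¹ by rw [← hv]; group]; exact Q.mul_mem w.2 (Q.inv_mem v.2))
    have hQN : (Q : Subgroup G) ≤ N := Subgroup.le_normalizer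
    rw [Cfsg.indFun, ← Finset.sum_subset (Finset.subset_univ (s₁ ∪ s₂)) fun x _ hx => ?_,
      Finset.sum_union hdisj, Finset.sum_image fun a _ b _ h => Subtype.ext h,
      Finset.sum_image fun a _ b _ h => Subtype.ext (mul_left_cancel h)]
    · have e1 : ∀ w : ↥Q, Cfsg.extendByZero Q f ((w : G)⁻¹ * y * w) = f y := fun w => by
        rw [mul_assoc, hQc y y.2 w w.2, inv_mul_cancel_left, extendByZero_apply]
      have e2 : ∀ w : ↥Q, Cfsg.extendByZero Q f ((t * (w : G))⁻¹ * y * (t * w)) = f y⁻¹ := fun w => by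
        rw [show (t * (w : G))⁻¹ * y * (t * w) = (w : G)⁻¹ * (t⁻¹ * y * t) * w by group, hinv y y.2, mul_assoc,
          hQc _ (Q.inv_mem y.2) w w.2, inv_mul_cancel_left, ← Subgroup.coe_inv, extendByZero_apply]
      rw [Finset.sum_congr rfl fun w _ => e1 w, Finset.sum_congr rfl fun w _ => e2 w, Finset.sum_const,
        Finset.sum_const, Finset.card_univ, ← Nat.card_eq_fintype_card, nsmul_eq_mul, nsmul_eq_mul, ← mul_add,
        ← mul_assoc, inv_mul_cancel₀ (by exact_mod_cast Nat.card_pos.ne'), one_mul]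
    · refine extendByZero_not_mem _ fun hmem => hx ?_
      rcases hcoset x (hsupp x hmem) with h | h
      · exact Finset.mem_union_left _ (Finset.mem_image.2 ⟨⟨x, h⟩, Finset.mem_univ _, rfl⟩)
      · exact Finset.mem_union_right _
          (Finset.mem_image.2 ⟨⟨_, h⟩, Finset.mem_univ _, mul_inv_cancel_left t x⟩)
  -- the linear characters of `Q`
  let e : Multiplicative (ZMod p) ≃* ↥Q :=
    (AddEquiv.toMultiplicative (ZMod.ringEquivCongr hP).symm.toAddEquiv).trans
      (zmodCyclicMulEquiv (G := ↥Q) hcyc)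
  let L : ZMod p → ↥Q →* ℂˣ := fun j => MonoidHom.toHomUnits
    ((AddChar.toMonoidHom (AddChar.mulShift ZMod.stdAddChar j : AddChar (ZMod p) ℂ)).comp e.symm.toMonoidHom)
  let ψ : ZMod p → ↥Q → ℂ := fun j y => (L j y : ℂ)
  have hψ : ∀ j a, ψ j (e (Multiplicative.ofAdd a)) = ZMod.stdAddChar (j * a) := fun j a => by
    simp [ψ, L, AddChar.mulShift_apply]
  have hψneg : ∀ j y, ψ j y⁻¹ = ψ (-j) y := fun j y => by
    obtain ⟨a, rfl⟩ := e.surjective y
    obtain ⟨a, rfl⟩ := Multiplicative.ofAdd.surjective a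
    rw [← map_inv, ← ofAdd_neg, hψ, hψ, mul_neg, neg_mul]
  have hψ0 : ∀ y, ψ 0 y = 1 := fun y => by
    obtain ⟨a, rfl⟩ := e.surjective y
    obtain ⟨a, rfl⟩ := Multiplicative.ofAdd.surjective a
    rw [hψ, zero_mul, AddChar.map_zero_eq_one]
  have horth : ∀ i j, Cfsg.classInner (ψ i) (ψ j) = if i = j then 1 else 0 := by
    intro i j
    rw [classInner_def, ← (Multiplicative.ofAdd.trans e.toEquiv).sum_comp]
    simp only [Equiv.trans_apply, MulEquiv.toEquiv_eq_coe, MulEquiv.coe_toEquiv, hψ]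
    have h1 : ∀ a : ZMod p, ZMod.stdAddChar (i * a) * conj (ZMod.stdAddChar (j * a) : ℂ) =
        ZMod.stdAddChar (a * (i - j)) := fun a => by
      rw [← AddChar.map_neg_eq_conj, ← AddChar.map_add_eq_mul]
      congr 1
      ring
    rw [Finset.sum_congr rfl fun a _ => h1 a, AddChar.sum_mulShift _ (ZMod.isPrimitive_stdAddChar p), hP]
    split_ifs with h2 h3 h3
    · rw [ZMod.card]; simp [hp.ne_zero]
    · exact absurd (sub_eq_zero.1 h2) h3
    · exact absurd (sub_eq_zero.2 h3) h2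
    · simp
  have hψsum : ∀ y : ↥Q, ∑ j, ψ j y = if y = 1 then (p : ℂ) else 0 := by
    intro y
    obtain ⟨a, rfl⟩ := e.surjective y
    obtain ⟨a, rfl⟩ := Multiplicative.ofAdd.surjective a
    rw [Finset.sum_congr rfl fun j _ => hψ j a, AddChar.sum_mulShift _ (ZMod.isPrimitive_stdAddChar p)]
    split_ifs with h2 h3 h3
    · rw [ZMod.card]
    · exact absurd (by rw [h2, ofAdd_zero, map_one]) h3
    · exact absurd (by simpa using h3) h2
    · simp
  -- the differences
  let f : ZMod p → ↥Q → ℂ := fun j => ψ 0 - ψ j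
  have hf1 : ∀ j, f j 1 = 0 := fun j => by
    change ψ 0 1 - ψ j 1 = 0
    simp [ψ]
  let Φ : ZMod p → G → ℂ := fun j => Cfsg.indFun Q (f j)
  have hΦcf : ∀ j, Cfsg.IsClassFunction G (Φ j) := fun j => isClassFunction_indFun Q _
  have hres : ∀ j, (fun y : ↥Q => Φ j y) = ψ 0 + ψ 0 - ψ j - ψ (-j) := fun j => funext fun y => by
    change Cfsg.indFun Q (f j) y = _
    rw [hind _ (hf1 j)]
    change ψ 0 y - ψ j y + (ψ 0 y⁻¹ - ψ j y⁻¹) = ψ 0 y + ψ 0 y - ψ j y - ψ (-j) y
    rw [hψneg, hψneg, neg_zero]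
    ring
  have hΦinner : ∀ i j, i ≠ 0 → j ≠ 0 →
      Cfsg.classInner (Φ i) (Φ j) = if i = j ∨ i = -j then 3 else 2 := by
    intro i j hi hj
    rw [frobenius_reciprocity Q (f i) (hΦcf j), hres j]
    have hjj : j ≠ -j := fun h => by
      have h2 : (2 : ZMod p) * j = 0 := by linear_combination h
      rcases mul_eq_zero.1 h2 with e | e
      · refine hp2 ((Nat.prime_dvd_prime_iff_eq hp Nat.prime_two).1 ?_)
        exact (CharP.cast_eq_zero_iff (ZMod p) p 2).1 (by exact_mod_cast e)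
      · exact hj e
    simp only [f, classInner_sub_left, classInner_sub_right, classInner_add_right, horth,
      Ne.symm hj, Ne.symm (neg_ne_zero.2 hj), hi, if_true, if_false]
    by_cases h1 : i = j
    · subst h1; simp [hjj]; norm_num
    by_cases h2 : i = -j
    · subst h2; simp [h1]; norm_num
    simp [h1, h2]
    norm_num
  have hk : ∀ (j : ZMod p) (χ : Cfsg.IrrCharacter G), ∃ k : ℕ,
      Cfsg.classInner (fun y : ↥Q => (χ : G → ℂ) y) (ψ j) = k := fun j χ =>
    IsCharacter.exists_mult (IsCharacter.restrict (isCharacter_of_irr χ.2) Q) (isIrrCharacter_linear (L j))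
  choose k hk using hk
  let m : ZMod p → Cfsg.IrrCharacter G → ℤ := fun j χ => (k 0 χ : ℤ) - k j χ
  have hm : ∀ j (χ : Cfsg.IrrCharacter G), Cfsg.classInner (Φ j) χ = (m j χ : ℂ) := fun j χ => by
    rw [frobenius_reciprocity Q (f j) (isClassFunction_irr χ)]
    have hsymm : ∀ i, Cfsg.classInner (ψ i) (fun y : ↥Q => (χ : G → ℂ) y) = (k i χ : ℂ) := fun i => by
      rw [← classInner_conj_symm, hk, Complex.conj_natCast]
    simp only [f, classInner_sub_left, hsymm, m]
    push_cast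
    ring
  have hparseval : ∀ i j, i ≠ 0 → j ≠ 0 → ∑ χ, m i χ * m j χ = if i = j ∨ i = -j then 3 else 2 := by
    intro i j hi hj
    have h1 := hΦinner i j hi hj
    conv_lhs at h1 => arg 1; rw [classFunction_expand (hΦcf i)]
    rw [classInner_sum_left] at h1
    have h2 : ∀ χ : Cfsg.IrrCharacter G, Cfsg.classInner (Cfsg.classInner (Φ i) χ • (χ : G → ℂ)) (Φ j) =
        ((m i χ * m j χ : ℤ) : ℂ) := fun χ => by
      have h3 : Cfsg.classInner (χ : G → ℂ) (Φ j) = conj (Cfsg.classInner (Φ j) χ) := (classInner_conj_symm _ _).symm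
      rw [classInner_smul_left, h3, hm, hm, map_intCast]
      push_cast
      ring
    rw [Finset.sum_congr rfl fun χ _ => h2 χ, ← Int.cast_sum] at h1
    split_ifs at h1 ⊢ <;> exact_mod_cast h1
  set χ₀ := principal G with hχ₀
  have hm0 : ∀ j, j ≠ 0 → m j χ₀ = 1 := fun j hj => by
    have h1 := hm j χ₀
    rw [frobenius_reciprocity Q (f j) (isClassFunction_irr χ₀),
      show (fun y : ↥Q => (χ₀ : G → ℂ) y) = ψ 0 from funext fun y => (hψ0 y).symm] at h1
    simp only [f, classInner_sub_left, horth, hj, if_true, if_false, sub_zero] at h1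
    exact_mod_cast h1.symm
  have hdeg : ∀ j, ∑ χ, m j χ * (deg (χ : G → ℂ) : ℤ) = 0 := fun j => by
    have h1 := classFunction_expand_apply (hΦcf j) 1
    have h0 : Φ j 1 = 0 := by
      change Cfsg.indFun Q (f j) ((1 : ↥Q) : G) = 0
      rw [hind _ (hf1 j), inv_one, hf1, add_zero]
    rw [h0, Finset.sum_congr rfl fun χ _ => by rw [hm, irr_apply_one_eq_deg]] at h1
    exact_mod_cast h1.symm
  -- drop the principal character
  let ι := {χ : Cfsg.IrrCharacter G // χ ≠ χ₀}
  let J := {j : ZMod p // j ≠ 0}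
  have hsplit : ∀ g : Cfsg.IrrCharacter G → ℤ, ∑ χ, g χ = g χ₀ + ∑ χ : ι, g χ.1 := fun g => by
    rw [Fintype.sum_eq_add_sum_compl χ₀ g]
    congr 1
    exact Finset.sum_subtype _ (fun x => by simp) g
  have hdeg0 : (deg (χ₀ : G → ℂ) : ℤ) = 1 := by
    have : ((deg (χ₀ : G → ℂ) : ℕ) : ℂ) = 1 := (irr_apply_one_eq_deg χ₀).symm
    exact_mod_cast this
  obtain ⟨χ, χ', a, b, ha, hb, hall, hdd⟩ := exists_common_constituent (ι := ι) (J := J)
    (fun χ => (deg (χ.1 : G → ℂ) : ℤ)) (fun j χ => m j.1 χ.1) (fun j => ⟨-j.1, neg_ne_zero.2 j.2⟩)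
    (fun j => by
      have h1 := hdeg j.1
      rw [hsplit, hm0 j.1 j.2, hdeg0] at h1
      linarith)
    (fun i j => by
      have h1 := hparseval i.1 j.1 i.2 j.2
      rw [hsplit, hm0 i.1 i.2, hm0 j.1 j.2] at h1
      have h2 : (i = j ∨ i = ⟨-j.1, neg_ne_zero.2 j.2⟩) ↔ (i.1 = j.1 ∨ i.1 = -j.1) :=
        or_congr Subtype.coe_injective.eq_iff.symm Subtype.coe_injective.eq_iff.symm
      by_cases h3 : i = j ∨ i = ⟨-j.1, neg_ne_zero.2 j.2⟩
      · rw [if_pos (h2.1 h3)] at h1; rw [if_pos h3]; linarith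
      · rw [if_neg (fun h => h3 (h2.2 h))] at h1; rw [if_neg h3]; linarith)
    ⟨1, one_ne_zero⟩
  -- the degree of the common constituent
  have hdsum : (deg (χ.1 : G → ℂ) : ℤ) = ∑ j, (k j χ.1 : ℤ) := by
    have h1 : Cfsg.classInner (fun y : ↥Q => (χ.1 : G → ℂ) y) (fun y => ∑ j, ψ j y) = ∑ j, (k j χ.1 : ℂ) := by
      rw [show (fun y => ∑ j, ψ j y) = ∑ j, ψ j from (funext fun y => (Finset.sum_apply y _ _).symm),
        classInner_sum_right]
      exact Finset.sum_congr rfl fun j _ => hk j χ.1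
    rw [classInner_def, Finset.sum_eq_single (1 : ↥Q) (fun y _ hy => by rw [hψsum, if_neg hy, map_zero, mul_zero])
      (fun h => absurd (Finset.mem_univ _) h), hψsum, if_pos rfl, Complex.conj_natCast, hP, Subgroup.coe_one,
      irr_apply_one_eq_deg] at h1
    rw [mul_comm ((deg _ : ℕ) : ℂ), ← mul_assoc, inv_mul_cancel₀ (by exact_mod_cast hp.ne_zero), one_mul] at h1
    exact_mod_cast h1
  have hmodp : ((deg (χ.1 : G → ℂ) : ℕ) : ZMod p) = (a : ZMod p) := by
    have h2 : ∀ j : ZMod p, j ≠ 0 → (k j χ.1 : ℤ) = k 0 χ.1 - a := fun j hj => by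
      have := hall ⟨j, hj⟩
      simp only [m] at this
      linarith
    have h3 : (deg (χ.1 : G → ℂ) : ℤ) = k 0 χ.1 + ((p : ℤ) - 1) * (k 0 χ.1 - a) := by
      rw [hdsum, Fintype.sum_eq_add_sum_compl (0 : ZMod p),
        Finset.sum_congr rfl fun j hj => h2 j (by simpa using hj), Finset.sum_const, Finset.card_compl,
        ZMod.card, Finset.card_singleton, nsmul_eq_mul, Nat.cast_sub hp.one_le, Nat.cast_one]
    have h4 := congrArg (fun z : ℤ => (z : ZMod p)) h3
    simpa using h4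
  have hpos : ∀ c : ι, 1 < deg (c.1 : G → ℂ) := fun c => by
    by_contra! hle
    have h1 : deg (c.1 : G → ℂ) = 1 := le_antisymm hle (deg_irr_pos c.1)
    obtain ⟨φ, hφ⟩ := exists_hom_of_deg_one (isCharacter_of_irr c.1.2)
      (by rw [irr_apply_one_eq_deg, h1, Nat.cast_one])
    refine c.2 (Subtype.ext ?_)
    rw [hφ]
    funext g
    rw [eq_one_of_monoidHom hnc φ g, Units.val_one]
    rfl
  refine ⟨deg (χ.1 : G → ℂ), deg (χ'.1 : G → ℂ), IsIrrCharacter.deg_dvd χ.1.2, IsIrrCharacter.deg_dvd χ'.1.2,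
    hpos χ, hpos χ', ?_⟩
  have hd1 := hpos χ
  have hd2 := hpos χ'
  rcases ha with rfl | rfl
  · left
    refine ⟨?_, ?_⟩
    · have h5 : ((deg (χ.1 : G → ℂ) : ℕ) : ZMod p) = ((1 : ℕ) : ZMod p) := by simpa using hmodp
      rw [ZMod.natCast_eq_natCast_iff', Nat.mod_eq_of_lt hp.one_lt] at h5
      exact h5
    · rcases hb with rfl | rfl <;> omega
  · right
    refine ⟨?_, ?_⟩
    · have h5 : ((deg (χ.1 : G → ℂ) : ℕ) : ZMod p) = ((p - 1 : ℕ) : ZMod p) := by
        rw [Nat.cast_sub hp.one_le, ZMod.natCast_self, Nat.cast_one, zero_sub]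
        simpa using hmodp
      rw [ZMod.natCast_eq_natCast_iff', Nat.mod_eq_of_lt (Nat.sub_lt hp.pos one_pos)] at h5
      exact h5
    · rcases hb with rfl | rfl <;> omega

end Cfsg.Lib.Small
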