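import Cfsg.Agent.Small.Orders
import Cfsg.Agent.S0678
import Mathlib

/-!
Simple groups of order 504: centralisers of non-identity elements are abelian.
-/

set_option autoImplicit false

namespace Cfsg.Lib.Small.FiveZeroFour

open Cfsg.Lib.Small
open scoped IsMulCommutative

universe u

variable {G : Type u} [Group G] [Finite G] [IsSimpleGroup G]

theorem hnc (h : Nat.card G = 504) : ¬ ∀ a b : G, a * b = b * a :=
  not_comm_of_isSimple (not_prime_of_eq h 2 252 (by norm_num) (by norm_num) (by norm_num))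

/-- A fixed point of the normaliser of an abelian Sylow subgroup is trivial. -/
theorem eq_one_of_central {p : ℕ} [Fact p.Prime] (hn : ¬ ∀ a b : G, a * b = b * a) (R : Sylow p G)
    (hab : IsMulCommutative ↥(R : Subgroup G)) {z : G} (hz : z ∈ (R : Subgroup G))
    (hzN : ∀ g ∈ Subgroup.normalizer ((R : Subgroup G) : Set G), g * z = z * g) : z = 1 := by
  have hcom : ∀ a b, a ∈ (R : Subgroup G) → b ∈ (R : Subgroup G) → a * b = b * a := fun a b ha hb =>
    congrArg Subtype.val (hab.is_comm.comm ⟨a, ha⟩ ⟨b, hb⟩)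
  have key : ∀ (k : ℕ) (g₀ : G), g₀⁻¹ * z ^ k * g₀ ∈ (R : Subgroup G) → g₀⁻¹ * z ^ k * g₀ = z ^ k := by
    intro k g₀ hk
    obtain ⟨m, hm, e⟩ := R.conj_eq_normalizer_conj_of_mem_centralizer (z ^ k) g₀
      (Subgroup.mem_centralizer_iff.2 fun a ha => hcom a _ ha (Subgroup.pow_mem _ hz k))
      (Subgroup.mem_centralizer_iff.2 fun a ha => hcom a _ ha hk)
    rw [e, mul_assoc, ← ((show Commute m z from hzN m hm).pow_right k).eq, inv_mul_cancel_left]
  have h1 := MonoidHom.transfer_eq_pow (MonoidHom.id ↥(R : Subgroup G)) z key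
  rw [eq_one_of_monoidHom hn] at h1
  have h2 : z ^ (R : Subgroup G).index = 1 := (congrArg Subtype.val h1).symm
  obtain ⟨k, hk⟩ := R.2 ⟨z, hz⟩
  have h3 : orderOf z ∣ p ^ k := orderOf_dvd_of_pow_eq_one (congrArg Subtype.val hk)
  have hco : Nat.Coprime (p ^ k) (R : Subgroup G).index :=
    Nat.Coprime.pow_left k ((Nat.Prime.coprime_iff_not_dvd Fact.out).2 (Sylow.not_dvd_index R))
  exact orderOf_eq_one_iff.1 (Nat.eq_one_of_dvd_coprimes hco h3 (orderOf_dvd_of_pow_eq_one h2))

theorem no_index_le_seven (h : Nat.card G = 504) {H : Subgroup G} (hH : H ≠ ⊤) (hk : H.index ≤ 7) : False := by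
  classical
  rcases hk.lt_or_eq with hlt | he
  · have h1 := (two_mul_card_dvd_index_factorial (hnc h) H hH).trans (Nat.factorial_dvd_factorial (Nat.lt_succ_iff.1 hlt))
    rw [h] at h1
    exact absurd h1 (by decide)
  · have := Fintype.ofFinite (G ⧸ H)
    set f := MulAction.toPermHom G (G ⧸ H) with hf
    have hinj : Function.Injective f := by
      rcases f.normal_ker.eq_bot_or_eq_top with hb | ht
      · exact (MonoidHom.ker_eq_bot_iff f).1 hb
      · refine absurd ((Subgroup.eq_top_iff' H).2 fun g => ?_) hH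
        have hg : f g = 1 := MonoidHom.mem_ker.1 (ht ▸ Subgroup.mem_top g)
        have h3 : g • ((1 : G) : G ⧸ H) = ((1 : G) : G ⧸ H) := Equiv.ext_iff.1 hg ((1 : G) : G ⧸ H)
        have h4 : ((g * 1 : G) : G ⧸ H) = ((1 : G) : G ⧸ H) := h3
        rw [mul_one, QuotientGroup.eq, mul_one] at h4
        simpa using H.inv_mem h4
    have hcard : Nat.card ↥f.range = 504 := (Nat.card_congr (MonoidHom.ofInjective hinj).toEquiv).symm.trans h
    have : MulAction.IsPretransitive ↥f.range (G ⧸ H) := ⟨fun a b => by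
      obtain ⟨g, hg⟩ := MulAction.exists_smul_eq G a b
      exact ⟨⟨f g, g, rfl⟩, hg⟩⟩
    have hα : Fintype.card (G ⧸ H) = 7 := by rw [← Nat.card_eq_fintype_card, ← Subgroup.index, he]
    have h168 := (Cfsg.Agent.S0678.result hα f.range (fun hs => hnc h fun a b => ?_) (fun hle => ?_)).1
    · omega
    · have : Group.IsSolvable G := (solvable_of_solvable_injective (f := f.rangeRestrict) fun a b e => hinj (congrArg Subtype.val e))
      exact IsSimpleGroup.comm_iff_isSolvable.2 this a b
    · have : Nontrivial (G ⧸ H) := Fintype.one_lt_card_iff_nontrivial.1 (by omega)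
      have h1 := Subgroup.card_le_of_le hle
      have h2 := two_mul_nat_card_alternatingGroup (α := G ⧸ H)
      rw [Nat.card_perm, Nat.card_eq_fintype_card (α := G ⧸ H), hα] at h2
      rw [hcard] at h1
      rw [show Nat.factorial 7 = 5040 from rfl] at h2
      omega

theorem card_sylow_seven (h : Nat.card G = 504) [Fact (Nat.Prime 7)] (P : Sylow 7 G) :
    Nat.card ↥(P : Subgroup G) = 7 ∧ Nat.card (Sylow 7 G) = 36 ∧
      Nat.card ↥(Subgroup.centralizer ((P : Subgroup G) : Set G)) = 7 := by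
  have hn := hnc h
  have h7 : (7 : ℕ) ∣ Nat.card G := by rw [h]; norm_num
  have hP : Nat.card ↥(P : Subgroup G) = 7 := by
    simpa using card_sylow_of_factor P (a := 1) (m := 72) (by rw [h]; norm_num) (by norm_num)
  obtain ⟨hd, hm⟩ := sylow_facts P (a := 1) (m := 72) (by rw [h]; norm_num) (by norm_num)
  have hne := card_sylow_ne_one (p := 7) hn h7
  have hcases : Nat.card (Sylow 7 G) = 8 ∨ Nat.card (Sylow 7 G) = 36 := by
    have : ∀ j < 73, j ∣ 72 → j % 7 = 1 → j ≠ 1 → j = 8 ∨ j = 36 := by decide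
    exact this _ (by have := Nat.le_of_dvd (by norm_num) hd; omega) hd hm hne
  have hN := card_normalizer_mul P
  rw [h] at hN
  set N := Subgroup.normalizer ((P : Subgroup G) : Set G) with hNd
  set C := Subgroup.centralizer ((P : Subgroup G) : Set G) with hCd
  have h36 : Nat.card (Sylow 7 G) = 36 := by
    refine hcases.resolve_left fun h8 => ?_
    rw [h8] at hN
    have h63 : Nat.card ↥N = 63 := by omega
    have : Fact (Nat.Prime 3) := ⟨by norm_num⟩
    obtain ⟨T, hT⟩ := Sylow.exists_subgroup_card_pow_prime (G := ↥N) 3 (n := 2) (by rw [h63]; norm_num)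
    have hT' : Nat.card ↥(T.map N.subtype) = 9 := by
      rw [Subgroup.card_map_of_injective N.subtype_injective, hT]; norm_num
    have h1 := relIndex_centralizer_dvd hP (Subgroup.map_subtype_le T)
    have h2 : (C.subgroupOf (T.map N.subtype)).index ∣ 9 := hT' ▸ Subgroup.index_dvd_card _
    have h3 : (C.subgroupOf (T.map N.subtype)).index ∣ 3 :=
      (Nat.dvd_gcd h1 h2).trans (by norm_num)
    have h4 := Subgroup.card_mul_index (C.subgroupOf (T.map N.subtype))
    rw [hT'] at h4
    have h5 : 3 ∣ Nat.card ↥(C.subgroupOf (T.map N.subtype)) := by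
      rcases (Nat.dvd_prime (by norm_num)).1 h3 with e | e <;> rw [e] at h4
      · exact ⟨3, by omega⟩
      · exact ⟨1, by omega⟩
    obtain ⟨g, hg⟩ := exists_prime_orderOf_dvd_card' 3 h5
    rw [← Subgroup.orderOf_coe, ← Subgroup.orderOf_coe] at hg
    exact not_prime_centralizer hn h7 hP (r := 3) (by norm_num) (by norm_num) (by rw [h8]; norm_num) hg g.2
  refine ⟨hP, h36, ?_⟩
  rw [h36] at hN
  have h14 : Nat.card ↥N = 14 := by omega
  have hle : C ≤ N := Subgroup.centralizer_le_normalizer _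
  have hd14 : Nat.card ↥C ∣ 14 := h14 ▸ Subgroup.card_dvd_of_le hle
  have hPC : (P : Subgroup G) ≤ C := by
    intro x hx
    have : IsCyclic ↥(P : Subgroup G) := isCyclic_of_prime_card hP
    exact Subgroup.mem_centralizer_iff.2 fun y hy =>
      congrArg Subtype.val ((IsCyclic.commutative (α := ↥(P : Subgroup G))).is_comm.comm ⟨y, hy⟩ ⟨x, hx⟩)
  have h7d : 7 ∣ Nat.card ↥C := hP ▸ Subgroup.card_dvd_of_le hPC
  have hne14 : Nat.card ↥C ≠ 14 := fun e => not_normalizer_le_centralizer hn h7 P
    (Subgroup.eq_of_le_of_card_ge hle (by rw [h14, e])).ge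
  have : ∀ j < 15, j ∣ 14 → 7 ∣ j → j ≠ 14 → j = 7 := by decide
  exact this _ (by have := Nat.le_of_dvd (by norm_num) hd14; omega) hd14 h7d hne14

theorem centralizer_seven (h : Nat.card G = 504) [Fact (Nat.Prime 7)] {x : G} (hx : orderOf x = 7) :
    Nat.card ↥(Subgroup.centralizer ({x} : Set G)) = 7 := by
  have hc : Nat.card ↥(Subgroup.zpowers x) = 7 ^ (Nat.card G).factorization 7 := by
    rw [Nat.card_zpowers, hx, h, show (504 : ℕ) = 7 ^ 1 * 72 by norm_num,
      Nat.factorization_mul (by norm_num) (by norm_num), Finsupp.add_apply,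
      (by norm_num : Nat.Prime 7).factorization_pow, Finsupp.single_eq_same,
      Nat.factorization_eq_zero_of_not_dvd (by norm_num), add_zero, pow_one]
  obtain ⟨P, hP⟩ : ∃ P : Sylow 7 G, (P : Subgroup G) = Subgroup.zpowers x :=
    ⟨Sylow.ofCard (Subgroup.zpowers x) hc, Sylow.coe_ofCard _ _⟩
  have hC := (card_sylow_seven h P).2.2
  rw [hP, Subgroup.zpowers_eq_closure, Subgroup.centralizer_closure] at hC
  exact hC

theorem card_sylow_three (h : Nat.card G = 504) [Fact (Nat.Prime 3)] (R : Sylow 3 G) :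
    Nat.card ↥(R : Subgroup G) = 9 ∧ Nat.card (Sylow 3 G) = 28 := by
  have hn := hnc h
  have h3 : (3 : ℕ) ∣ Nat.card G := by rw [h]; norm_num
  refine ⟨by simpa using card_sylow_of_factor R (a := 2) (m := 56) (by rw [h]; norm_num) (by norm_num), ?_⟩
  obtain ⟨hd, hm⟩ := sylow_facts R (a := 2) (m := 56) (by rw [h]; norm_num) (by norm_num)
  have hne := card_sylow_ne_one (p := 3) hn h3
  have hcases : Nat.card (Sylow 3 G) ≤ 7 ∨ Nat.card (Sylow 3 G) = 28 := by
    have : ∀ j < 57, j ∣ 56 → j % 3 = 1 → j ≠ 1 → j ≤ 7 ∨ j = 28 := by decide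
    exact this _ (by have := Nat.le_of_dvd (by norm_num) hd; omega) hd hm hne
  refine hcases.resolve_left fun hle => ?_
  refine no_index_le_seven h (H := Subgroup.normalizer ((R : Subgroup G) : Set G)) (fun e => hne ?_)
    (R.card_eq_index_normalizer ▸ hle)
  refine R.card_eq_index_normalizer.trans ?_
  exact Subgroup.index_eq_one.2 e

set_option maxHeartbeats 800000 in
/-- The centraliser of a non-identity 3-element is the Sylow subgroup containing it. -/
theorem centralizer_three (h : Nat.card G = 504) [Fact (Nat.Prime 3)] (R : Sylow 3 G) {y : G}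
    (hy : y ∈ (R : Subgroup G)) (hy1 : y ≠ 1) : Subgroup.centralizer ({y} : Set G) = (R : Subgroup G) := by
  have hn := hnc h
  have : Fact (Nat.Prime 7) := ⟨by norm_num⟩
  obtain ⟨hR, h28⟩ := card_sylow_three h R
  have hab : IsMulCommutative ↥(R : Subgroup G) := by
    let _ := IsPGroup.commGroupOfCardEqPrimeSq (p := 3) (G := ↥(R : Subgroup G)) (by rw [hR]; norm_num)
    exact ⟨⟨fun a b => mul_comm a b⟩⟩
  set H := Subgroup.centralizer ({y} : Set G) with hH
  have hRH : (R : Subgroup G) ≤ H := fun a ha => Subgroup.mem_centralizer_singleton_iff.2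
    (congrArg Subtype.val (hab.is_comm.comm ⟨a, ha⟩ ⟨y, hy⟩))
  have hHt : H ≠ ⊤ := centralizer_ne_top hn hy1
  have h9 : 9 ∣ Nat.card ↥H := hR ▸ Subgroup.card_dvd_of_le hRH
  have hoy : orderOf y ∣ 9 := hR ▸ Subgroup.orderOf_dvd_natCard _ hy
  have h7 : ¬ 7 ∣ Nat.card ↥H := by
    intro h7
    obtain ⟨x, hx⟩ := exists_prime_orderOf_dvd_card' (G := ↥H) 7 h7
    rw [← Subgroup.orderOf_coe] at hx
    have hyx : y ∈ Subgroup.centralizer ({(x : G)} : Set G) := Subgroup.mem_centralizer_singleton_iff.2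
      (Subgroup.mem_centralizer_singleton_iff.1 x.2).symm
    have h1 := Subgroup.orderOf_dvd_natCard _ hyx
    rw [centralizer_seven h hx] at h1
    exact hy1 (orderOf_eq_one_iff.1 (Nat.eq_one_of_dvd_coprimes (by norm_num : Nat.Coprime 9 7) hoy h1))
  have hHG : Nat.card ↥H * H.index = 504 := by rw [Subgroup.card_mul_index, h]
  have hdH : Nat.card ↥H ∣ 504 := Dvd.intro _ hHG
  have hcases : Nat.card ↥H = 9 ∨ Nat.card ↥H = 18 ∨ Nat.card ↥H = 36 ∨ Nat.card ↥H = 72 := by
    have hd72 : Nat.card ↥H ∣ 72 :=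
      (((Nat.Prime.coprime_iff_not_dvd (by norm_num : Nat.Prime 7)).2 h7).symm).dvd_of_dvd_mul_left
        (show Nat.card ↥H ∣ 7 * 72 from hdH)
    have : ∀ j < 73, j ∣ 72 → 9 ∣ j → j = 9 ∨ j = 18 ∨ j = 36 ∨ j = 72 := by decide
    exact this _ (by have := Nat.le_of_dvd (by norm_num) hd72; omega) hd72 h9
  set N := Subgroup.normalizer ((R : Subgroup G) : Set G) with hNd
  have hN18 : Nat.card ↥N = 18 := by
    have hN := card_normalizer_mul R
    rw [h28, h, ← hNd] at hN
    omega
  obtain ⟨n, hn1, hcard, himp⟩ := exists_card_eq_mul_inf_normalizer R hRH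
  have hdN : Nat.card ↥(H ⊓ N) ∣ 18 := hN18 ▸ Subgroup.card_dvd_of_le inf_le_right
  have h9N : 9 ∣ Nat.card ↥(H ⊓ N) := hR ▸ Subgroup.card_dvd_of_le (le_inf hRH Subgroup.le_normalizer)
  have hHN : Nat.card ↥(H ⊓ N) = 9 ∨ Nat.card ↥(H ⊓ N) = 18 := by
    have : ∀ j < 19, j ∣ 18 → 9 ∣ j → j = 9 ∨ j = 18 := by decide
    exact this _ (by have := Nat.le_of_dvd (by norm_num) hdN; omega) hdN h9N
  rcases hcases with e | e | e | e
  · exact (Subgroup.eq_of_le_of_card_ge hRH (by rw [e, hR])).symm
  · exfalso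
    have hn' : n = 1 := by
      rw [e] at hcard
      rcases hHN with e' | e' <;> rw [e'] at hcard <;> omega
    have hHeq : H = N := Subgroup.eq_of_le_of_card_ge (himp hn') (by rw [e, hN18])
    exact hy1 (eq_one_of_central hn R hab hy fun g hg => Subgroup.mem_centralizer_singleton_iff.1 (show g ∈ H by rw [hHeq]; exact hg))
  · exfalso
    have hn4 : n = 4 ∧ Nat.card ↥(H ⊓ N) = 9 := by
      rw [e] at hcard
      rcases hHN with e' | e' <;> rw [e'] at hcard <;> omega
    have hRN : (R : Subgroup G) = H ⊓ N :=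
      Subgroup.eq_of_le_of_card_ge (le_inf hRH Subgroup.le_normalizer) (by rw [hn4.2, hR])
    -- Burnside inside `H`
    let Q : Sylow 3 ↥H := R.subtype hRH
    have hle : Subgroup.normalizer ((Q : Subgroup ↥H) : Set ↥H) ≤
        Subgroup.centralizer ((Q : Subgroup ↥H) : Set ↥H) := by
      intro a ha
      have ha' : a ∈ ((R : Subgroup G).subgroupOf H) := by
        rw [Sylow.coe_subtype, ← Subgroup.subgroupOf_normalizer_eq hRH] at ha
        rw [hRN]
        exact ⟨a.2, ha⟩
      have haR : (a : G) ∈ (R : Subgroup G) := ha'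
      refine Subgroup.mem_centralizer_iff.2 fun b hb => Subtype.ext ?_
      have hbR : (b : G) ∈ (R : Subgroup G) := hb
      have hc := congrArg Subtype.val
        (hab.is_comm.comm (⟨(b : G), hbR⟩ : ↥(R : Subgroup G)) ⟨(a : G), haR⟩)
      push_cast at hc ⊢
      exact hc
    obtain ⟨M, hMn, hcompl⟩ : ∃ M : Subgroup ↥H, M.Normal ∧ Subgroup.IsComplement' M (Q : Subgroup ↥H) :=
      ⟨_, MonoidHom.normal_ker _, MonoidHom.ker_transferSylow_isComplement' Q hle⟩
    have hMc : Nat.card ↥M = 4 := by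
      have h1 := hcompl.card_mul_card
      have hQ : Nat.card ↥(Q : Subgroup ↥H) = 9 :=
        (Nat.card_congr (Subgroup.subgroupOfEquivOfLe hRH).toEquiv).trans hR
      rw [hQ, e] at h1
      omega
    have hM' : Nat.card ↥(M.map H.subtype) = 2 ^ 2 := by
      rw [Subgroup.card_map_of_injective H.subtype_injective, hMc]; norm_num
    have hHN' : H ≤ Subgroup.normalizer ((M.map H.subtype : Subgroup G) : Set G) := by
      intro a ha
      refine Subgroup.mem_normalizer_fintype fun b hb => ?_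
      obtain ⟨c, hc, rfl⟩ := hb
      exact ⟨⟨a, ha⟩ * c * ⟨a, ha⟩⁻¹, hMn.conj_mem c hc _, rfl⟩
    have : Fact (Nat.Prime 2) := ⟨Nat.prime_two⟩
    obtain ⟨S, hS, hMS⟩ := Sylow.exists_subgroup_card_pow_succ (G := G) (p := 2) (n := 2) (by rw [h]; norm_num) hM'
    have hSN : S ≤ Subgroup.normalizer ((M.map H.subtype : Subgroup G) : Set G) := by
      have hnor : ((M.map H.subtype).subgroupOf S).Normal := by
        refine Subgroup.normal_of_index_eq_minFac_card ?_
        have h1 := Subgroup.card_mul_index ((M.map H.subtype).subgroupOf S)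
        rw [Nat.card_congr (Subgroup.subgroupOfEquivOfLe hMS).toEquiv, hM', hS] at h1
        rw [hS]
        norm_num at h1 ⊢
        omega
      exact Subgroup.normal_subgroupOf_iff_le_normalizer hMS |>.1 hnor
    set K := Subgroup.normalizer ((M.map H.subtype : Subgroup G) : Set G) with hK
    have h72 : 72 ∣ Nat.card ↥K := by
      have a1 : 8 ∣ Nat.card ↥K := by have := Subgroup.card_dvd_of_le hSN; rw [hS] at this; simpa using this
      have a2 : 9 ∣ Nat.card ↥K := h9.trans (Subgroup.card_dvd_of_le hHN')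
      exact Nat.Coprime.mul_dvd_of_dvd_of_dvd (by norm_num : Nat.Coprime 8 9) a1 a2
    rcases eq_or_ne K ⊤ with hKt | hKt
    · have hnor : (M.map H.subtype).Normal := Subgroup.normalizer_eq_top_iff.1 hKt
      rcases hnor.eq_bot_or_eq_top with hb | ht
      · rw [hb, Subgroup.card_bot] at hM'; norm_num at hM'
      · rw [ht, Subgroup.card_top, h] at hM'; norm_num at hM'
    · refine no_index_le_seven h hKt ?_
      obtain ⟨t, ht⟩ := h72
      have h1 := Subgroup.card_mul_index K
      rw [h, ht, mul_assoc] at h1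
      have h2 : t * K.index = 7 := by omega
      exact Nat.le_of_dvd (by norm_num) (Dvd.intro_left t h2)
  · exfalso
    exact no_index_le_seven h hHt (by rw [e] at hHG; omega)

theorem centralizer_three' (h : Nat.card G = 504) {g : G} (hg : orderOf g = 3) :
    Nat.card ↥(Subgroup.centralizer ({g} : Set G)) = 9 ∧
      ∀ a ∈ Subgroup.centralizer ({g} : Set G), ∀ b ∈ Subgroup.centralizer ({g} : Set G), a * b = b * a := by
  have : Fact (Nat.Prime 3) := ⟨by norm_num⟩
  obtain ⟨R, hR⟩ := (IsPGroup.of_card (p := 3) (n := 1) (show Nat.card ↥(Subgroup.zpowers g) = 3 ^ 1 by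
    rw [Nat.card_zpowers, hg, pow_one])).exists_le_sylow
  have hc := centralizer_three h R (hR (Subgroup.mem_zpowers g)) (fun e => by rw [e, orderOf_one] at hg; omega)
  rw [hc]
  refine ⟨(card_sylow_three h R).1, fun a ha b hb => ?_⟩
  let _ := IsPGroup.commGroupOfCardEqPrimeSq (p := 3) (G := ↥(R : Subgroup G))
    (by rw [(card_sylow_three h R).1]; norm_num)
  exact congrArg Subtype.val (mul_comm (⟨a, ha⟩ : (R : Subgroup G)) ⟨b, hb⟩)

theorem centralizer_two_dvd (h : Nat.card G = 504) {u : G} (hu : orderOf u = 2) :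
    Nat.card ↥(Subgroup.centralizer ({u} : Set G)) ∣ 8 := by
  set H := Subgroup.centralizer ({u} : Set G) with hH
  have key : ∀ r : ℕ, r.Prime → ∀ c : ℕ, Odd c →
      (∀ x : G, orderOf x = r → Nat.card ↥(Subgroup.centralizer ({x} : Set G)) = c) → ¬ r ∣ Nat.card ↥H := by
    intro r hr c hc hcx hd
    have : Fact r.Prime := ⟨hr⟩
    obtain ⟨x, hx⟩ := exists_prime_orderOf_dvd_card' (G := ↥H) r hd
    rw [← Subgroup.orderOf_coe] at hx
    have h1 := Subgroup.orderOf_dvd_natCard (Subgroup.centralizer ({(x : G)} : Set G)) (x := u)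
      (Subgroup.mem_centralizer_singleton_iff.2 (Subgroup.mem_centralizer_singleton_iff.1 x.2).symm)
    rw [hu, hcx _ hx] at h1
    exact Nat.not_even_iff_odd.2 hc (even_iff_two_dvd.2 h1)
  have : Fact (Nat.Prime 7) := ⟨by norm_num⟩
  have h3 := key 3 (by norm_num) 9 (by decide) fun x hx => (centralizer_three' h hx).1
  have h7 := key 7 (by norm_num) 7 (by decide) fun x hx => centralizer_seven h hx
  have hd : Nat.card ↥H ∣ 63 * 8 := by
    have := Subgroup.card_subgroup_dvd_card H
    rw [h] at this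
    exact this
  refine Nat.Coprime.dvd_of_dvd_mul_left ?_ hd
  rw [show (63 : ℕ) = 3 ^ 2 * 7 by norm_num]
  exact Nat.Coprime.mul_right (Nat.Coprime.pow_right 2 ((Nat.Prime.coprime_iff_not_dvd (by norm_num)).2 h3).symm)
    ((Nat.Prime.coprime_iff_not_dvd (by norm_num)).2 h7).symm

/-- Every element is trivial, of order divisible by three or seven, or one fixed involution up to conjugacy. -/
theorem exists_class (h : Nat.card G = 504) :
    ∃ u : G, orderOf u = 2 ∧ Nat.card ↥(Subgroup.centralizer ({u} : Set G)) = 8 ∧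
      ∀ g : G, g ≠ 1 → ¬ 3 ∣ orderOf g → ¬ 7 ∣ orderOf g → IsConj u g := by
  classical
  have := Fintype.ofFinite G
  have hn := hnc h
  have : Fact (Nat.Prime 2) := ⟨Nat.prime_two⟩
  have : Fact (Nat.Prime 3) := ⟨by norm_num⟩
  have : Fact (Nat.Prime 7) := ⟨by norm_num⟩
  obtain ⟨S⟩ : Nonempty (Sylow 2 G) := Sylow.nonempty
  have hS : Nat.card ↥(S : Subgroup G) = 8 := by
    simpa using card_sylow_of_factor S (a := 3) (m := 63) (by rw [h]; norm_num) (by norm_num)
  have : Nontrivial ↥(S : Subgroup G) := Finite.one_lt_card_iff_nontrivial.1 (by omega)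
  have hne : Nontrivial ↥(Subgroup.center ↥(S : Subgroup G)) := S.2.center_nontrivial
  obtain ⟨k, hk, hk'⟩ : ∃ k, 0 < k ∧ Nat.card ↥(Subgroup.center ↥(S : Subgroup G)) = 2 ^ k := by
    obtain ⟨k, hk⟩ := (S.2.to_subgroup (Subgroup.center ↥(S : Subgroup G))).exists_card_eq
    refine ⟨k, Nat.pos_of_ne_zero fun e => ?_, hk⟩
    rw [e, pow_zero] at hk
    have := Finite.one_lt_card (α := ↥(Subgroup.center ↥(S : Subgroup G)))
    omega
  obtain ⟨u, hu⟩ := exists_prime_orderOf_dvd_card' (G := ↥(Subgroup.center ↥(S : Subgroup G))) 2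
    (hk' ▸ dvd_pow_self 2 hk.ne')
  rw [← Subgroup.orderOf_coe, ← Subgroup.orderOf_coe] at hu
  have hSu : (S : Subgroup G) ≤ Subgroup.centralizer ({((u : ↥(S : Subgroup G)) : G)} : Set G) := fun a ha =>
    Subgroup.mem_centralizer_singleton_iff.2 (congrArg Subtype.val (Subgroup.mem_center_iff.1 u.2 ⟨a, ha⟩))
  have hCu : Nat.card ↥(Subgroup.centralizer ({((u : ↥(S : Subgroup G)) : G)} : Set G)) = 8 :=
    Nat.dvd_antisymm (centralizer_two_dvd h hu) (hS ▸ Subgroup.card_dvd_of_le hSu)
  refine ⟨_, hu, hCu, ?_⟩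
  set v : G := ((u : ↥(S : Subgroup G)) : G)
  have hclass : Nat.card {g : G // IsConj v g} = 63 := by
    have h1 : Nat.card {g : G // IsConj v g} * 8 = 504 := by
      rw [← hCu, ← h]
      have h2 := MulAction.index_stabilizer (ConjAct G) v
      rw [ConjAct.stabilizer_eq_centralizer, ← Nat.card_coe_set_eq] at h2
      rw [show Nat.card {g : G // IsConj v g} = Nat.card (MulAction.orbit (ConjAct G) v) from
        Nat.card_congr (Equiv.subtypeEquivRight fun g => by
          rw [ConjAct.mem_orbit_conjAct]; exact ⟨IsConj.symm, IsConj.symm⟩), ← h2]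
      exact (Subgroup.centralizer ({v} : Set G)).index_mul_card
    omega
  let A := Finset.univ.filter fun g : G => 3 ∣ orderOf g
  let B := Finset.univ.filter fun g : G => 7 ∣ orderOf g
  let C := Finset.univ.filter fun g : G => IsConj v g
  have hCcard : C.card = 63 := by
    rw [← hclass, Nat.card_eq_fintype_card, Fintype.card_subtype]
  have inj : ∀ (p q : ℕ) (_ : Fact p.Prime), (∀ Q : Sylow p G, Nat.card ↥(Q : Subgroup G) = q) →
      (∀ (Q Q' : Sylow p G) (x : G), x ∈ (Q : Subgroup G) → x ∈ (Q' : Subgroup G) → x ≠ 1 → Q = Q') →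
      Nat.card (Sylow p G) * (q - 1) ≤ (Finset.univ.filter fun g : G => p ∣ orderOf g).card := by
    intro p q _ hq hTI
    have := Fintype.ofFinite (Sylow p G)
    have hdis : Set.PairwiseDisjoint ((Finset.univ : Finset (Sylow p G)) : Set (Sylow p G))
        fun Q => Finset.univ.filter fun g : G => g ∈ (Q : Subgroup G) ∧ g ≠ 1 := by
      intro Q _ Q' _ hne
      refine Finset.disjoint_left.2 fun g hg hg' => hne ?_
      simp only [Finset.mem_filter, Finset.mem_univ, true_and] at hg hg'
      exact hTI Q Q' g hg.1 hg'.1 hg.2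
    have hcard : ∀ Q : Sylow p G, (Finset.univ.filter fun g : G => g ∈ (Q : Subgroup G) ∧ g ≠ 1).card = q - 1 := by
      intro Q
      rw [show (Finset.univ.filter fun g : G => g ∈ (Q : Subgroup G) ∧ g ≠ 1) =
          (Finset.univ.filter fun g : G => g ∈ (Q : Subgroup G)).erase 1 by ext g; simp [and_comm],
        Finset.card_erase_of_mem (by simp), ← hq Q, ← Fintype.card_subtype, ← Nat.card_eq_fintype_card]
    have h1 := Finset.card_biUnion hdis
    rw [Finset.sum_congr rfl fun Q _ => hcard Q, Finset.sum_const, Finset.card_univ, smul_eq_mul,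
      ← Nat.card_eq_fintype_card] at h1
    rw [← h1]
    refine Finset.card_le_card fun g hg => ?_
    simp only [Finset.mem_biUnion, Finset.mem_filter, Finset.mem_univ, true_and] at hg ⊢
    obtain ⟨Q, hgQ, hg1⟩ := hg
    obtain ⟨j, hj⟩ := IsPGroup.iff_orderOf.1 Q.2 ⟨g, hgQ⟩
    rw [Subgroup.orderOf_mk] at hj
    rcases j with _ | j
    · exact absurd (orderOf_eq_one_iff.1 (by rw [hj, pow_zero])) hg1
    · rw [hj]; exact dvd_pow_self p j.succ_ne_zero
  have hA : 224 ≤ A.card := by
    have h1 := inj 3 9 inferInstance (fun Q => (card_sylow_three h Q).1) fun Q Q' x hx hx' hx1 =>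
      Sylow.ext ((centralizer_three h Q hx hx1).symm.trans (centralizer_three h Q' hx' hx1))
    obtain ⟨R⟩ : Nonempty (Sylow 3 G) := Sylow.nonempty
    rw [(card_sylow_three h R).2] at h1
    exact h1
  have hB : 216 ≤ B.card := by
    have h1 := inj 7 7 inferInstance (fun Q => (card_sylow_seven h Q).1) fun Q Q' x hx hx' hx1 => by
      have hQ : ∀ T : Sylow 7 G, x ∈ (T : Subgroup G) → (T : Subgroup G) = Subgroup.zpowers x := fun T hT => by
        refine (Subgroup.eq_of_le_of_card_ge (Subgroup.zpowers_le.2 hT) ?_).symm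
        rw [(card_sylow_seven h T).1, Nat.card_zpowers]
        rcases (Nat.dvd_prime (by norm_num : Nat.Prime 7)).1
          ((card_sylow_seven h T).1 ▸ Subgroup.orderOf_dvd_natCard _ hT) with e | e
        · exact absurd (orderOf_eq_one_iff.1 e) hx1
        · rw [e]
      exact Sylow.ext ((hQ Q hx).trans (hQ Q' hx').symm)
    obtain ⟨R⟩ : Nonempty (Sylow 7 G) := Sylow.nonempty
    rw [(card_sylow_seven h R).2.1] at h1
    exact h1
  have hoC : ∀ g ∈ C, orderOf g = 2 := by
    intro g hg
    simp only [C, Finset.mem_filter, Finset.mem_univ, true_and] at hg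
    obtain ⟨c, rfl⟩ := isConj_iff.1 hg
    rw [← MulAut.conj_apply, MulEquiv.orderOf_eq, hu]
  have hAB : Disjoint A B := by
    refine Finset.disjoint_left.2 fun g hg hg' => ?_
    simp only [A, B, Finset.mem_filter, Finset.mem_univ, true_and] at hg hg'
    have hg21 : 21 ∣ orderOf g :=
      Nat.Coprime.mul_dvd_of_dvd_of_dvd (by norm_num : Nat.Coprime 3 7) hg hg'
    have hx : orderOf (g ^ (orderOf g / 7)) = 7 := orderOf_pow_orderOf_div (orderOf_pos g).ne' hg'
    have h1 := Subgroup.orderOf_dvd_natCard (Subgroup.centralizer ({g ^ (orderOf g / 7)} : Set G)) (x := g)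
      (Subgroup.mem_centralizer_singleton_iff.2 ((Commute.refl g).pow_right _).eq)
    rw [centralizer_seven h hx] at h1
    have := Nat.le_of_dvd (by norm_num) (hg21.trans h1)
    omega
  have hdis : Disjoint (A ∪ B) C := by
    refine Finset.disjoint_left.2 fun g hg hgC => ?_
    have := hoC g hgC
    simp only [A, B, Finset.mem_union, Finset.mem_filter, Finset.mem_univ, true_and, this] at hg
    omega
  have h1 : (1 : G) ∉ A ∪ B ∪ C := by
    intro hm
    rcases Finset.mem_union.1 hm with hm | hm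
    · simp only [A, B, Finset.mem_union, Finset.mem_filter, Finset.mem_univ, true_and, orderOf_one] at hm
      omega
    · have := hoC 1 hm
      rw [orderOf_one] at this
      omega
  have htot : insert (1 : G) (A ∪ B ∪ C) = Finset.univ := by
    refine Finset.eq_univ_of_card _ (le_antisymm (Finset.card_le_univ _) ?_)
    rw [Finset.card_insert_of_notMem h1, Finset.card_union_of_disjoint hdis, Finset.card_union_of_disjoint hAB,
      hCcard, ← Nat.card_eq_fintype_card, h]
    omega
  intro g hg1 hg3 hg7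
  have hg : g ∈ insert (1 : G) (A ∪ B ∪ C) := by rw [htot]; exact Finset.mem_univ g
  simp only [A, B, C, Finset.mem_insert, Finset.mem_union, Finset.mem_filter, Finset.mem_univ, true_and, hg1,
    hg3, hg7, false_or] at hg
  exact hg

theorem centralizer_comm (h : Nat.card G = 504) {x : G} (hx : x ≠ 1) :
    ∀ a ∈ Subgroup.centralizer ({x} : Set G), ∀ b ∈ Subgroup.centralizer ({x} : Set G), a * b = b * a := by
  obtain ⟨r, hr, hrd⟩ := Nat.exists_prime_and_dvd (fun e => hx (orderOf_eq_one_iff.1 e))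
  set y := x ^ (orderOf x / r) with hyd
  have hy : orderOf y = r := orderOf_pow_orderOf_div (orderOf_pos x).ne' hrd
  have hsub : ∀ a ∈ Subgroup.centralizer ({x} : Set G), a ∈ Subgroup.centralizer ({y} : Set G) := fun a ha =>
    Subgroup.mem_centralizer_singleton_iff.2
      ((show Commute a x from Subgroup.mem_centralizer_singleton_iff.1 ha).pow_right _).eq
  suffices hh : ∀ a ∈ Subgroup.centralizer ({y} : Set G), ∀ b ∈ Subgroup.centralizer ({y} : Set G), a * b = b * a by
    exact fun a ha b hb => hh a (hsub a ha) b (hsub b hb)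
  have hrG : r ∣ 2 ^ 3 * 3 ^ 2 * 7 := by
    have := (hy ▸ orderOf_dvd_natCard y : r ∣ Nat.card G)
    rw [h] at this
    exact this
  rcases (Nat.Prime.dvd_mul hr).1 hrG with h23 | h7
  · rcases (Nat.Prime.dvd_mul hr).1 h23 with h2 | h3
    · have hr2 : r = 2 := (Nat.prime_dvd_prime_iff_eq hr Nat.prime_two).1 (hr.dvd_of_dvd_pow h2)
      obtain ⟨u, hu, hCu, hcl⟩ := exists_class h
      have hd := centralizer_two_dvd h (hy.trans hr2)
      have hsq : ∀ a ∈ Subgroup.centralizer ({y} : Set G), a * a = 1 := by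
        intro a ha
        by_cases ha1 : a = 1
        · rw [ha1, one_mul]
        have h8 := (Subgroup.orderOf_dvd_natCard _ ha).trans hd
        have hn : ∀ j < 9, j ∣ 8 → ¬ 3 ∣ j ∧ ¬ 7 ∣ j := by decide
        obtain ⟨n3, n7⟩ := hn _ (by have := Nat.le_of_dvd (by norm_num) h8; omega) h8
        obtain ⟨c, hc⟩ := isConj_iff.1 (hcl a ha1 n3 n7)
        have h2 : orderOf a = 2 := by rw [← hc, ← MulAut.conj_apply, MulEquiv.orderOf_eq, hu]
        rw [← pow_two, ← h2, pow_orderOf_eq_one]
      intro a ha b hb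
      have h1 := hsq _ (Subgroup.mul_mem _ ha hb)
      calc a * b = (a * b)⁻¹ := eq_inv_of_mul_eq_one_left h1
        _ = b⁻¹ * a⁻¹ := mul_inv_rev a b
        _ = b * a := by rw [inv_eq_of_mul_eq_one_left (hsq b hb), inv_eq_of_mul_eq_one_left (hsq a ha)]
    · have hr3 : r = 3 := (Nat.prime_dvd_prime_iff_eq hr Nat.prime_three).1 (hr.dvd_of_dvd_pow h3)
      exact (centralizer_three' h (hy.trans hr3)).2
  · have hr7 : r = 7 := (Nat.prime_dvd_prime_iff_eq hr (by norm_num)).1 h7
    have : Fact (Nat.Prime 7) := ⟨by norm_num⟩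
    have : IsCyclic ↥(Subgroup.centralizer ({y} : Set G)) :=
      isCyclic_of_prime_card (p := 7) (centralizer_seven h (hy.trans hr7))
    exact fun a ha b hb => congrArg Subtype.val ((IsCyclic.commutative
      (α := ↥(Subgroup.centralizer ({y} : Set G)))).is_comm.comm ⟨a, ha⟩ ⟨b, hb⟩)

end Cfsg.Lib.Small.FiveZeroFour
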