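import Cfsg.Agent.Small.Toolkit

/-!
Particular orders of non-simple groups.
-/

namespace Cfsg.Lib.Small

open MulAction Equiv

variable {G : Type*} [Group G] [Finite G]

theorem dvd_two_pow_mul_three_pow_mul {a b c n : ℕ} {q : ℕ} (hq : q.Prime) (h : n ∣ 2 ^ a * 3 ^ b * q ^ c) :
    ∃ i j k, i ≤ a ∧ j ≤ b ∧ k ≤ c ∧ n = 2 ^ i * 3 ^ j * q ^ k := by
  obtain ⟨x, y, hx, hy, rfl⟩ := Nat.dvd_mul.1 h
  obtain ⟨u, v, hu, hv, rfl⟩ := Nat.dvd_mul.1 hx
  obtain ⟨i, hi, rfl⟩ := (Nat.dvd_prime_pow Nat.prime_two).1 hu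
  obtain ⟨j, hj, rfl⟩ := (Nat.dvd_prime_pow Nat.prime_three).1 hv
  obtain ⟨k, hk, rfl⟩ := (Nat.dvd_prime_pow hq).1 hy
  exact ⟨i, j, k, hi, hj, hk, rfl⟩

theorem not_prime_of_eq {n : ℕ} (h : Nat.card G = n) (a b : ℕ) (hab : n = a * b) (ha : a ≠ 1) (hb : b ≠ 1) :
    ¬ (Nat.card G).Prime := by
  rw [h, hab]
  exact Nat.not_prime_mul ha hb

/-- `n_p` together with the order of the normaliser. -/
theorem exists_sylow_data {p : ℕ} [Fact p.Prime] {a m : ℕ} (h : Nat.card G = p ^ a * m) (hm : ¬ p ∣ m) :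
    ∃ P : Sylow p G, Nat.card ↥(P : Subgroup G) = p ^ a ∧
      Nat.card (Sylow p G) ∣ m ∧ Nat.card (Sylow p G) % p = 1 ∧
      Nat.card ↥(Subgroup.normalizer ((P : Subgroup G) : Set G)) * Nat.card (Sylow p G) = p ^ a * m := by
  obtain ⟨P⟩ : Nonempty (Sylow p G) := Sylow.nonempty
  exact ⟨P, card_sylow_of_factor P h hm, (sylow_facts P h hm).1, (sylow_facts P h hm).2,
    (card_normalizer_mul P).trans h⟩

/-- Elements of a Sylow subgroup of the normaliser of `P` of index at most the 2-part of `p - 1` centralise. -/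
theorem exists_two_part {p : ℕ} [Fact p.Prime] (P : Sylow p G) (hP : Nat.card ↥(P : Subgroup G) = p) {a c : ℕ}
    (hN : 2 ^ a ∣ Nat.card ↥(Subgroup.normalizer ((P : Subgroup G) : Set G))) (hc : Nat.gcd (2 ^ a) (p - 1) ∣ c) :
    ∃ T : Subgroup G, Nat.card ↥T = 2 ^ a ∧ T ≤ Subgroup.normalizer ((P : Subgroup G) : Set G) ∧
      2 ^ a ≤ c * Nat.card ↥(T ⊓ Subgroup.centralizer ((P : Subgroup G) : Set G)) ∨ c = 0 := by
  set N := Subgroup.normalizer ((P : Subgroup G) : Set G)
  obtain ⟨T0, hT0⟩ := Sylow.exists_subgroup_card_pow_prime 2 hN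
  refine ⟨T0.map N.subtype, ?_⟩
  rcases Nat.eq_zero_or_pos c with hc0 | hc0
  · exact Or.inr hc0
  refine Or.inl ⟨?_, ?_, ?_⟩
  · rw [Subgroup.card_map_of_injective N.subtype_injective, hT0]
  · exact Subgroup.map_subtype_le T0
  · set T := T0.map N.subtype with hT
    set C := Subgroup.centralizer ((P : Subgroup G) : Set G) with hC
    have hcard : Nat.card ↥T = 2 ^ a := by rw [hT, Subgroup.card_map_of_injective N.subtype_injective, hT0]
    have h2 : C.relIndex T ∣ 2 ^ a := hcard ▸ Subgroup.index_dvd_card _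
    have h3 : C.relIndex T ∣ c :=
      (Nat.dvd_gcd h2 (relIndex_centralizer_dvd hP (Subgroup.map_subtype_le T0))).trans hc
    have h4 : C.relIndex T * Nat.card ↥(T ⊓ C) = 2 ^ a := by
      rw [← Subgroup.inf_relIndex_left, mul_comm, ← hcard,
        ← Nat.card_congr (Subgroup.subgroupOfEquivOfLe (inf_le_left : T ⊓ C ≤ T)).toEquiv]
      exact Subgroup.card_mul_index _
    calc 2 ^ a = C.relIndex T * Nat.card ↥(T ⊓ C) := h4.symm
      _ ≤ c * Nat.card ↥(T ⊓ C) := Nat.mul_le_mul_right _ (Nat.le_of_dvd hc0 h3)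

theorem card_ne_459648 [IsSimpleGroup G] : Nat.card G ≠ 459648 := by
  intro hG
  have hnc := not_comm_of_isSimple (not_prime_of_eq hG 2 229824 (by norm_num) (by norm_num) (by norm_num))
  have : Fact (Nat.Prime 19) := ⟨by norm_num⟩
  have h19 : (19 : ℕ) ∣ Nat.card G := by rw [hG]; norm_num
  obtain ⟨P, hP, hdvd, hmod, hN⟩ := exists_sylow_data (G := G) (p := 19) (a := 1) (m := 24192)
    (by rw [hG]; norm_num) (by norm_num)
  rw [pow_one] at hP
  set N := Subgroup.normalizer ((P : Subgroup G) : Set G) with hNdef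
  have hn : Nat.card (Sylow 19 G) = 96 ∨ Nat.card (Sylow 19 G) = 1008 := by
    obtain ⟨i, j, k, hi, hj, hk, he⟩ := dvd_two_pow_mul_three_pow_mul (a := 7) (b := 3) (c := 1)
      (by norm_num : Nat.Prime 7) (by norm_num; exact hdvd)
    have hne := card_sylow_ne_one (p := 19) hnc h19
    rw [he] at hmod hne ⊢
    interval_cases i <;> interval_cases j <;> interval_cases k <;> simp_all
  rcases hn with hn | hn
  · rw [hn] at hN
    have hN' : Nat.card ↥N = 4788 := by norm_num at hN; omega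
    have : Fact (Nat.Prime 7) := ⟨by norm_num⟩
    obtain ⟨y, hy⟩ := exists_prime_orderOf_dvd_card' (G := ↥N) 7 (by rw [hN']; norm_num)
    rw [← Subgroup.orderOf_coe] at hy
    exact not_prime_centralizer hnc h19 hP (r := 7) (by norm_num) (by norm_num) (by rw [hn]; norm_num) hy
      (mem_centralizer_of_coprime hP y.2 (by rw [hy]; norm_num))
  · rw [hn] at hN
    have hN' : Nat.card ↥N = 456 := by norm_num at hN; omega
    obtain ⟨T, hT⟩ := exists_two_part P hP (a := 3) (c := 2) (by rw [hN']; norm_num) (by norm_num)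
    rcases hT with ⟨hT, hTN, hE⟩ | h
    swap
    · omega
    refine fusion_trick P T hT hTN (by rw [hN']; norm_num) (by rw [hG]; norm_num) ?_ ?_
    · rw [hT]
      norm_num at hE ⊢
      nlinarith
    intro u huT hu1 huC hucent
    set H := Subgroup.centralizer ({u} : Set G) with hH
    have hPH : (P : Subgroup G) ≤ H := fun x hx =>
      Subgroup.mem_centralizer_singleton_iff.2 (Subgroup.mem_centralizer_iff.1 huC x hx)
    have hTH : T ≤ H := fun x hx => Subgroup.mem_centralizer_singleton_iff.2 (hucent x hx)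
    obtain ⟨n, hn1, hcard, himp⟩ := exists_card_eq_mul_inf_normalizer P hPH
    refine himp ?_
    have h152 : 152 ∣ Nat.card ↥(H ⊓ N) := by
      refine (show (152 : ℕ) = 8 * 19 by norm_num) ▸ Nat.Coprime.mul_dvd_of_dvd_of_dvd (show Nat.Coprime 8 19 by norm_num) ?_ ?_
      · rw [show (8 : ℕ) = 2 ^ 3 from rfl, ← hT]
        exact Subgroup.card_dvd_of_le (le_inf hTH hTN)
      · rw [← hP]
        exact Subgroup.card_dvd_of_le (le_inf hPH Subgroup.le_normalizer)
    have hHG : Nat.card ↥H * H.index = 459648 := by rw [Subgroup.card_mul_index, hG]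
    obtain ⟨t, ht⟩ := h152
    rw [hcard, ht] at hHG
    have hni : n * (t * H.index) = 3024 := by
      have : 152 * (n * (t * H.index)) = 459648 := by rw [← hHG]; ring
      omega
    obtain ⟨i, j, k, hi, hj, hk, he⟩ := dvd_two_pow_mul_three_pow_mul (a := 4) (b := 3) (c := 1)
      (by norm_num : Nat.Prime 7) (n := n) (Dvd.intro _ hni)
    have hcases : n = 1 ∨ n = 1008 := by
      subst he
      interval_cases i <;> interval_cases j <;> interval_cases k <;> simp_all
    rcases hcases with h | h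
    · exact h
    · exfalso
      have hti : t * H.index = 3 := by rw [h] at hni; omega
      have hle : H.index ≤ 3 := Nat.le_of_dvd (by norm_num) (hti ▸ Dvd.intro_left t rfl)
      have h2 := Nat.le_of_dvd (Nat.factorial_pos _)
        (two_mul_card_dvd_index_factorial hnc H (centralizer_ne_top hnc hu1))
      have h3 := Nat.factorial_le hle
      norm_num [hG] at h2 h3
      omega

end Cfsg.Lib.Small
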