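import Mathlib

/-!
Brodkey's theorem: with abelian Sylow `p`-subgroups, two of them meet in the `p`-core.
-/

namespace Cfsg.Lib.Small

open scoped Pointwise

theorem exists_inf_eq_iInf {G : Type*} [Group G] [Finite G] (p : ℕ) [Fact p.Prime]
    (hab : ∀ P : Sylow p G, IsMulCommutative ↥(P : Subgroup G)) :
    ∃ P Q : Sylow p G, (P : Subgroup G) ⊓ (Q : Subgroup G) = ⨅ R : Sylow p G, (R : Subgroup G) := by
  obtain ⟨⟨P, Q⟩, hmin⟩ := Finite.exists_min
    (fun PQ : Sylow p G × Sylow p G => Nat.card ↥((PQ.1 : Subgroup G) ⊓ (PQ.2 : Subgroup G)))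
  refine ⟨P, Q, le_antisymm (le_iInf fun R => ?_) (le_inf (iInf_le _ P) (iInf_le _ Q))⟩
  set D := (P : Subgroup G) ⊓ (Q : Subgroup G) with hD
  set C := Subgroup.centralizer (D : Set G) with hC
  have hle : ∀ S : Sylow p G, D ≤ S → (S : Subgroup G) ≤ C := fun S hS a ha d hd => by
    have := hab S
    exact congrArg Subtype.val (mul_comm' (⟨d, hS hd⟩ : (S : Subgroup G)) ⟨a, ha⟩)
  have hPC := hle P inf_le_left
  have hQC := hle Q inf_le_right
  obtain ⟨S, hS⟩ := ((R.2.to_le (inf_le_left : (R : Subgroup G) ⊓ C ≤ R)).comap_subtype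
    (K := C)).exists_le_sylow
  obtain ⟨c, rfl⟩ := MulAction.exists_smul_eq C (P.subtype hPC) S
  have key : ∀ g ∈ (R : Subgroup G), g ∈ C → (c : G)⁻¹ * g * c ∈ (P : Subgroup G) := by
    intro g hg hgC
    have h1 := hS (show (⟨g, hgC⟩ : C) ∈ ((R : Subgroup G) ⊓ C).comap C.subtype from ⟨hg, hgC⟩)
    rw [Sylow.coe_subgroup_smul, Subgroup.mem_pointwise_smul_iff_inv_smul_mem] at h1
    simpa [Sylow.coe_subtype, Subgroup.mem_subgroupOf, MulAut.smul_def] using h1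
  set R' : Sylow p G := (c : G)⁻¹ • R with hR'
  have hmem : ∀ g, g ∈ (R' : Subgroup G) ↔ (c : G) * g * (c : G)⁻¹ ∈ (R : Subgroup G) := fun g => by
    rw [hR', Sylow.coe_subgroup_smul, Subgroup.mem_pointwise_smul_iff_inv_smul_mem]
    simp [MulAut.smul_def]
  have h2 : (R' : Subgroup G) ⊓ (Q : Subgroup G) ≤ D := by
    rintro g ⟨hgR, hgQ⟩
    refine ⟨?_, hgQ⟩
    have h3 := key _ ((hmem g).1 hgR) (C.mul_mem (C.mul_mem c.2 (hQC hgQ)) (C.inv_mem c.2))
    rw [show (c : G)⁻¹ * ((c : G) * g * (c : G)⁻¹) * c = g by group] at h3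
    exact h3
  have h3 := Subgroup.eq_of_le_of_card_ge h2 (hmin (R', Q))
  intro d hd
  have h4 : d ∈ (R' : Subgroup G) ⊓ (Q : Subgroup G) := by rw [h3]; exact hd
  have h5 := (hmem d).1 h4.1
  rwa [← Subgroup.mem_centralizer_iff.1 c.2 d hd, mul_inv_cancel_right] at h5

end Cfsg.Lib.Small
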