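import Cfsg.Agent.Small.Toolkit

/-!
Fixed point counts.
-/

namespace Cfsg.Lib.Small

open MulAction Equiv

variable {G : Type*} [Group G] [Finite G]

/-- Double counting of the fixed points of the conjugates of `x` in a transitive action. -/
theorem card_fixedBy_mul_card_conj {α : Type*} [MulAction G α] [Finite α] [MulAction.IsPretransitive G α]
    (a : α) (x : G) :
    Nat.card (fixedBy α x) * Nat.card {g : G // IsConj x g} =
      Nat.card α * Nat.card {g : G // IsConj x g ∧ g • a = a} := by
  have := Fintype.ofFinite {g : G // IsConj x g}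
  have := Fintype.ofFinite α
  let e : (Σ y : {g : G // IsConj x g}, fixedBy α y.1) ≃ (Σ b : α, {g : G // IsConj x g ∧ g • b = b}) :=
    { toFun := fun z => ⟨z.2.1, z.1.1, z.1.2, z.2.2⟩
      invFun := fun z => ⟨⟨z.2.1, z.2.2.1⟩, z.1, z.2.2.2⟩
      left_inv := fun z => rfl
      right_inv := fun z => rfl }
  have h1 : ∀ y : {g : G // IsConj x g}, Nat.card (fixedBy α y.1) = Nat.card (fixedBy α x) := by
    rintro ⟨y, hy⟩
    obtain ⟨c, rfl⟩ := isConj_iff.1 hy
    exact (Nat.card_congr
      { toFun := fun b => ⟨c • b.1, by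
          change (c * x * c⁻¹) • c • b.1 = c • b.1
          rw [← mul_smul, inv_mul_cancel_right, mul_smul, show x • b.1 = b.1 from b.2]⟩
        invFun := fun b => ⟨c⁻¹ • b.1, by
          change x • c⁻¹ • b.1 = c⁻¹ • b.1
          conv_rhs => rw [← show (c * x * c⁻¹) • b.1 = b.1 from b.2]
          rw [← mul_smul, ← mul_smul, ← mul_assoc, ← mul_assoc, inv_mul_cancel, one_mul]⟩
        left_inv := fun b => Subtype.ext (inv_smul_smul c b.1)
        right_inv := fun b => Subtype.ext (smul_inv_smul c b.1) }).symm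
  have h2 : ∀ b : α, Nat.card {g : G // IsConj x g ∧ g • b = b} = Nat.card {g : G // IsConj x g ∧ g • a = a} := by
    intro b
    obtain ⟨c, rfl⟩ := MulAction.exists_smul_eq G a b
    refine Nat.card_congr ((MulAut.conj c).toEquiv.subtypeEquiv fun g => ?_).symm
    change _ ↔ IsConj x (c * g * c⁻¹) ∧ (c * g * c⁻¹) • c • a = c • a
    rw [← mul_smul, inv_mul_cancel_right, mul_smul, smul_left_cancel_iff]
    refine and_congr_left' ⟨fun h => h.trans (isConj_iff.2 ⟨c, rfl⟩), fun h => h.trans (isConj_iff.2 ⟨c⁻¹, ?_⟩)⟩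
    group
  calc Nat.card (fixedBy α x) * Nat.card {g : G // IsConj x g}
      = Nat.card (Σ y : {g : G // IsConj x g}, fixedBy α y.1) := by
        rw [Nat.card_sigma, Finset.sum_congr rfl fun y _ => h1 y, Finset.sum_const, Finset.card_univ, smul_eq_mul,
          ← Nat.card_eq_fintype_card, mul_comm]
    _ = Nat.card (Σ b : α, {g : G // IsConj x g ∧ g • b = b}) := Nat.card_congr e
    _ = Nat.card α * Nat.card {g : G // IsConj x g ∧ g • a = a} := by
        rw [Nat.card_sigma, Finset.sum_congr rfl fun b _ => h2 b, Finset.sum_const, Finset.card_univ, smul_eq_mul,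
          ← Nat.card_eq_fintype_card]

/-- The class of `x` has size the index of its centraliser. -/
theorem card_conj_mul_card_centralizer (x : G) :
    Nat.card {g : G // IsConj x g} * Nat.card ↥(Subgroup.centralizer ({x} : Set G)) = Nat.card G := by
  have h1 := MulAction.index_stabilizer (ConjAct G) x
  rw [ConjAct.stabilizer_eq_centralizer, ← Nat.card_coe_set_eq] at h1
  have h2 : Nat.card (MulAction.orbit (ConjAct G) x) = Nat.card {g : G // IsConj x g} := by
    refine Nat.card_congr (Equiv.subtypeEquivRight fun g => ?_)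
    rw [ConjAct.mem_orbit_conjAct]
    exact ⟨IsConj.symm, IsConj.symm⟩
  rw [← h2, ← h1]
  exact (Subgroup.centralizer ({x} : Set G)).index_mul_card

variable {p : ℕ} [Fact p.Prime]

/-- An element normalising but not centralising `P` of order `p` fixes at most one point of each `P`-orbit. -/
theorem fixed_bound {P : Sylow p G} (hP : Nat.card ↥(P : Subgroup G) = p) {t : G}
    (ht : t ∈ Subgroup.normalizer ((P : Subgroup G) : Set G))
    (htc : t ∉ Subgroup.centralizer ((P : Subgroup G) : Set G)) :
    (Nat.card (fixedBy (Sylow p G) t) - 1) * p ≤ Nat.card (Sylow p G) - 1 := by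
  classical
  have := Fintype.ofFinite (Sylow p G)
  have hfree : ∀ (a : G), a ∈ (P : Subgroup G) → a * t = t * a → a = 1 := by
    intro a ha hcomm
    by_contra ha1
    refine htc (Subgroup.mem_centralizer_iff.2 fun y hy => ?_)
    have hz : Subgroup.zpowers a = (P : Subgroup G) := by
      refine Subgroup.eq_of_le_of_card_ge (Subgroup.zpowers_le.2 ha) ?_
      rcases (Nat.dvd_prime (Fact.out : p.Prime)).1
        (hP ▸ Subgroup.card_dvd_of_le (Subgroup.zpowers_le.2 ha)) with h | h
      · rw [Nat.card_zpowers, orderOf_eq_one_iff] at h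
        exact absurd h ha1
      · rw [h, hP]
    rw [SetLike.mem_coe, ← hz] at hy
    obtain ⟨k, rfl⟩ := hy
    exact (Commute.zpow_left hcomm k).eq
  let X := {Q : Sylow p G // t • Q = Q ∧ Q ≠ P}
  let φ : X × ↥(P : Subgroup G) → {Q : Sylow p G // Q ≠ P} := fun z => ⟨(z.2 : G) • z.1.1, fun h => by
    refine z.1.2.2 ?_
    have h1 := congrArg ((z.2 : G)⁻¹ • ·) h
    simp only [inv_smul_smul] at h1
    rw [h1, Sylow.smul_eq_iff_mem_normalizer]
    exact Subgroup.le_normalizer ((P : Subgroup G).inv_mem z.2.2)⟩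
  have hφ : Function.Injective φ := by
    rintro ⟨⟨Q, hQ, hQP⟩, a⟩ ⟨⟨Q', hQ', hQP'⟩, b⟩ h
    have h1 : (a : G) • Q = (b : G) • Q' := congrArg Subtype.val h
    set c : G := (b : G)⁻¹ * a with hc
    have hcQ : c • Q = Q' := by rw [hc, mul_smul, h1, inv_smul_smul]
    have hcP : c ∈ (P : Subgroup G) := (P : Subgroup G).mul_mem ((P : Subgroup G).inv_mem b.2) a.2
    have hconj : t * c * t⁻¹ ∈ (P : Subgroup G) := (Subgroup.mem_set_normalizer_iff.1 ht c).1 hcP
    have hfix : (c⁻¹ * (t * c * t⁻¹)) • Q = Q := by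
      rw [mul_smul, mul_smul, show t⁻¹ • Q = Q from inv_smul_eq_iff.2 hQ.symm, mul_smul, hcQ, hQ', ← hcQ,
        inv_smul_smul]
    have h2 : c⁻¹ * (t * c * t⁻¹) = 1 := by
      by_contra hne
      exact hQP (sylow_fixed_eq hP ((P : Subgroup G).mul_mem ((P : Subgroup G).inv_mem hcP) hconj) hne hfix)
    have hc1 : c = 1 := hfree c hcP (by rw [inv_mul_eq_one, eq_mul_inv_iff_mul_eq] at h2; exact h2)
    obtain rfl : b = a := Subtype.ext (inv_mul_eq_one.1 hc1)
    rw [hc1, one_smul] at hcQ
    subst hcQ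
    rfl
  have h1 := Nat.card_le_card_of_injective φ hφ
  rw [Nat.card_prod, hP] at h1
  have h2 : Nat.card X + 1 = Nat.card (fixedBy (Sylow p G) t) := by
    have hmem : P ∈ fixedBy (Sylow p G) t := Sylow.smul_eq_iff_mem_normalizer.2 ht
    rw [← Finite.card_option]
    refine Nat.card_congr (Equiv.trans ?_ (Equiv.optionSubtypeNe (⟨P, hmem⟩ : fixedBy (Sylow p G) t)))
    refine Equiv.optionCongr
      { toFun := fun Q => ⟨⟨Q.1, Q.2.1⟩, fun h => Q.2.2 (congrArg Subtype.val h)⟩
        invFun := fun Q => ⟨Q.1.1, Q.1.2, fun h => Q.2 (Subtype.ext h)⟩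
        left_inv := fun _ => rfl
        right_inv := fun _ => rfl }
  have h3 : Nat.card {Q : Sylow p G // Q ≠ P} + 1 = Nat.card (Sylow p G) := by
    rw [← Finite.card_option]
    exact Nat.card_congr (Equiv.optionSubtypeNe P)
  rw [← h2, ← h3]
  simpa using h1

/-- The support of the permutation given by `g` and its fixed points. -/
theorem card_fixedBy_add_support [Fintype (Sylow p G)] [DecidableEq (Sylow p G)] (g : G) :
    Nat.card (fixedBy (Sylow p G) g) + (MulAction.toPermHom G (Sylow p G) g).support.card = Nat.card (Sylow p G) := by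
  rw [Nat.card_eq_fintype_card (α := Sylow p G), ← Finset.card_compl_add_card (MulAction.toPermHom G (Sylow p G) g).support]
  congr 1
  rw [← Nat.card_eq_finsetCard]
  refine Nat.card_congr (Equiv.subtypeEquivRight fun Q => ?_)
  rw [Finset.mem_compl, Perm.notMem_support]
  rfl

/-- An involution moves a multiple of four Sylow subgroups. -/
theorem four_dvd_support [IsSimpleGroup G] [Fintype (Sylow p G)] [DecidableEq (Sylow p G)]
    (hnc : ¬ ∀ a b : G, a * b = b * a) (hp : p ∣ Nat.card G) {g : G} (hg : orderOf g = 2) :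
    4 ∣ (MulAction.toPermHom G (Sylow p G) g).support.card := by
  set σ := MulAction.toPermHom G (Sylow p G) g with hσ
  have ho : orderOf σ = 2 := by rw [hσ, orderOf_injective _ (toPermHom_sylow_injective hnc hp), hg]
  obtain ⟨n, hn⟩ := Perm.cycleType_prime_order (σ := σ) (by rw [ho]; norm_num)
  have hs := Perm.sum_cycleType σ
  rw [hn, ho, Multiset.sum_replicate, smul_eq_mul] at hs
  have h := sign_toPerm hnc (Sylow p G) g
  rw [← hσ, Perm.sign_of_cycleType, hn, ho, Multiset.sum_replicate, Multiset.card_replicate, smul_eq_mul,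
    neg_one_pow_eq_one_iff_even (by decide)] at h
  obtain ⟨k, hk⟩ := h
  omega

/-- An element of prime order `r > |S| - 1`, or more generally one whose orbits cannot be nontrivial, centralises. -/
theorem card_fixed_modEq {r : ℕ} [Fact r.Prime] {y : G} (hy : orderOf y = r) (S : Subgroup G)
    (hS : y ∈ Subgroup.normalizer (S : Set G)) :
    ∃ K : Subgroup G, K ≤ S ∧ (∀ s, s ∈ K ↔ s ∈ S ∧ y * s = s * y) ∧ Nat.card ↥S ≡ Nat.card ↥K [MOD r] := by
  refine ⟨S ⊓ Subgroup.centralizer ({y} : Set G), inf_le_left, fun s => ?_, ?_⟩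
  · rw [Subgroup.mem_inf, Subgroup.mem_centralizer_singleton_iff]
    exact and_congr_right fun _ => eq_comm
  set Z := Subgroup.zpowers y
  have hZ : IsPGroup r ↥Z := IsPGroup.of_card (n := 1) (by rw [Nat.card_zpowers, hy, pow_one])
  have hle : Z ≤ Subgroup.normalizer (S : Set G) := Subgroup.zpowers_le.2 hS
  let _ : MulAction Z S := MulAction.compHom S (S.normalizerMonoidHom.comp (Subgroup.inclusion hle))
  have h1 := hZ.card_modEq_card_fixedPoints (α := S)
  refine h1.trans ?_
  rw [show Nat.card (fixedPoints Z S) = Nat.card ↥(S ⊓ Subgroup.centralizer ({y} : Set G)) from Nat.card_congr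
    { toFun := fun s => ⟨s.1.1, s.1.2, Subgroup.mem_centralizer_singleton_iff.2 (by
        have h := congrArg Subtype.val (s.2 ⟨y, Subgroup.mem_zpowers y⟩)
        change y * s.1.1 * y⁻¹ = s.1.1 at h
        rw [mul_inv_eq_iff_eq_mul] at h
        exact h.symm)⟩
      invFun := fun s => ⟨⟨s.1, s.2.1⟩, fun z => by
        obtain ⟨k, hk⟩ := Subgroup.mem_zpowers_iff.1 z.2
        refine Subtype.ext ?_
        change (z : G) * s.1 * (z : G)⁻¹ = s.1
        have hc : Commute y s.1 := (Subgroup.mem_centralizer_singleton_iff.1 s.2.2).symm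
        rw [← hk, (hc.zpow_left k).eq, mul_inv_cancel_right]⟩
      left_inv := fun _ => rfl
      right_inv := fun _ => rfl }]

end Cfsg.Lib.Small
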