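import Cfsg.Agent.Small.Orders
import Mathlib

/-!
Counting the elements of order divisible by `p` when the Sylow `p`-subgroups have order `p`.
-/

set_option autoImplicit false

namespace Cfsg.Lib.Small.PrimeCount

universe u

variable {G : Type u} [Group G] [Finite G] {p : ℕ} [Fact p.Prime]

theorem mem_of_mem_normalizer (P : Sylow p G) {y : G}
    (hy : y ∈ Subgroup.normalizer ((P : Subgroup G) : Set G)) {k : ℕ} (hk : orderOf y = p ^ k) :
    y ∈ (P : Subgroup G) := by
  have hpg : IsPGroup p ↥(Subgroup.zpowers y) := IsPGroup.of_card (by rw [Nat.card_zpowers, hk])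
  have h1 : y ∈ Subgroup.zpowers y ⊓ Subgroup.normalizer ((P : Subgroup G) : Set G) :=
    ⟨Subgroup.mem_zpowers y, hy⟩
  exact ((hpg.inf_normalizer_sylow P).le h1).2

theorem eq_of_common (hP : ∀ P : Sylow p G, Nat.card ↥(P : Subgroup G) = p) (P P' : Sylow p G) {g : G}
    (hg : g ∈ Subgroup.centralizer ((P : Subgroup G) : Set G))
    (hg' : g ∈ Subgroup.centralizer ((P' : Subgroup G) : Set G)) (hd : p ∣ orderOf g) : P = P' := by
  have hy : orderOf (g ^ (orderOf g / p)) = p := orderOf_pow_orderOf_div (orderOf_pos g).ne' hd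
  have key : ∀ Q : Sylow p G, g ∈ Subgroup.centralizer ((Q : Subgroup G) : Set G) →
      (Q : Subgroup G) = Subgroup.zpowers (g ^ (orderOf g / p)) := fun Q hQ => by
    refine (Subgroup.eq_of_le_of_card_ge (Subgroup.zpowers_le.2 (mem_of_mem_normalizer Q
      (Subgroup.centralizer_le_normalizer _ (Subgroup.pow_mem _ hQ _)) (k := 1) (by rw [hy, pow_one]))) ?_).symm
    rw [hP Q, Nat.card_zpowers, hy]
  exact Sylow.ext ((key P hg).trans (key P' hg').symm)

theorem centralizer_eq (hP : ∀ P : Sylow p G, Nat.card ↥(P : Subgroup G) = p) {x : G} (hx : orderOf x = p) :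
    ∃ P : Sylow p G, x ∈ (P : Subgroup G) ∧
      Subgroup.centralizer ({x} : Set G) = Subgroup.centralizer ((P : Subgroup G) : Set G) := by
  obtain ⟨P, hxP⟩ := (IsPGroup.of_card (p := p) (n := 1) (show Nat.card ↥(Subgroup.zpowers x) = p ^ 1 by
    rw [Nat.card_zpowers, hx, pow_one])).exists_le_sylow
  refine ⟨P, hxP (Subgroup.mem_zpowers x), ?_⟩
  have he : Subgroup.zpowers x = (P : Subgroup G) :=
    Subgroup.eq_of_le_of_card_ge hxP (by rw [hP P, Nat.card_zpowers, hx])
  rw [← he, Subgroup.zpowers_eq_closure, Subgroup.centralizer_closure]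

/-- If each Sylow subgroup centralises at least `k` elements of order divisible by `p`, then so many
times their number is a lower bound for the elements of order divisible by `p`. -/
theorem le_card_filter [Fintype G] (hP : ∀ P : Sylow p G, Nat.card ↥(P : Subgroup G) = p) (k : ℕ)
    (hk : ∀ P : Sylow p G, k ≤ Nat.card {g : G // g ∈ Subgroup.centralizer ((P : Subgroup G) : Set G) ∧ p ∣ orderOf g}) :
    Nat.card (Sylow p G) * k ≤ (Finset.univ.filter fun g : G => p ∣ orderOf g).card := by
  classical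
  have := Fintype.ofFinite (Sylow p G)
  have hdis : Set.PairwiseDisjoint ((Finset.univ : Finset (Sylow p G)) : Set (Sylow p G))
      fun Q => Finset.univ.filter fun g : G => g ∈ Subgroup.centralizer ((Q : Subgroup G) : Set G) ∧ p ∣ orderOf g := by
    intro Q _ Q' _ hne
    refine Finset.disjoint_left.2 fun g hg hg' => hne ?_
    simp only [Finset.mem_filter, Finset.mem_univ, true_and] at hg hg'
    exact eq_of_common hP Q Q' hg.1 hg'.1 hg.2
  have h1 := Finset.card_biUnion hdis
  have h2 : (Finset.univ : Finset (Sylow p G)).card * k ≤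
      ∑ Q : Sylow p G, (Finset.univ.filter fun g : G =>
        g ∈ Subgroup.centralizer ((Q : Subgroup G) : Set G) ∧ p ∣ orderOf g).card := by
    rw [← smul_eq_mul]
    refine Finset.card_nsmul_le_sum _ _ _ fun Q _ => ?_
    rw [← Fintype.card_subtype, ← Nat.card_eq_fintype_card]
    exact hk Q
  rw [← h1, Finset.card_univ, ← Nat.card_eq_fintype_card] at h2
  refine h2.trans (Finset.card_le_card fun g hg => ?_)
  simp only [Finset.mem_biUnion, Finset.mem_filter, Finset.mem_univ, true_and] at hg ⊢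
  obtain ⟨Q, -, h⟩ := hg
  exact h

/-- The non-identity elements of the Sylow subgroup. -/
theorem pred_le_card (P : Sylow p G) (hP : Nat.card ↥(P : Subgroup G) = p) :
    p - 1 ≤ Nat.card {g : G // g ∈ Subgroup.centralizer ((P : Subgroup G) : Set G) ∧ p ∣ orderOf g} := by
  classical
  have : IsCyclic ↥(P : Subgroup G) := isCyclic_of_prime_card hP
  have hne : ∀ z : ↥(P : Subgroup G), z ≠ 1 → orderOf (z : G) = p := fun z hz => by
    rw [Subgroup.orderOf_coe]
    rcases (Nat.dvd_prime (Fact.out : p.Prime)).1 (hP ▸ orderOf_dvd_natCard z) with e | e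
    · exact absurd (orderOf_eq_one_iff.1 e) hz
    · exact e
  let φ : {z : ↥(P : Subgroup G) // z ≠ 1} →
      {g : G // g ∈ Subgroup.centralizer ((P : Subgroup G) : Set G) ∧ p ∣ orderOf g} := fun z =>
    ⟨z.1, Subgroup.mem_centralizer_iff.2 fun y hy => congrArg Subtype.val
      ((IsCyclic.isMulCommutative (α := ↥(P : Subgroup G))).is_comm.comm ⟨y, hy⟩ z.1), (hne z.1 z.2).symm.dvd⟩
  have hφ : Function.Injective φ := fun a b h => Subtype.ext (Subtype.ext
    (congrArg Subtype.val h :))
  refine le_trans ?_ (Nat.card_le_card_of_injective φ hφ)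
  have : Nat.card {z : ↥(P : Subgroup G) // z ≠ 1} + 1 = p := by
    rw [← Finite.card_option, Nat.card_congr (Equiv.optionSubtypeNe (1 : ↥(P : Subgroup G))), hP]
  omega

/-- The products of the non-identity elements of the Sylow subgroup with a subgroup of coprime order centralising it. -/
theorem mul_le_card (P : Sylow p G) (hP : Nat.card ↥(P : Subgroup G) = p) {V : Subgroup G}
    (hV : V ≤ Subgroup.centralizer ((P : Subgroup G) : Set G)) (hco : (Nat.card ↥V).Coprime p) :
    (p - 1) * Nat.card ↥V ≤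
      Nat.card {g : G // g ∈ Subgroup.centralizer ((P : Subgroup G) : Set G) ∧ p ∣ orderOf g} := by
  classical
  have : IsCyclic ↥(P : Subgroup G) := isCyclic_of_prime_card hP
  have hPC : ∀ z ∈ (P : Subgroup G), z ∈ Subgroup.centralizer ((P : Subgroup G) : Set G) := fun z hz =>
    Subgroup.mem_centralizer_iff.2 fun y hy => congrArg Subtype.val
      ((IsCyclic.isMulCommutative (α := ↥(P : Subgroup G))).is_comm.comm ⟨y, hy⟩ ⟨z, hz⟩)
  have hne : ∀ z : ↥(P : Subgroup G), z ≠ 1 → orderOf (z : G) = p := fun z hz => by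
    rw [Subgroup.orderOf_coe]
    rcases (Nat.dvd_prime (Fact.out : p.Prime)).1 (hP ▸ orderOf_dvd_natCard z) with e | e
    · exact absurd (orderOf_eq_one_iff.1 e) hz
    · exact e
  have hcomm : ∀ (z : ↥(P : Subgroup G)) (v : ↥V), Commute (z : G) (v : G) := fun z v =>
    Subgroup.mem_centralizer_iff.1 (hV v.2) z z.2
  let φ : {z : ↥(P : Subgroup G) // z ≠ 1} × ↥V →
      {g : G // g ∈ Subgroup.centralizer ((P : Subgroup G) : Set G) ∧ p ∣ orderOf g} := fun w =>
    ⟨((w.1.1 : G) * (w.2 : G)), Subgroup.mul_mem _ (hPC _ w.1.1.2) (hV w.2.2), by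
      rw [(hcomm w.1.1 w.2).orderOf_mul_eq_mul_orderOf_of_coprime (by
        rw [hne _ w.1.2, Subgroup.orderOf_coe]
        exact (Nat.Coprime.coprime_dvd_left (orderOf_dvd_natCard w.2) hco).symm), hne _ w.1.2]
      exact dvd_mul_right p _⟩
  have hφ : Function.Injective φ := by
    rintro ⟨⟨z, hz⟩, v⟩ ⟨⟨z', hz'⟩, v'⟩ h
    have h1 : (z : G) * (v : G) = (z' : G) * (v' : G) := congrArg Subtype.val h
    have h2 : (z' : G)⁻¹ * (z : G) = (v' : G) * (v : G)⁻¹ := by
      rw [eq_mul_inv_iff_mul_eq, mul_assoc, h1, inv_mul_cancel_left]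
    have hP' : (z' : G)⁻¹ * (z : G) ∈ (P : Subgroup G) ⊓ V :=
      ⟨Subgroup.mul_mem _ (Subgroup.inv_mem _ z'.2) z.2, by
        rw [SetLike.mem_coe, h2]; exact V.mul_mem v'.2 (V.inv_mem v.2)⟩
    have hbot : (P : Subgroup G) ⊓ V = ⊥ :=
      Subgroup.inf_eq_bot_of_coprime (by rw [hP]; exact hco.symm)
    rw [hbot, Subgroup.mem_bot, inv_mul_eq_one] at hP'
    obtain rfl : z' = z := Subtype.ext hP'
    obtain rfl : v = v' := Subtype.ext (mul_left_cancel h1)
    rfl
  refine le_trans (le_of_eq ?_) (Nat.card_le_card_of_injective φ hφ)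
  rw [Nat.card_prod]
  congr 1
  have : Nat.card {z : ↥(P : Subgroup G) // z ≠ 1} + 1 = p := by
    rw [← Finite.card_option, Nat.card_congr (Equiv.optionSubtypeNe (1 : ↥(P : Subgroup G))), hP]
  omega

end Cfsg.Lib.Small.PrimeCount
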