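import Cfsg.Agent.Small.Orders
import Cfsg.Agent.Small.PrimeOrderCount
import Cfsg.Agent.Small.FixedPoints
import Mathlib

/-!
Simple groups of order 4080: centralisers of non-identity elements are abelian.
-/

set_option autoImplicit false

namespace Cfsg.Lib.Small.FortyEighty

open Cfsg.Lib.Small
open scoped IsMulCommutative

universe u

variable {G : Type u} [Group G] [Finite G] [IsSimpleGroup G]

theorem hnc (h : Nat.card G = 4080) : ¬ ∀ a b : G, a * b = b * a :=
  not_comm_of_isSimple (not_prime_of_eq h 2 2040 (by norm_num) (by norm_num) (by norm_num))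

theorem card_sylow (h : Nat.card G = 4080) {p : ℕ} [Fact p.Prime] (hd : p ∣ 4080) (hp : p ≠ 2)
    (P : Sylow p G) : Nat.card ↥(P : Subgroup G) = p := by
  have hle : p ≤ 4080 := Nat.le_of_dvd (by norm_num) hd
  have hp' : p.Prime := Fact.out
  have hcases : p = 3 ∨ p = 5 ∨ p = 17 := by
    have h1 : p ∣ 2 ^ 4 * 3 * 5 * 17 := hd
    rcases (Nat.Prime.dvd_mul hp').1 h1 with h | h
    · rcases (Nat.Prime.dvd_mul hp').1 h with h | h
      · rcases (Nat.Prime.dvd_mul hp').1 h with h | h
        · exact absurd ((Nat.prime_dvd_prime_iff_eq hp' Nat.prime_two).1 (hp'.dvd_of_dvd_pow h)) hp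
        · exact Or.inl ((Nat.prime_dvd_prime_iff_eq hp' Nat.prime_three).1 h)
      · exact Or.inr (Or.inl ((Nat.prime_dvd_prime_iff_eq hp' (by norm_num)).1 h))
    · exact Or.inr (Or.inr ((Nat.prime_dvd_prime_iff_eq hp' (by norm_num)).1 h))
  rcases hcases with rfl | rfl | rfl
  · simpa using card_sylow_of_factor P (a := 1) (m := 1360) (by rw [h]; norm_num) (by norm_num)
  · simpa using card_sylow_of_factor P (a := 1) (m := 816) (by rw [h]; norm_num) (by norm_num)
  · simpa using card_sylow_of_factor P (a := 1) (m := 240) (by rw [h]; norm_num) (by norm_num)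

theorem le_centralizer_self {p : ℕ} [Fact p.Prime] {P : Subgroup G} (hP : Nat.card ↥P = p) :
    P ≤ Subgroup.centralizer (P : Set G) := fun x hx => by
  have : IsCyclic ↥P := isCyclic_of_prime_card hP
  exact Subgroup.mem_centralizer_iff.2 fun y hy =>
    congrArg Subtype.val ((IsCyclic.isMulCommutative (α := ↥P)).is_comm.comm ⟨y, hy⟩ ⟨x, hx⟩)

theorem seventeen (h : Nat.card G = 4080) [Fact (Nat.Prime 17)] (P : Sylow 17 G) :
    Nat.card (Sylow 17 G) = 120 ∧ Nat.card ↥(Subgroup.centralizer ((P : Subgroup G) : Set G)) = 17 := by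
  have hn := hnc h
  have h17 : (17 : ℕ) ∣ Nat.card G := by rw [h]; norm_num
  have hP := card_sylow h (p := 17) (by norm_num) (by norm_num) P
  obtain ⟨hd, hm⟩ := sylow_facts P (a := 1) (m := 240) (by rw [h]; norm_num) (by norm_num)
  have hne := card_sylow_ne_one (p := 17) hn h17
  have h120 : Nat.card (Sylow 17 G) = 120 := by
    have : ∀ j ∈ Nat.divisors 240, j % 17 = 1 → j ≠ 1 → j = 120 := by decide +kernel
    exact this _ (Nat.mem_divisors.2 ⟨hd, by norm_num⟩) hm hne
  refine ⟨h120, ?_⟩
  have hN := card_normalizer_mul P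
  rw [h120, h] at hN
  have hle := Subgroup.centralizer_le_normalizer ((P : Subgroup G) : Set G)
  have h34 : Nat.card ↥(Subgroup.normalizer ((P : Subgroup G) : Set G)) = 34 := by omega
  have hdd := h34 ▸ Subgroup.card_dvd_of_le hle
  have h17d := hP ▸ Subgroup.card_dvd_of_le (le_centralizer_self hP)
  have hne' : Nat.card ↥(Subgroup.centralizer ((P : Subgroup G) : Set G)) ≠ 34 := fun e =>
    not_normalizer_le_centralizer hn h17 P (Subgroup.eq_of_le_of_card_ge hle (by rw [h34, e])).ge
  have : ∀ j ∈ Nat.divisors 34, 17 ∣ j → j ≠ 34 → j = 17 := by decide +kernel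
  exact this _ (Nat.mem_divisors.2 ⟨hdd, by norm_num⟩) h17d hne'

theorem centralizer_seventeen (h : Nat.card G = 4080) [Fact (Nat.Prime 17)] {x : G} (hx : orderOf x = 17) :
    Nat.card ↥(Subgroup.centralizer ({x} : Set G)) = 17 := by
  obtain ⟨P, -, hP⟩ := PrimeCount.centralizer_eq (card_sylow h (p := 17) (by norm_num) (by norm_num)) hx
  rw [hP]
  exact (seventeen h P).2

/-- A Sylow subgroup of order three or five is not normalised by an element of order seventeen. -/
theorem not_seventeen_dvd (h : Nat.card G = 4080) {p : ℕ} [Fact p.Prime] (hp : p = 3 ∨ p = 5) (P : Sylow p G) :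
    ¬ 17 ∣ Nat.card ↥(Subgroup.normalizer ((P : Subgroup G) : Set G)) := by
  intro hd
  have : Fact (Nat.Prime 17) := ⟨by norm_num⟩
  have hP : Nat.card ↥(P : Subgroup G) = p := card_sylow h
    (by rcases hp with rfl | rfl <;> norm_num) (by rcases hp with rfl | rfl <;> norm_num) P
  obtain ⟨z, hz⟩ := exists_prime_orderOf_dvd_card' 17 hd
  rw [← Subgroup.orderOf_coe] at hz
  have hzc := mem_centralizer_of_coprime hP z.2 (by rw [hz]; rcases hp with rfl | rfl <;> norm_num)
  obtain ⟨x, hx⟩ := exists_prime_orderOf_dvd_card' (G := ↥(P : Subgroup G)) p (by rw [hP])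
  rw [← Subgroup.orderOf_coe] at hx
  have h1 := Subgroup.orderOf_dvd_natCard (Subgroup.centralizer ({(z : G)} : Set G)) (x := (x : G))
    (Subgroup.mem_centralizer_singleton_iff.2 (Subgroup.mem_centralizer_iff.1 hzc x x.2))
  rw [hx, centralizer_seventeen h hz] at h1
  rcases hp with rfl | rfl <;> norm_num at h1

theorem exists_five_mem_centralizer_three [Fact (Nat.Prime 3)] [Fact (Nat.Prime 5)] (h : Nat.card G = 4080)
    (P : Sylow 3 G) (hd : 5 ∣ Nat.card ↥(Subgroup.normalizer ((P : Subgroup G) : Set G))) :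
    ∃ z : G, orderOf z = 5 ∧ z ∈ Subgroup.centralizer ((P : Subgroup G) : Set G) := by
  obtain ⟨z, hz⟩ := exists_prime_orderOf_dvd_card' 5 hd
  rw [← Subgroup.orderOf_coe] at hz
  exact ⟨z, hz, mem_centralizer_of_coprime (card_sylow h (by norm_num) (by norm_num) P) z.2 (by rw [hz]; norm_num)⟩

set_option maxHeartbeats 800000 in
theorem five (h : Nat.card G = 4080) [Fact (Nat.Prime 5)] (Q : Sylow 5 G) :
    Nat.card (Sylow 5 G) = 136 ∧ Nat.card ↥(Subgroup.centralizer ((Q : Subgroup G) : Set G)) = 15 := by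
  classical
  have := Fintype.ofFinite G
  have : Fact (Nat.Prime 3) := ⟨by norm_num⟩
  have : Fact (Nat.Prime 2) := ⟨Nat.prime_two⟩
  have : Fact (Nat.Prime 17) := ⟨by norm_num⟩
  have hn := hnc h
  have h5 : (5 : ℕ) ∣ Nat.card G := by rw [h]; norm_num
  have hQ : ∀ Q : Sylow 5 G, Nat.card ↥(Q : Subgroup G) = 5 := card_sylow h (by norm_num) (by norm_num)
  obtain ⟨hd, hm⟩ := sylow_facts Q (a := 1) (m := 816) (by rw [h]; norm_num) (by norm_num)
  have hne := card_sylow_ne_one (p := 5) hn h5
  have hcases : Nat.card (Sylow 5 G) = 6 ∨ Nat.card (Sylow 5 G) = 16 ∨ Nat.card (Sylow 5 G) = 51 ∨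
      Nat.card (Sylow 5 G) = 136 ∨ Nat.card (Sylow 5 G) = 816 := by
    have : ∀ j ∈ Nat.divisors 816, j % 5 = 1 → j ≠ 1 → j = 6 ∨ j = 16 ∨ j = 51 ∨ j = 136 ∨ j = 816 := by
      decide +kernel
    exact this _ (Nat.mem_divisors.2 ⟨hd, by norm_num⟩) hm hne
  set N := Subgroup.normalizer ((Q : Subgroup G) : Set G) with hNd
  set C := Subgroup.centralizer ((Q : Subgroup G) : Set G) with hCd
  have hN := card_normalizer_mul Q
  rw [h, ← hNd] at hN
  have hle : C ≤ N := Subgroup.centralizer_le_normalizer _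
  have hCN : C.relIndex N ∣ 4 := relIndex_centralizer_dvd (hQ Q) le_rfl
  have hrel : Nat.card ↥C * C.relIndex N = Nat.card ↥N := by
    rw [← Nat.card_congr (Subgroup.subgroupOfEquivOfLe hle).toEquiv]
    exact Subgroup.card_mul_index _
  have hr1 : C.relIndex N ≠ 1 := fun e => not_normalizer_le_centralizer hn h5 Q (Subgroup.relIndex_eq_one.1 e)
  have hr24 : C.relIndex N = 2 ∨ C.relIndex N = 4 := by
    have : ∀ j ∈ Nat.divisors 4, j ≠ 1 → j = 2 ∨ j = 4 := by decide
    exact this _ (Nat.mem_divisors.2 ⟨hCN, by norm_num⟩) hr1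
  rcases hcases with e | e | e | e | e <;> rw [e] at hN
  · exfalso
    refine (fun hk : ¬ 2 * Nat.card G ∣ Nat.factorial 6 => hk
      ((two_mul_card_dvd_index_factorial hn N (fun ht => hne ?_)).trans
        (Nat.factorial_dvd_factorial (le_of_eq (Q.card_eq_index_normalizer.symm.trans e))))) (by rw [h]; decide)
    exact Q.card_eq_index_normalizer.trans (Subgroup.index_eq_one.2 ht)
  · exfalso
    exact not_seventeen_dvd h (Or.inr rfl) Q (by rw [← hNd]; exact ⟨15, by omega⟩)
  · -- too many elements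
    exfalso
    have hN80 : ∀ T : Sylow 5 G, Nat.card ↥(Subgroup.normalizer ((T : Subgroup G) : Set G)) = 80 := fun T => by
      have := card_normalizer_mul T
      rw [h, e] at this
      omega
    have hC3 : ∀ P : Sylow 3 G, ¬ 5 ∣ Nat.card ↥(Subgroup.normalizer ((P : Subgroup G) : Set G)) := by
      intro P hd5
      obtain ⟨z, hz, hzc⟩ := exists_five_mem_centralizer_three h P hd5
      obtain ⟨T, -, hT⟩ := PrimeCount.centralizer_eq hQ hz
      have hPT : (P : Subgroup G) ≤ Subgroup.centralizer ({z} : Set G) := fun x hx =>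
        Subgroup.mem_centralizer_singleton_iff.2 (Subgroup.mem_centralizer_iff.1 hzc x hx)
      rw [hT] at hPT
      have h1 := Subgroup.card_dvd_of_le (hPT.trans (Subgroup.centralizer_le_normalizer _))
      rw [card_sylow h (p := 3) (by norm_num) (by norm_num) P, hN80 T] at h1
      norm_num at h1
    obtain ⟨P⟩ : Nonempty (Sylow 3 G) := Sylow.nonempty
    obtain ⟨hd3, hm3⟩ := sylow_facts P (a := 1) (m := 1360) (by rw [h]; norm_num) (by norm_num)
    have hne3 := card_sylow_ne_one (p := 3) hn (by rw [h]; norm_num : (3 : ℕ) ∣ Nat.card G)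
    have hN3 : ∀ T : Sylow 3 G, Nat.card ↥(Subgroup.normalizer ((T : Subgroup G) : Set G)) *
        Nat.card (Sylow 3 G) = 4080 := fun T => (card_normalizer_mul T).trans h
    have h3cases : Nat.card (Sylow 3 G) = 85 ∨ Nat.card (Sylow 3 G) = 340 := by
      have : ∀ j ∈ Nat.divisors 1360, j % 3 = 1 → j ≠ 1 → j ≤ 4 ∨ 17 ∣ 4080 / j ∨ 5 ∣ 4080 / j ∨
          (j = 85 ∨ j = 340) ∨ j = 1360 := by decide +kernel
      have hdiv : 4080 / Nat.card (Sylow 3 G) = Nat.card ↥(Subgroup.normalizer ((P : Subgroup G) : Set G)) := by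
        rw [← hN3 P, Nat.mul_div_cancel _ Nat.card_pos]
      rcases this _ (Nat.mem_divisors.2 ⟨hd3, by norm_num⟩) hm3 hne3 with h4 | h17 | h55 | hj | h1360
      · exfalso
        refine (fun hk : ¬ 2 * Nat.card G ∣ Nat.factorial 4 => hk
          ((two_mul_card_dvd_index_factorial hn _ (fun ht => hne3 ?_)).trans
            (Nat.factorial_dvd_factorial (P.card_eq_index_normalizer.symm.le.trans h4)))) (by rw [h]; decide)
        exact P.card_eq_index_normalizer.trans (Subgroup.index_eq_one.2 ht)
      · exact absurd (hdiv ▸ h17) (not_seventeen_dvd h (Or.inl rfl) P)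
      · exact absurd (hdiv ▸ h55) (hC3 P)
      · exact hj
      · exfalso
        have h3 := hN3 P
        rw [h1360] at h3
        exact not_normalizer_le_centralizer hn (by rw [h]; norm_num : (3 : ℕ) ∣ Nat.card G) P
          fun y hy => mem_centralizer_of_coprime (card_sylow h (by norm_num) (by norm_num) P) hy (by
            have hd : orderOf y ∣ 3 := (show Nat.card ↥(Subgroup.normalizer ((P : Subgroup G) : Set G)) = 3 by omega) ▸
              Subgroup.orderOf_dvd_natCard _ hy
            exact Nat.Coprime.coprime_dvd_left hd (by norm_num))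
    obtain ⟨c, hc2, hc⟩ : ∃ c : ℕ, (∃ a, c = 2 ^ a) ∧ Nat.card (Sylow 3 G) * (2 * c) = 1360 := by
      rcases h3cases with e' | e'
      · exact ⟨8, ⟨3, rfl⟩, by rw [e']⟩
      · exact ⟨2, ⟨1, rfl⟩, by rw [e']⟩
    have k3 : ∀ T : Sylow 3 G, 2 * c ≤ Nat.card
        {g : G // g ∈ Subgroup.centralizer ((T : Subgroup G) : Set G) ∧ 3 ∣ orderOf g} := by
      intro T
      have hT : Nat.card ↥(T : Subgroup G) = 3 := card_sylow h (by norm_num) (by norm_num) T
      have hle' := Subgroup.centralizer_le_normalizer ((T : Subgroup G) : Set G)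
      have hr2 := ((Nat.dvd_prime Nat.prime_two).1 (relIndex_centralizer_dvd hT
        (le_refl (Subgroup.normalizer ((T : Subgroup G) : Set G))))).resolve_left fun e' =>
          not_normalizer_le_centralizer hn (by rw [h]; norm_num) T (Subgroup.relIndex_eq_one.1 e')
      have hmul := Subgroup.card_mul_index ((Subgroup.centralizer ((T : Subgroup G) : Set G)).subgroupOf
        (Subgroup.normalizer ((T : Subgroup G) : Set G)))
      rw [Nat.card_congr (Subgroup.subgroupOfEquivOfLe hle').toEquiv] at hmul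
      rw [Subgroup.relIndex] at hr2
      rw [hr2] at hmul
      have hNT := hN3 T
      obtain ⟨a, ha⟩ := hc2
      have hd2 : 2 ^ a ∣ Nat.card ↥(Subgroup.centralizer ((T : Subgroup G) : Set G)) := by
        rw [← ha]
        refine ⟨3, ?_⟩
        rcases h3cases with e' | e' <;> rw [e'] at hNT hc <;> omega
      obtain ⟨V, hV⟩ := Sylow.exists_subgroup_card_pow_prime 2 hd2
      have hV' : Nat.card ↥(V.map (Subgroup.centralizer ((T : Subgroup G) : Set G)).subtype) = c := by
        rw [Subgroup.card_map_of_injective (Subgroup.subtype_injective _), hV, ha]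
      refine le_of_eq_of_le ?_ (PrimeCount.mul_le_card T hT (Subgroup.map_subtype_le V) ?_)
      · rw [hV']
      · rw [hV', ha]; exact Nat.Coprime.pow_left a (by norm_num)
    have k5 : ∀ T : Sylow 5 G, 16 ≤ Nat.card
        {g : G // g ∈ Subgroup.centralizer ((T : Subgroup G) : Set G) ∧ 5 ∣ orderOf g} := by
      intro T
      set D := Subgroup.centralizer ((T : Subgroup G) : Set G) with hD
      have hle' : D ≤ Subgroup.normalizer ((T : Subgroup G) : Set G) := Subgroup.centralizer_le_normalizer _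
      have hmul : Nat.card ↥D * D.relIndex (Subgroup.normalizer ((T : Subgroup G) : Set G)) = 80 := by
        rw [← hN80 T, ← Nat.card_congr (Subgroup.subgroupOfEquivOfLe hle').toEquiv]
        exact Subgroup.card_mul_index _
      have h4 : 2 ^ 2 ∣ Nat.card ↥D := by
        obtain ⟨c, hc⟩ := relIndex_centralizer_dvd (hQ T) (le_refl (Subgroup.normalizer ((T : Subgroup G) : Set G)))
        refine ⟨5 * c, ?_⟩
        have h' : Nat.card ↥D * 4 = 80 * c := by
          rw [← hmul, mul_assoc]
          exact congrArg _ hc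
        omega
      obtain ⟨V, hV⟩ := Sylow.exists_subgroup_card_pow_prime 2 h4
      have hV' : Nat.card ↥(V.map D.subtype) = 4 := by
        rw [Subgroup.card_map_of_injective D.subtype_injective, hV]; norm_num
      refine le_of_eq_of_le ?_ (PrimeCount.mul_le_card T (hQ T) (Subgroup.map_subtype_le V) ?_)
      · rw [hV']
      · rw [hV']; norm_num
    have a17 := PrimeCount.le_card_filter (card_sylow h (p := 17) (by norm_num) (by norm_num)) (17 - 1)
      fun T => PrimeCount.pred_le_card T (card_sylow h (by norm_num) (by norm_num) T)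
    have a3 := PrimeCount.le_card_filter (card_sylow h (p := 3) (by norm_num) (by norm_num)) (2 * c) k3
    have a5 := PrimeCount.le_card_filter hQ 16 k5
    obtain ⟨W⟩ : Nonempty (Sylow 17 G) := Sylow.nonempty
    rw [(seventeen h W).1] at a17
    rw [hc] at a3
    rw [e] at a5
    set A := Finset.univ.filter fun g : G => 17 ∣ orderOf g
    set B := Finset.univ.filter fun g : G => 3 ∣ orderOf g
    set D := Finset.univ.filter fun g : G => 5 ∣ orderOf g
    have hAB : Disjoint A (B ∪ D) := by
      refine Finset.disjoint_left.2 fun g hg hg' => ?_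
      simp only [A, B, D, Finset.mem_union, Finset.mem_filter, Finset.mem_univ, true_and] at hg hg'
      have hx : orderOf (g ^ (orderOf g / 17)) = 17 := orderOf_pow_orderOf_div (orderOf_pos g).ne' hg
      have h1 := Subgroup.orderOf_dvd_natCard (Subgroup.centralizer ({g ^ (orderOf g / 17)} : Set G)) (x := g)
        (Subgroup.mem_centralizer_singleton_iff.2 ((Commute.refl g).pow_right _).eq)
      rw [centralizer_seventeen h hx] at h1
      rcases hg' with h2 | h2 <;> exact absurd (h2.trans h1) (by norm_num)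
    have hBD : Disjoint B D := by
      refine Finset.disjoint_left.2 fun g hg hg' => ?_
      simp only [B, D, Finset.mem_filter, Finset.mem_univ, true_and] at hg hg'
      have hy : orderOf (g ^ (orderOf g / 3)) = 3 := orderOf_pow_orderOf_div (orderOf_pos g).ne' hg
      obtain ⟨T, -, hT⟩ := PrimeCount.centralizer_eq (card_sylow h (p := 3) (by norm_num) (by norm_num)) hy
      refine hC3 T (hg'.trans (Subgroup.orderOf_dvd_natCard _ (Subgroup.centralizer_le_normalizer _ ?_)))
      rw [← hT, Subgroup.mem_centralizer_singleton_iff]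
      exact ((Commute.refl g).pow_right _).eq
    have := Finset.card_le_univ (A ∪ (B ∪ D))
    rw [Finset.card_union_of_disjoint hAB, Finset.card_union_of_disjoint hBD, ← Nat.card_eq_fintype_card, h] at this
    omega
  · refine ⟨e, ?_⟩
    have hN30 : Nat.card ↥N = 30 := by omega
    rw [hN30] at hrel
    rcases hr24 with r2 | r4
    · rw [r2] at hrel; omega
    · rw [r4] at hrel; omega
  · exfalso
    have hN5 : Nat.card ↥N = 5 := by omega
    rw [hN5] at hrel
    rcases hr24 with r2 | r4
    · rw [r2] at hrel; omega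
    · rw [r4] at hrel; omega

theorem three (h : Nat.card G = 4080) [Fact (Nat.Prime 3)] (P : Sylow 3 G) :
    Nat.card (Sylow 3 G) = 136 ∧ Nat.card ↥(Subgroup.centralizer ((P : Subgroup G) : Set G)) = 15 := by
  have : Fact (Nat.Prime 5) := ⟨by norm_num⟩
  have hn := hnc h
  have h3 : (3 : ℕ) ∣ Nat.card G := by rw [h]; norm_num
  have hP : ∀ P : Sylow 3 G, Nat.card ↥(P : Subgroup G) = 3 := card_sylow h (by norm_num) (by norm_num)
  have hQ : ∀ Q : Sylow 5 G, Nat.card ↥(Q : Subgroup G) = 5 := card_sylow h (by norm_num) (by norm_num)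
  obtain ⟨hd, hm⟩ := sylow_facts P (a := 1) (m := 1360) (by rw [h]; norm_num) (by norm_num)
  have hne := card_sylow_ne_one (p := 3) hn h3
  set N := Subgroup.normalizer ((P : Subgroup G) : Set G) with hNd
  set C := Subgroup.centralizer ((P : Subgroup G) : Set G) with hCd
  have hN : Nat.card ↥N * Nat.card (Sylow 3 G) = 4080 := (card_normalizer_mul P).trans h
  -- an element of order five centralises some, hence each, Sylow 3-subgroup
  have h5C : ∀ P : Sylow 3 G, 5 ∣ Nat.card ↥(Subgroup.normalizer ((P : Subgroup G) : Set G)) := by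
    intro T
    obtain ⟨Q⟩ : Nonempty (Sylow 5 G) := Sylow.nonempty
    obtain ⟨y, hy⟩ := exists_prime_orderOf_dvd_card'
      (G := ↥(Subgroup.centralizer ((Q : Subgroup G) : Set G))) 3 (by rw [(five h Q).2]; norm_num)
    rw [← Subgroup.orderOf_coe] at hy
    obtain ⟨T', -, hT'⟩ := PrimeCount.centralizer_eq hP hy
    have h1 : 5 ∣ Nat.card ↥(Subgroup.normalizer ((T' : Subgroup G) : Set G)) := by
      refine (hQ Q) ▸ Subgroup.card_dvd_of_le (le_trans ?_ (Subgroup.centralizer_le_normalizer _))
      rw [← hT']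
      exact fun x hx => Subgroup.mem_centralizer_singleton_iff.2 (Subgroup.mem_centralizer_iff.1 y.2 x hx)
    have e1 := card_normalizer_mul T
    have e2 := card_normalizer_mul T'
    rw [Nat.eq_of_mul_eq_mul_right Nat.card_pos (e1.trans e2.symm)]
    exact h1
  have hcases : Nat.card (Sylow 3 G) = 34 ∨ Nat.card (Sylow 3 G) = 136 := by
    have : ∀ j ∈ Nat.divisors 1360, j % 3 = 1 → j ≠ 1 → j ≤ 4 ∨ 17 ∣ 4080 / j ∨ ¬ 5 ∣ 4080 / j ∨ j = 34 ∨ j = 136 := by
      decide +kernel
    have hdiv : 4080 / Nat.card (Sylow 3 G) = Nat.card ↥N := by rw [← hN, Nat.mul_div_cancel _ Nat.card_pos]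
    rcases this _ (Nat.mem_divisors.2 ⟨hd, by norm_num⟩) hm hne with h4 | h17 | h55 | hj
    · exfalso
      refine (fun hk : ¬ 2 * Nat.card G ∣ Nat.factorial 4 => hk
        ((two_mul_card_dvd_index_factorial hn N (fun ht => hne ?_)).trans
          (Nat.factorial_dvd_factorial (P.card_eq_index_normalizer.symm.le.trans h4)))) (by rw [h]; decide)
      exact P.card_eq_index_normalizer.trans (Subgroup.index_eq_one.2 ht)
    · exact absurd (hdiv ▸ h17) (not_seventeen_dvd h (Or.inl rfl) P)
    · exact absurd (h5C P) (hdiv ▸ h55)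
    · exact hj
  have hle : C ≤ N := Subgroup.centralizer_le_normalizer _
  have hr : C.relIndex N = 2 := by
    refine ((Nat.dvd_prime Nat.prime_two).1 (relIndex_centralizer_dvd (hP P) le_rfl)).resolve_left fun e => ?_
    exact not_normalizer_le_centralizer hn h3 P (Subgroup.relIndex_eq_one.1 e)
  have hrel : Nat.card ↥C * 2 = Nat.card ↥N := by
    rw [← Nat.card_congr (Subgroup.subgroupOfEquivOfLe hle).toEquiv, ← hr]
    exact Subgroup.card_mul_index _
  rcases hcases with e | e
  · exfalso
    rw [e] at hN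
    have hC : Nat.card ↥C = 60 := by omega
    obtain ⟨z, hz, hzc⟩ := exists_five_mem_centralizer_three h P (h5C P)
    obtain ⟨Q, hzQ, hT⟩ := PrimeCount.centralizer_eq hQ hz
    have hQC : (Q : Subgroup G) ≤ C := by
      rw [Subgroup.eq_of_le_of_card_ge (Subgroup.zpowers_le.2 hzQ) (by rw [hQ Q, Nat.card_zpowers, hz]) |>.symm]
      exact Subgroup.zpowers_le.2 hzc
    obtain ⟨n, hn1, hcard, -⟩ := exists_card_eq_mul_inf_normalizer Q hQC
    have hN30 : Nat.card ↥(Subgroup.normalizer ((Q : Subgroup G) : Set G)) = 30 := by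
      have := card_normalizer_mul Q
      rw [h, (five h Q).1] at this
      omega
    have hm30 := hN30 ▸ Subgroup.card_dvd_of_le (inf_le_right :
      C ⊓ Subgroup.normalizer ((Q : Subgroup G) : Set G) ≤ Subgroup.normalizer ((Q : Subgroup G) : Set G))
    have h15 : 15 ∣ Nat.card ↥(C ⊓ Subgroup.normalizer ((Q : Subgroup G) : Set G)) := by
      refine Nat.Coprime.mul_dvd_of_dvd_of_dvd (by norm_num : Nat.Coprime 3 5) ?_ ?_
      · have h' := Subgroup.card_dvd_of_le (show (P : Subgroup G) ≤
          C ⊓ Subgroup.normalizer ((Q : Subgroup G) : Set G) from le_inf (le_centralizer_self (hP P)) ?_)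
        · rwa [hP P] at h'
        refine le_trans ?_ (Subgroup.centralizer_le_normalizer _)
        intro x hx
        refine Subgroup.mem_centralizer_iff.2 fun w hw => ?_
        exact (Subgroup.mem_centralizer_iff.1 (hQC hw) x hx).symm
      · have h' := Subgroup.card_dvd_of_le (show (Q : Subgroup G) ≤
          C ⊓ Subgroup.normalizer ((Q : Subgroup G) : Set G) from le_inf hQC Subgroup.le_normalizer)
        rwa [hQ Q] at h'
    rw [hC] at hcard
    have : ∀ j ∈ Nat.divisors 30, 15 ∣ j → j = 15 ∨ j = 30 := by decide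
    rcases this _ (Nat.mem_divisors.2 ⟨hm30, by norm_num⟩) h15 with e' | e' <;> rw [e'] at hcard <;> omega
  · refine ⟨e, ?_⟩
    rw [e] at hN
    omega

theorem isCyclic_centralizer (h : Nat.card G = 4080) {r : ℕ} [Fact r.Prime] (hr : r = 3 ∨ r = 5) (P : Sylow r G) :
    IsCyclic ↥(Subgroup.centralizer ((P : Subgroup G) : Set G)) := by
  have hc : Nat.card ↥(Subgroup.centralizer ((P : Subgroup G) : Set G)) = 15 := by
    rcases hr with rfl | rfl
    · exact (three h P).2
    · exact (five h P).2
  have : Fact (Nat.Prime 3) := ⟨by norm_num⟩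
  have : Fact (Nat.Prime 5) := ⟨by norm_num⟩
  obtain ⟨a, ha⟩ := exists_prime_orderOf_dvd_card' (G := ↥(Subgroup.centralizer ((P : Subgroup G) : Set G))) 3 (by rw [hc]; norm_num)
  obtain ⟨b, hb⟩ := exists_prime_orderOf_dvd_card' (G := ↥(Subgroup.centralizer ((P : Subgroup G) : Set G))) 5 (by rw [hc]; norm_num)
  have hP : Nat.card ↥(P : Subgroup G) = r := card_sylow h
    (by rcases hr with rfl | rfl <;> norm_num) (by rcases hr with rfl | rfl <;> norm_num) P
  have hmem : ∀ w : ↥(Subgroup.centralizer ((P : Subgroup G) : Set G)), orderOf w = r → (w : G) ∈ (P : Subgroup G) :=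
    fun w hw => PrimeCount.mem_of_mem_normalizer P (Subgroup.centralizer_le_normalizer _ w.2) (k := 1)
      (by rw [Subgroup.orderOf_coe, hw, pow_one])
  have hcomm : Commute a b := by
    rcases hr with rfl | rfl
    · exact Subtype.ext (Subgroup.mem_centralizer_iff.1 b.2 a (hmem a ha))
    · exact (Subtype.ext (Subgroup.mem_centralizer_iff.1 a.2 b (hmem b hb)) : Commute b a).symm
  exact isCyclic_of_orderOf_eq_card (a * b)
    (by rw [hcomm.orderOf_mul_eq_mul_orderOf_of_coprime (by rw [ha, hb]; norm_num), ha, hb, hc])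

theorem centralizer_odd (h : Nat.card G = 4080) {r : ℕ} [Fact r.Prime] (hr : r = 3 ∨ r = 5) {x : G}
    (hx : orderOf x = r) :
    Nat.card ↥(Subgroup.centralizer ({x} : Set G)) = 15 ∧
      ∀ a ∈ Subgroup.centralizer ({x} : Set G), ∀ b ∈ Subgroup.centralizer ({x} : Set G), a * b = b * a := by
  obtain ⟨P, -, hP⟩ := PrimeCount.centralizer_eq (card_sylow h
    (by rcases hr with rfl | rfl <;> norm_num) (by rcases hr with rfl | rfl <;> norm_num)) hx
  rw [hP]
  refine ⟨?_, fun a ha b hb => ?_⟩
  · rcases hr with rfl | rfl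
    · exact (three h P).2
    · exact (five h P).2
  · have := isCyclic_centralizer h hr P
    exact congrArg Subtype.val ((IsCyclic.isMulCommutative
      (α := ↥(Subgroup.centralizer ((P : Subgroup G) : Set G)))).is_comm.comm ⟨a, ha⟩ ⟨b, hb⟩)

theorem centralizer_two_dvd (h : Nat.card G = 4080) {u : G} (hu : orderOf u = 2) :
    Nat.card ↥(Subgroup.centralizer ({u} : Set G)) ∣ 16 := by
  set H := Subgroup.centralizer ({u} : Set G) with hH
  have key : ∀ r : ℕ, r.Prime → ∀ c : ℕ, Odd c →
      (∀ x : G, orderOf x = r → Nat.card ↥(Subgroup.centralizer ({x} : Set G)) = c) → ¬ r ∣ Nat.card ↥H := by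
    intro r hr c hc hcx hd
    have : Fact r.Prime := ⟨hr⟩
    obtain ⟨x, hx⟩ := exists_prime_orderOf_dvd_card' (G := ↥H) r hd
    rw [← Subgroup.orderOf_coe] at hx
    have h1 := Subgroup.orderOf_dvd_natCard (Subgroup.centralizer ({(x : G)} : Set G)) (x := u)
      (Subgroup.mem_centralizer_singleton_iff.2 (Subgroup.mem_centralizer_singleton_iff.1 x.2).symm)
    rw [hu, hcx _ hx] at h1
    exact Nat.not_even_iff_odd.2 hc (even_iff_two_dvd.2 h1)
  have : Fact (Nat.Prime 3) := ⟨by norm_num⟩
  have : Fact (Nat.Prime 5) := ⟨by norm_num⟩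
  have : Fact (Nat.Prime 17) := ⟨by norm_num⟩
  have h3 := key 3 (by norm_num) 15 (by decide) fun x hx => (centralizer_odd h (Or.inl rfl) hx).1
  have h5 := key 5 (by norm_num) 15 (by decide) fun x hx => (centralizer_odd h (Or.inr rfl) hx).1
  have h17 := key 17 (by norm_num) 17 (by decide) fun x hx => centralizer_seventeen h hx
  have hd : Nat.card ↥H ∣ 3 * 5 * 17 * 16 := by
    have := Subgroup.card_subgroup_dvd_card H
    rw [h] at this
    exact this
  exact Nat.Coprime.dvd_of_dvd_mul_left (Nat.Coprime.mul_right (Nat.Coprime.mul_right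
    ((Nat.Prime.coprime_iff_not_dvd (by norm_num)).2 h3).symm
    ((Nat.Prime.coprime_iff_not_dvd (by norm_num)).2 h5).symm)
    ((Nat.Prime.coprime_iff_not_dvd (by norm_num)).2 h17).symm) hd

theorem exists_class (h : Nat.card G = 4080) :
    ∃ u : G, orderOf u = 2 ∧
      ∀ g : G, g ≠ 1 → ¬ 3 ∣ orderOf g → ¬ 5 ∣ orderOf g → ¬ 17 ∣ orderOf g → IsConj u g := by
  classical
  have := Fintype.ofFinite G
  have : Fact (Nat.Prime 3) := ⟨by norm_num⟩
  have : Fact (Nat.Prime 5) := ⟨by norm_num⟩
  have : Fact (Nat.Prime 17) := ⟨by norm_num⟩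
  have : Fact (Nat.Prime 2) := ⟨Nat.prime_two⟩
  obtain ⟨u, hu⟩ := exists_prime_orderOf_dvd_card' (G := G) 2 (by rw [h]; norm_num)
  refine ⟨u, hu, ?_⟩
  set C := Finset.univ.filter fun g : G => IsConj u g
  set A := Finset.univ.filter fun g : G => 17 ∣ orderOf g
  set B := Finset.univ.filter fun g : G => 3 ∣ orderOf g
  set D := Finset.univ.filter fun g : G => ¬ 3 ∣ orderOf g ∧ 5 ∣ orderOf g
  have hC : 255 ≤ C.card := by
    have h4 := card_conj_mul_card_centralizer u
    rw [h, Nat.card_eq_fintype_card (α := {g : G // IsConj u g}), Fintype.card_subtype] at h4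
    have h5 := Nat.le_of_dvd (by norm_num) (centralizer_two_dvd h hu)
    by_contra hlt
    have := Nat.mul_le_mul (Nat.lt_succ_iff.1 (not_le.1 hlt)) h5
    have h6 : C.card * Nat.card ↥(Subgroup.centralizer ({u} : Set G)) = 4080 := by
      convert h4 using 3
    omega
  have hA : 1920 ≤ A.card := by
    obtain ⟨W⟩ : Nonempty (Sylow 17 G) := Sylow.nonempty
    have h1 := PrimeCount.le_card_filter (card_sylow h (p := 17) (by norm_num) (by norm_num)) (17 - 1)
      fun T => PrimeCount.pred_le_card T (card_sylow h (by norm_num) (by norm_num) T)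
    rw [(seventeen h W).1] at h1
    exact h1
  have hB : 1360 ≤ B.card := by
    obtain ⟨W⟩ : Nonempty (Sylow 3 G) := Sylow.nonempty
    have h1 := PrimeCount.le_card_filter (card_sylow h (p := 3) (by norm_num) (by norm_num)) 10 fun T => by
      set D := Subgroup.centralizer ((T : Subgroup G) : Set G) with hD
      have hDc := (three h T).2
      obtain ⟨c, hc⟩ := (isCyclic_centralizer h (Or.inl rfl) T).exists_generator
      have ho : orderOf (c : G) = 15 := by
        rw [Subgroup.orderOf_coe, orderOf_eq_card_of_forall_mem_zpowers hc, hDc]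
      let φ : Fin 10 → {g : G // g ∈ D ∧ 3 ∣ orderOf g} := fun i =>
        ⟨(c : G) ^ (![1, 2, 4, 5, 7, 8, 10, 11, 13, 14] i : ℕ), D.pow_mem c.2 _, by
          rw [orderOf_pow, ho]; fin_cases i <;> decide⟩
      have hφ : Function.Injective φ := by
        intro i j hij
        have h1 := congrArg Subtype.val hij
        simp only [φ] at h1
        rw [pow_inj_mod, ho] at h1
        fin_cases i <;> fin_cases j <;> simp_all
      simpa using Nat.card_le_card_of_injective φ hφ
    rw [(three h W).1] at h1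
    exact h1
  have hD : 544 ≤ D.card := by
    obtain ⟨W⟩ : Nonempty (Sylow 5 G) := Sylow.nonempty
    have hQ : ∀ Q : Sylow 5 G, Nat.card ↥(Q : Subgroup G) = 5 := card_sylow h (by norm_num) (by norm_num)
    have := Fintype.ofFinite (Sylow 5 G)
    have hdis : Set.PairwiseDisjoint ((Finset.univ : Finset (Sylow 5 G)) : Set (Sylow 5 G))
        fun Q => Finset.univ.filter fun g : G => g ∈ (Q : Subgroup G) ∧ g ≠ 1 := by
      intro Q _ Q' _ hne
      refine Finset.disjoint_left.2 fun g hg hg' => hne ?_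
      simp only [Finset.mem_filter, Finset.mem_univ, true_and] at hg hg'
      have ho : orderOf g = 5 := ((Nat.dvd_prime (by norm_num : Nat.Prime 5)).1
        (hQ Q ▸ Subgroup.orderOf_dvd_natCard _ hg.1)).resolve_left fun e => hg.2 (orderOf_eq_one_iff.1 e)
      exact PrimeCount.eq_of_common hQ Q Q' (le_centralizer_self (hQ Q) hg.1)
        (le_centralizer_self (hQ Q') hg'.1) (by rw [ho])
    have hcard : ∀ Q : Sylow 5 G, (Finset.univ.filter fun g : G => g ∈ (Q : Subgroup G) ∧ g ≠ 1).card = 4 := by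
      intro Q
      rw [show (Finset.univ.filter fun g : G => g ∈ (Q : Subgroup G) ∧ g ≠ 1) =
          (Finset.univ.filter fun g : G => g ∈ (Q : Subgroup G)).erase 1 by ext g; simp [and_comm],
        Finset.card_erase_of_mem (by simp), ← Fintype.card_subtype, ← Nat.card_eq_fintype_card, hQ Q]
    have h1 := Finset.card_biUnion hdis
    rw [Finset.sum_congr rfl fun Q _ => hcard Q, Finset.sum_const, Finset.card_univ, smul_eq_mul,
      ← Nat.card_eq_fintype_card, (five h W).1] at h1
    refine (show 544 ≤ _ from h1.ge).trans (Finset.card_le_card fun g hg => ?_)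
    simp only [D, Finset.mem_biUnion, Finset.mem_filter, Finset.mem_univ, true_and] at hg ⊢
    obtain ⟨Q, hgQ, hg1⟩ := hg
    have ho : orderOf g = 5 := ((Nat.dvd_prime (by norm_num : Nat.Prime 5)).1
      (hQ Q ▸ Subgroup.orderOf_dvd_natCard _ hgQ)).resolve_left fun e => hg1 (orderOf_eq_one_iff.1 e)
    rw [ho]; norm_num
  have hoC : ∀ g ∈ C, orderOf g = 2 := by
    intro g hg
    simp only [C, Finset.mem_filter, Finset.mem_univ, true_and] at hg
    obtain ⟨c, rfl⟩ := isConj_iff.1 hg
    rw [← MulAut.conj_apply, MulEquiv.orderOf_eq, hu]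
  have hA17 : ∀ g ∈ A, ¬ 3 ∣ orderOf g ∧ ¬ 5 ∣ orderOf g := by
    intro g hg
    simp only [A, Finset.mem_filter, Finset.mem_univ, true_and] at hg
    have hx : orderOf (g ^ (orderOf g / 17)) = 17 := orderOf_pow_orderOf_div (orderOf_pos g).ne' hg
    have h1 := Subgroup.orderOf_dvd_natCard (Subgroup.centralizer ({g ^ (orderOf g / 17)} : Set G)) (x := g)
      (Subgroup.mem_centralizer_singleton_iff.2 ((Commute.refl g).pow_right _).eq)
    rw [centralizer_seventeen h hx] at h1
    exact ⟨fun h2 => absurd (h2.trans h1) (by norm_num), fun h2 => absurd (h2.trans h1) (by norm_num)⟩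
  have d1 : Disjoint B D := Finset.disjoint_left.2 fun g hg hg' => by
    simp only [B, D, Finset.mem_filter, Finset.mem_univ, true_and] at hg hg'
    exact hg'.1 hg
  have d2 : Disjoint A (B ∪ D) := Finset.disjoint_left.2 fun g hg hg' => by
    simp only [B, D, Finset.mem_union, Finset.mem_filter, Finset.mem_univ, true_and] at hg'
    rcases hg' with h' | h'
    · exact (hA17 g hg).1 h'
    · exact (hA17 g hg).2 h'.2
  have d3 : Disjoint (A ∪ (B ∪ D)) C := Finset.disjoint_left.2 fun g hg hgC => by
    have := hoC g hgC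
    simp only [A, B, D, Finset.mem_union, Finset.mem_filter, Finset.mem_univ, true_and, this] at hg
    omega
  have h1 : (1 : G) ∉ A ∪ (B ∪ D) ∪ C := by
    intro hm
    rcases Finset.mem_union.1 hm with hm | hm
    · simp only [A, B, D, Finset.mem_union, Finset.mem_filter, Finset.mem_univ, true_and, orderOf_one] at hm
      omega
    · have := hoC 1 hm
      rw [orderOf_one] at this
      omega
  have htot : insert (1 : G) (A ∪ (B ∪ D) ∪ C) = Finset.univ := by
    refine Finset.eq_univ_of_card _ (le_antisymm (Finset.card_le_univ _) ?_)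
    rw [Finset.card_insert_of_notMem h1, Finset.card_union_of_disjoint d3, Finset.card_union_of_disjoint d2,
      Finset.card_union_of_disjoint d1, ← Nat.card_eq_fintype_card, h]
    omega
  intro g hg1 hg3 hg5 hg17
  have hg : g ∈ insert (1 : G) (A ∪ (B ∪ D) ∪ C) := by rw [htot]; exact Finset.mem_univ g
  simp only [A, B, C, D, Finset.mem_insert, Finset.mem_union, Finset.mem_filter, Finset.mem_univ, true_and, hg1,
    hg3, hg5, hg17, and_false, false_or] at hg
  exact hg

theorem centralizer_comm (h : Nat.card G = 4080) {x : G} (hx : x ≠ 1) :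
    ∀ a ∈ Subgroup.centralizer ({x} : Set G), ∀ b ∈ Subgroup.centralizer ({x} : Set G), a * b = b * a := by
  obtain ⟨r, hr, hrd⟩ := Nat.exists_prime_and_dvd (fun e => hx (orderOf_eq_one_iff.1 e))
  set y := x ^ (orderOf x / r) with hyd
  have hy : orderOf y = r := orderOf_pow_orderOf_div (orderOf_pos x).ne' hrd
  have hsub : ∀ a ∈ Subgroup.centralizer ({x} : Set G), a ∈ Subgroup.centralizer ({y} : Set G) := fun a ha =>
    Subgroup.mem_centralizer_singleton_iff.2
      ((show Commute a x from Subgroup.mem_centralizer_singleton_iff.1 ha).pow_right _).eq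
  suffices hh : ∀ a ∈ Subgroup.centralizer ({y} : Set G), ∀ b ∈ Subgroup.centralizer ({y} : Set G), a * b = b * a by
    exact fun a ha b hb => hh a (hsub a ha) b (hsub b hb)
  have hrG : r ∣ 2 ^ 4 * 3 * 5 * 17 := by
    have := (hy ▸ orderOf_dvd_natCard y : r ∣ Nat.card G)
    rw [h] at this
    exact this
  rcases (Nat.Prime.dvd_mul hr).1 hrG with h235 | h17
  · rcases (Nat.Prime.dvd_mul hr).1 h235 with h23 | h5
    · rcases (Nat.Prime.dvd_mul hr).1 h23 with h2 | h3
      · have hr2 : r = 2 := (Nat.prime_dvd_prime_iff_eq hr Nat.prime_two).1 (hr.dvd_of_dvd_pow h2)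
        obtain ⟨u, hu, hcl⟩ := exists_class h
        have hd := centralizer_two_dvd h (hy.trans hr2)
        have hsq : ∀ a ∈ Subgroup.centralizer ({y} : Set G), a * a = 1 := by
          intro a ha
          by_cases ha1 : a = 1
          · rw [ha1, one_mul]
          have h16 := (Subgroup.orderOf_dvd_natCard _ ha).trans hd
          have hn : ∀ j ∈ Nat.divisors 16, ¬ 3 ∣ j ∧ ¬ 5 ∣ j ∧ ¬ 17 ∣ j := by decide
          obtain ⟨n3, n5, n17⟩ := hn _ (Nat.mem_divisors.2 ⟨h16, by norm_num⟩)
          obtain ⟨c, hc⟩ := isConj_iff.1 (hcl a ha1 n3 n5 n17)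
          have h2 : orderOf a = 2 := by rw [← hc, ← MulAut.conj_apply, MulEquiv.orderOf_eq, hu]
          rw [← pow_two, ← h2, pow_orderOf_eq_one]
        intro a ha b hb
        have h1 := hsq _ (Subgroup.mul_mem _ ha hb)
        calc a * b = (a * b)⁻¹ := eq_inv_of_mul_eq_one_left h1
          _ = b⁻¹ * a⁻¹ := mul_inv_rev a b
          _ = b * a := by rw [inv_eq_of_mul_eq_one_left (hsq b hb), inv_eq_of_mul_eq_one_left (hsq a ha)]
      · have hr3 : r = 3 := (Nat.prime_dvd_prime_iff_eq hr Nat.prime_three).1 h3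
        have : Fact (Nat.Prime 3) := ⟨by norm_num⟩
        exact (centralizer_odd h (Or.inl rfl) (hy.trans hr3)).2
    · have hr5 : r = 5 := (Nat.prime_dvd_prime_iff_eq hr (by norm_num)).1 h5
      have : Fact (Nat.Prime 5) := ⟨by norm_num⟩
      exact (centralizer_odd h (Or.inr rfl) (hy.trans hr5)).2
  · have hr17 : r = 17 := (Nat.prime_dvd_prime_iff_eq hr (by norm_num)).1 h17
    have : Fact (Nat.Prime 17) := ⟨by norm_num⟩
    have : IsCyclic ↥(Subgroup.centralizer ({y} : Set G)) :=
      isCyclic_of_prime_card (p := 17) (centralizer_seventeen h (hy.trans hr17))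
    exact fun a ha b hb => congrArg Subtype.val ((IsCyclic.isMulCommutative
      (α := ↥(Subgroup.centralizer ({y} : Set G)))).is_comm.comm ⟨a, ha⟩ ⟨b, hb⟩)

end Cfsg.Lib.Small.FortyEighty
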