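import Cfsg.Agent.Small.Orders
import Cfsg.Agent.Small.FixedPoints

/-!
More orders of non-simple groups.
-/

namespace Cfsg.Lib.Small

open MulAction Equiv

variable {G : Type*} [Group G] [Finite G]

theorem zmod_five_involution : ∀ a b : (ZMod 5)ˣ, a ^ 2 = 1 → b ^ 2 = 1 → a ≠ 1 → b ≠ 1 → a = b := by decide

theorem le_centralizer_of_coprime {p : ℕ} [Fact p.Prime] {P : Subgroup G} (hP : Nat.card ↥P = p)
    (h : (Nat.card ↥(Subgroup.normalizer (P : Set G))).Coprime (p - 1)) :
    Subgroup.normalizer (P : Set G) ≤ Subgroup.centralizer (P : Set G) := fun y hy => by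
  refine mem_centralizer_of_coprime hP hy (Nat.Coprime.coprime_dvd_left ?_ h)
  rw [← Subgroup.orderOf_mk y hy]
  exact orderOf_dvd_natCard _

theorem index_cases [IsSimpleGroup G] (hnc : ¬ ∀ a b : G, a * b = b * a) {H : Subgroup G} (hH : H ≠ ⊤) {k : ℕ}
    (hk : H.index ≤ k) (hdvd : ¬ 2 * Nat.card G ∣ k.factorial) : False :=
  hdvd ((two_mul_card_dvd_index_factorial hnc H hH).trans (Nat.factorial_dvd_factorial hk))

theorem card_ne_1104 [IsSimpleGroup G] : Nat.card G ≠ 1104 := by
  intro hG
  have hnc := not_comm_of_isSimple (not_prime_of_eq hG 2 552 (by norm_num) (by norm_num) (by norm_num))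
  have : Fact (Nat.Prime 23) := ⟨by norm_num⟩
  have h23 : (23 : ℕ) ∣ Nat.card G := by rw [hG]; norm_num
  obtain ⟨P, hP, hdvd, hmod, hN⟩ := exists_sylow_data (G := G) (p := 23) (a := 1) (m := 48)
    (by rw [hG]; norm_num) (by norm_num)
  rw [pow_one] at hP
  have hn : Nat.card (Sylow 23 G) = 24 := by
    have hne := card_sylow_ne_one (p := 23) hnc h23
    have : ∀ j < 49, j ∣ 48 → j % 23 = 1 → j ≠ 1 → j = 24 := by decide
    exact this _ (by have := Nat.le_of_dvd (by norm_num) hdvd; omega) hdvd hmod hne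
  rw [hn] at hN
  set N := Subgroup.normalizer ((P : Subgroup G) : Set G) with hNdef
  have hN' : Nat.card ↥N = 46 := by norm_num at hN; omega
  obtain ⟨y, hy⟩ := exists_prime_orderOf_dvd_card' (G := ↥N) 2 (by rw [hN']; norm_num)
  rw [← Subgroup.orderOf_coe] at hy
  by_cases hc : (y : G) ∈ Subgroup.centralizer ((P : Subgroup G) : Set G)
  · exact not_prime_centralizer hnc h23 hP (r := 2) (by norm_num) (by norm_num) (by rw [hn]; norm_num) hy hc
  classical
  have := Fintype.ofFinite (Sylow 23 G)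
  have h1 := fixed_bound hP y.2 hc
  have h2 := card_fixedBy_add_support (p := 23) (y : G)
  have h3 := four_dvd_support (p := 23) hnc h23 hy
  rw [hn] at h1 h2
  have : Nonempty (fixedBy (Sylow 23 G) (y : G)) := ⟨⟨P, Sylow.smul_eq_iff_mem_normalizer.2 y.2⟩⟩
  have h4 : 0 < Nat.card (fixedBy (Sylow 23 G) (y : G)) := Nat.card_pos
  omega

theorem card_ne_1188 [IsSimpleGroup G] : Nat.card G ≠ 1188 := by
  intro hG
  have hnc := not_comm_of_isSimple (not_prime_of_eq hG 2 594 (by norm_num) (by norm_num) (by norm_num))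
  have : Fact (Nat.Prime 11) := ⟨by norm_num⟩
  have h11 : (11 : ℕ) ∣ Nat.card G := by rw [hG]; norm_num
  obtain ⟨P, hP, hdvd, hmod, hN⟩ := exists_sylow_data (G := G) (p := 11) (a := 1) (m := 108)
    (by rw [hG]; norm_num) (by norm_num)
  rw [pow_one] at hP
  have hn : Nat.card (Sylow 11 G) = 12 := by
    have hne := card_sylow_ne_one (p := 11) hnc h11
    have : ∀ j < 109, j ∣ 108 → j % 11 = 1 → j ≠ 1 → j = 12 := by decide
    exact this _ (by have := Nat.le_of_dvd (by norm_num) hdvd; omega) hdvd hmod hne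
  rw [hn] at hN
  set N := Subgroup.normalizer ((P : Subgroup G) : Set G) with hNdef
  have hN' : Nat.card ↥N = 99 := by norm_num at hN; omega
  have : Fact (Nat.Prime 3) := ⟨by norm_num⟩
  obtain ⟨y, hy⟩ := exists_prime_orderOf_dvd_card' (G := ↥N) 3 (by rw [hN']; norm_num)
  rw [← Subgroup.orderOf_coe] at hy
  exact not_prime_centralizer hnc h11 hP (r := 3) (by norm_num) (by norm_num) (by rw [hn]; norm_num) hy
    (mem_centralizer_of_coprime hP y.2 (by rw [hy]; norm_num))

theorem card_ne_1200 [IsSimpleGroup G] : Nat.card G ≠ 1200 := by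
  intro hG
  have hnc := not_comm_of_isSimple (not_prime_of_eq hG 2 600 (by norm_num) (by norm_num) (by norm_num))
  have : Fact (Nat.Prime 5) := ⟨by norm_num⟩
  have h5 : (5 : ℕ) ∣ Nat.card G := by rw [hG]; norm_num
  obtain ⟨P, hP, hdvd, hmod, -⟩ := exists_sylow_data (G := G) (p := 5) (a := 2) (m := 48)
    (by rw [hG]; norm_num) (by norm_num)
  have hne := card_sylow_ne_one (p := 5) hnc h5
  have hn : Nat.card (Sylow 5 G) = 6 ∨ Nat.card (Sylow 5 G) = 16 := by
    have : ∀ j < 49, j ∣ 48 → j % 5 = 1 → j ≠ 1 → j = 6 ∨ j = 16 := by decide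
    exact this _ (by have := Nat.le_of_dvd (by norm_num) hdvd; omega) hdvd hmod hne
  obtain ⟨R, hPR, hidx⟩ := exists_inter_index_le (p := 5) 2 (by
    rcases hn with h | h <;> rw [h] <;> decide) P
  set D := (R : Subgroup G) ⊓ (P : Subgroup G) with hD
  set H := Subgroup.centralizer (D : Set G) with hH
  have hcomm : ∀ S : Sylow 5 G, D ≤ S → (S : Subgroup G) ≤ H := fun S hS a ha d hd => by
    have hS2 : Nat.card ↥(S : Subgroup G) = 5 ^ 2 := (Nat.card_congr (S.equiv P).toEquiv).trans hP
    let _ := IsPGroup.commGroupOfCardEqPrimeSq hS2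
    exact congrArg Subtype.val (mul_comm (⟨d, hS hd⟩ : (S : Subgroup G)) ⟨a, ha⟩)
  have hPH := hcomm P inf_le_right
  have hRH := hcomm R inf_le_left
  have hDne : D ≠ ⊥ := by
    intro hbot
    have h1 := Subgroup.card_mul_index ((R : Subgroup G).subgroupOf (P : Subgroup G))
    rw [← Subgroup.inf_subgroupOf_right, ← hD, hbot, Subgroup.bot_subgroupOf, Subgroup.card_bot, one_mul] at h1
    rw [hP, Subgroup.index_bot] at h1
    rw [← Subgroup.inf_subgroupOf_right, ← hD, hbot, Subgroup.bot_subgroupOf, Subgroup.index_bot, hP] at hidx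
    norm_num at hidx
  have hHtop : H ≠ ⊤ := fun h => by
    obtain ⟨⟨d, hd⟩, hd1⟩ := D.ne_bot_iff_exists_ne_one.1 hDne
    refine centralizer_ne_top hnc (u := d) (fun e => hd1 (Subtype.ext e))
      ((Subgroup.eq_top_iff' _).2 fun g => ?_)
    exact Subgroup.mem_centralizer_singleton_iff.2
      (Subgroup.mem_centralizer_iff.1 (show g ∈ H by rw [h]; trivial) d hd).symm
  obtain ⟨n, hn1, hcard, himp⟩ := exists_card_eq_mul_inf_normalizer P hPH
  rcases eq_or_ne n 1 with h | h
  · have h1 : (R : Subgroup G) ≤ Subgroup.normalizer ((P : Subgroup G) : Set G) := hRH.trans (himp h)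
    refine hPR (Sylow.ext (R.is_maximal' P.2 ?_))
    exact inf_eq_left.1 ((R.2.inf_normalizer_sylow P).symm.trans (inf_eq_left.2 h1))
  have h25 : 25 ∣ Nat.card ↥(H ⊓ Subgroup.normalizer ((P : Subgroup G) : Set G)) := by
    rw [show (25 : ℕ) = 5 ^ 2 from rfl, ← hP]
    exact Subgroup.card_dvd_of_le (le_inf hPH Subgroup.le_normalizer)
  obtain ⟨t, ht⟩ := h25
  have hi : Nat.card ↥H * H.index = 1200 := by rw [Subgroup.card_mul_index, hG]
  rw [hcard, ht] at hi
  have hni : n * (t * H.index) = 48 := by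
    have : 25 * (n * (t * H.index)) = 1200 := by rw [← hi]; ring
    omega
  have hpos : 0 < n * t := Nat.pos_of_ne_zero fun e => by
    rw [← mul_assoc, e, zero_mul] at hni; omega
  refine index_cases hnc hHtop (k := 8) ?_ (by rw [hG]; decide)
  have : 6 ≤ n := by omega
  have ht1 : 1 ≤ t := Nat.pos_of_ne_zero fun e => by rw [e, mul_zero] at hpos; omega
  by_contra! hlt
  have h6 : 6 * (1 * 9) ≤ n * (t * H.index) := Nat.mul_le_mul this (Nat.mul_le_mul ht1 hlt)
  omega

theorem card_ne_2016 [IsSimpleGroup G] : Nat.card G ≠ 2016 := by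
  intro hG
  have hnc := not_comm_of_isSimple (not_prime_of_eq hG 2 1008 (by norm_num) (by norm_num) (by norm_num))
  have : Fact (Nat.Prime 7) := ⟨by norm_num⟩
  have h7 : (7 : ℕ) ∣ Nat.card G := by rw [hG]; norm_num
  obtain ⟨P, hP, hdvd, hmod, hN⟩ := exists_sylow_data (G := G) (p := 7) (a := 1) (m := 288)
    (by rw [hG]; norm_num) (by norm_num)
  rw [pow_one] at hP
  have hne := card_sylow_ne_one (p := 7) hnc h7
  have hn : Nat.card (Sylow 7 G) = 8 ∨ Nat.card (Sylow 7 G) = 36 ∨ Nat.card (Sylow 7 G) = 288 := by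
    obtain ⟨i, j, k, hi, hj, hk, he⟩ := dvd_two_pow_mul_three_pow_mul (a := 5) (b := 2) (c := 0)
      (by norm_num : Nat.Prime 7) (by norm_num; exact hdvd)
    rw [he] at hmod hne ⊢
    interval_cases i <;> interval_cases j <;> interval_cases k <;> simp_all
  set N := Subgroup.normalizer ((P : Subgroup G) : Set G) with hNdef
  rcases hn with hn | hn | hn <;> rw [hn] at hN
  · have hN' : Nat.card ↥N = 252 := by norm_num at hN; omega
    obtain ⟨T, hT⟩ := exists_two_part P hP (a := 2) (c := 2) (by rw [hN']; norm_num) (by norm_num)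
    rcases hT with ⟨hT, hTN, hE⟩ | h
    swap
    · omega
    have hE1 : 1 < Nat.card ↥(T ⊓ Subgroup.centralizer ((P : Subgroup G) : Set G)) := by
      rw [show (2 : ℕ) ^ 2 = 4 by norm_num] at hE; omega
    have h2 : (2 : ℕ) ∣ Nat.card ↥(T ⊓ Subgroup.centralizer ((P : Subgroup G) : Set G)) := by
      have : Fact (Nat.Prime 2) := ⟨Nat.prime_two⟩
      obtain ⟨k, hk⟩ := ((IsPGroup.of_card (p := 2) hT).to_le
        (inf_le_left : T ⊓ Subgroup.centralizer ((P : Subgroup G) : Set G) ≤ T)).exists_card_eq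
      rcases k with _ | k
      · rw [hk] at hE1; norm_num at hE1
      · exact hk ▸ dvd_pow_self 2 k.succ_ne_zero
    have : Fact (Nat.Prime 2) := ⟨Nat.prime_two⟩
    obtain ⟨u, hu⟩ := exists_prime_orderOf_dvd_card' 2 h2
    rw [← Subgroup.orderOf_coe] at hu
    exact not_prime_centralizer hnc h7 hP (r := 2) (by norm_num) (by norm_num) (by rw [hn]; norm_num) hu u.2.2
  · have hN' : Nat.card ↥N = 56 := by norm_num at hN; omega
    obtain ⟨T, hT⟩ := exists_two_part P hP (a := 3) (c := 2) (by rw [hN']; norm_num) (by norm_num)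
    rcases hT with ⟨hT, hTN, hE⟩ | h
    swap
    · omega
    refine fusion_trick P T hT hTN (by rw [hN']; norm_num) (by rw [hG]; norm_num) ?_ ?_
    · rw [hT]
      norm_num at hE ⊢
      nlinarith
    intro u huT hu1 huC hucent
    set H := Subgroup.centralizer ({u} : Set G) with hH
    have hPH : (P : Subgroup G) ≤ H := fun x hx =>
      Subgroup.mem_centralizer_singleton_iff.2 (Subgroup.mem_centralizer_iff.1 huC x hx)
    have hTH : T ≤ H := fun x hx => Subgroup.mem_centralizer_singleton_iff.2 (hucent x hx)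
    obtain ⟨n, hn1, hcard, himp⟩ := exists_card_eq_mul_inf_normalizer P hPH
    refine himp ?_
    have h56 : Nat.card ↥(H ⊓ N) = 56 := by
      refine Nat.dvd_antisymm (hN' ▸ Subgroup.card_dvd_of_le inf_le_right) ?_
      refine (show (56 : ℕ) = 8 * 7 by norm_num) ▸ Nat.Coprime.mul_dvd_of_dvd_of_dvd
        (show Nat.Coprime 8 7 by norm_num) ?_ ?_
      · rw [show (8 : ℕ) = 2 ^ 3 from rfl, ← hT]
        exact Subgroup.card_dvd_of_le (le_inf hTH hTN)
      · rw [← hP]
        exact Subgroup.card_dvd_of_le (le_inf hPH Subgroup.le_normalizer)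
    have hHG : Nat.card ↥H * H.index = 2016 := by rw [Subgroup.card_mul_index, hG]
    rw [hcard, h56] at hHG
    have hni : n * H.index = 36 := by
      have : 56 * (n * H.index) = 2016 := by rw [← hHG]; ring
      omega
    have h37 : ∀ j < 37, j ∣ 36 → j % 7 = 1 → j = 1 ∨ j = 36 := by decide
    rcases h37 n (by have := Nat.le_of_dvd (show 0 < 36 by norm_num) (Dvd.intro _ hni); omega)
      (Dvd.intro _ hni) hn1 with h | h
    · exact h
    · refine absurd (Subgroup.index_eq_one.1 ?_) (centralizer_ne_top hnc hu1)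
      rw [h] at hni
      rw [← hH]
      omega
  · have hN' : Nat.card ↥N = 7 := by norm_num at hN; omega
    exact not_normalizer_le_centralizer hnc h7 P
      (le_centralizer_of_coprime hP (by rw [← hNdef, hN']; norm_num))

theorem card_ne_1440 [IsSimpleGroup G] : Nat.card G ≠ 1440 := by
  intro hG
  have hnc := not_comm_of_isSimple (not_prime_of_eq hG 2 720 (by norm_num) (by norm_num) (by norm_num))
  have : Fact (Nat.Prime 5) := ⟨by norm_num⟩
  have h5 : (5 : ℕ) ∣ Nat.card G := by rw [hG]; norm_num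
  obtain ⟨P, hP, hdvd, hmod, hN⟩ := exists_sylow_data (G := G) (p := 5) (a := 1) (m := 288)
    (by rw [hG]; norm_num) (by norm_num)
  rw [pow_one] at hP
  have hne := card_sylow_ne_one (p := 5) hnc h5
  have hn : Nat.card (Sylow 5 G) = 6 ∨ Nat.card (Sylow 5 G) = 16 ∨ Nat.card (Sylow 5 G) = 36 ∨
      Nat.card (Sylow 5 G) = 96 := by
    obtain ⟨i, j, k, hi, hj, hk, he⟩ := dvd_two_pow_mul_three_pow_mul (a := 5) (b := 2) (c := 0)
      (by norm_num : Nat.Prime 5) (by norm_num; exact hdvd)
    rw [he] at hmod hne ⊢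
    interval_cases i <;> interval_cases j <;> interval_cases k <;> simp_all
  set N := Subgroup.normalizer ((P : Subgroup G) : Set G) with hNdef
  classical
  have := Fintype.ofFinite (Sylow 5 G)
  rcases hn with hn | hn | hn | hn <;> rw [hn] at hN
  · refine index_cases hnc (H := N) ?_ (k := 6) ?_ (by rw [hG]; decide)
    · intro h
      have h1 := congrArg Subgroup.index h
      rw [Subgroup.index_top, show N.index = Nat.card (Sylow 5 G) from P.card_eq_index_normalizer.symm, hn] at h1
      omega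
    · rw [show N.index = Nat.card (Sylow 5 G) from P.card_eq_index_normalizer.symm, hn]
  · have hN' : Nat.card ↥N = 90 := by norm_num at hN; omega
    have : Fact (Nat.Prime 3) := ⟨by norm_num⟩
    obtain ⟨R0, hR0⟩ := Sylow.exists_subgroup_card_pow_prime 3 (G := ↥N) (n := 2) (by rw [hN']; norm_num)
    set R := R0.map N.subtype with hR
    have hR9 : Nat.card ↥R = 9 := by rw [hR, Subgroup.card_map_of_injective N.subtype_injective, hR0]; norm_num
    have hRN : R ≤ N := Subgroup.map_subtype_le R0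
    have hfree : ∀ r ∈ R, r ≠ 1 → ∀ Q : Sylow 5 G, r • Q = Q → Q = P := by
      intro r hr hr1 Q hQ
      obtain ⟨j, -, hj⟩ := (Nat.dvd_prime_pow Nat.prime_three).1
        (show orderOf r ∣ 3 ^ 2 by rw [← Subgroup.orderOf_mk r hr, show (3 : ℕ) ^ 2 = 9 from rfl, ← hR9];
                                   exact orderOf_dvd_natCard _)
      rcases j with _ | j
      · rw [pow_zero, orderOf_eq_one_iff] at hj; exact absurd hj hr1
      have ho : orderOf (r ^ 3 ^ j) = 3 := by
        rw [orderOf_pow, hj, pow_succ, Nat.gcd_mul_right_left, Nat.mul_div_cancel_left _ (by positivity)]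
      have hc := mem_centralizer_of_coprime hP (N.pow_mem (hRN hr) (3 ^ j)) (by rw [ho]; norm_num)
      obtain ⟨i, hi0, hi, hilt, -⟩ := support_of_prime_centralizer hnc h5 hP (r := 3) (by norm_num) (by norm_num) ho hc
      rw [hn] at hilt
      have hcard : (MulAction.toPermHom G (Sylow 5 G) (r ^ 3 ^ j)).support = Finset.univ.erase P := by
        refine Finset.eq_of_subset_of_card_le (fun Z hZ => Finset.mem_erase.2 ⟨fun e => ?_, Finset.mem_univ Z⟩) ?_
        · exact (dvd_support_of_centralizer hP hc).2 (e ▸ hZ)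
        · rw [hi, Finset.card_erase_of_mem (Finset.mem_univ P), Finset.card_univ, ← Nat.card_eq_fintype_card, hn]
          omega
      by_contra hQP
      have hmem : Q ∈ (MulAction.toPermHom G (Sylow 5 G) (r ^ 3 ^ j)).support :=
        hcard ▸ Finset.mem_erase.2 ⟨hQP, Finset.mem_univ Q⟩
      exact Perm.mem_support.1 hmem ((stabilizer G Q).pow_mem hQ _)
    have hX : Fintype.card {Q : Sylow 5 G // Q ≠ P} = 15 := by
      rw [Fintype.card_subtype_compl, Fintype.card_subtype_eq, ← Nat.card_eq_fintype_card, hn]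
    obtain ⟨Q0⟩ : Nonempty {Q : Sylow 5 G // Q ≠ P} := Fintype.card_pos_iff.1 (by omega)
    have hnotP : ∀ r ∈ R, ∀ Q : Sylow 5 G, Q ≠ P → r • Q ≠ P := fun r hr Q hQ h => hQ (by
      have h1 := congrArg (r⁻¹ • ·) h
      simp only [inv_smul_smul] at h1
      rw [h1, Sylow.smul_eq_iff_mem_normalizer]
      exact N.inv_mem (hRN hr))
    let f : {Q : Sylow 5 G // Q ≠ P} → ↥R → {Q : Sylow 5 G // Q ≠ P} :=
      fun Q r => ⟨(r : G) • Q.1, hnotP r r.2 Q.1 Q.2⟩
    have hf : ∀ Q, Function.Injective (f Q) := by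
      intro Q a b hab
      have h1 : (a : G) • Q.1 = (b : G) • Q.1 := congrArg Subtype.val hab
      by_contra hne
      refine Q.2 (hfree ((b : G)⁻¹ * a) (R.mul_mem (R.inv_mem b.2) a.2) (fun h => hne ?_) Q.1 ?_)
      · exact Subtype.ext (inv_mul_eq_one.1 h).symm
      · rw [mul_smul, h1, inv_smul_smul]
    have := Fintype.ofFinite ↥R
    obtain ⟨Q1, hQ1⟩ : ∃ Q1, Q1 ∉ Finset.univ.image (f Q0) := by
      by_contra! hall
      have h1 := Finset.card_le_card (s := Finset.univ) fun a (_ : a ∈ Finset.univ) => hall a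
      rw [Finset.card_image_of_injective _ (hf Q0), Finset.card_univ, Finset.card_univ, hX,
        ← Nat.card_eq_fintype_card, hR9] at h1
      omega
    have hdisj : Disjoint (Finset.univ.image (f Q0)) (Finset.univ.image (f Q1)) := by
      rw [Finset.disjoint_left]
      intro Z hZ0 hZ1
      obtain ⟨a, -, rfl⟩ := Finset.mem_image.1 hZ0
      obtain ⟨b, -, hb⟩ := Finset.mem_image.1 hZ1
      refine hQ1 (Finset.mem_image.2 ⟨b⁻¹ * a, Finset.mem_univ _, Subtype.ext ?_⟩)
      have h1 : (b : G) • Q1.1 = (a : G) • Q0.1 := congrArg Subtype.val hb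
      change ((b : G)⁻¹ * a) • Q0.1 = Q1.1
      rw [mul_smul, ← h1, inv_smul_smul]
    have hle := Finset.card_le_univ (Finset.univ.image (f Q0) ∪ Finset.univ.image (f Q1))
    rw [Finset.card_union_of_disjoint hdisj, Finset.card_image_of_injective _ (hf Q0),
      Finset.card_image_of_injective _ (hf Q1), Finset.card_univ, ← Nat.card_eq_fintype_card, hR9, hX] at hle
    omega
  · have hN' : Nat.card ↥N = 40 := by norm_num at hN; omega
    obtain ⟨T, hT⟩ := exists_two_part P hP (a := 3) (c := 4) (by rw [hN']; norm_num) (by norm_num)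
    rcases hT with ⟨hT, hTN, hE⟩ | h
    swap
    · omega
    set C := Subgroup.centralizer ((P : Subgroup G) : Set G) with hC
    have hCN : C ≤ N := Subgroup.centralizer_le_normalizer _
    have hcentH : ∀ u ∈ T, u ≠ 1 → u ∈ C → (∀ t ∈ T, t * u = u * t) →
        Subgroup.centralizer ({u} : Set G) ≤ N := by
      intro u huT hu1 huC hucent
      set H := Subgroup.centralizer ({u} : Set G) with hH
      have hPH : (P : Subgroup G) ≤ H := fun x hx =>
        Subgroup.mem_centralizer_singleton_iff.2 (Subgroup.mem_centralizer_iff.1 huC x hx)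
      have hTH : T ≤ H := fun x hx => Subgroup.mem_centralizer_singleton_iff.2 (hucent x hx)
      obtain ⟨n, hn1, hcard, himp⟩ := exists_card_eq_mul_inf_normalizer P hPH
      refine himp ?_
      have h40 : Nat.card ↥(H ⊓ N) = 40 := by
        refine Nat.dvd_antisymm (hN' ▸ Subgroup.card_dvd_of_le inf_le_right) ?_
        refine (show (40 : ℕ) = 8 * 5 by norm_num) ▸ Nat.Coprime.mul_dvd_of_dvd_of_dvd
          (show Nat.Coprime 8 5 by norm_num) ?_ ?_
        · rw [show (8 : ℕ) = 2 ^ 3 from rfl, ← hT]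
          exact Subgroup.card_dvd_of_le (le_inf hTH hTN)
        · rw [← hP]
          exact Subgroup.card_dvd_of_le (le_inf hPH Subgroup.le_normalizer)
      have hHG : Nat.card ↥H * H.index = 1440 := by rw [Subgroup.card_mul_index, hG]
      rw [hcard, h40] at hHG
      have hni : n * H.index = 36 := by
        have : 40 * (n * H.index) = 1440 := by rw [← hHG]; ring
        omega
      have h37 : ∀ j < 37, j ∣ 36 → j % 5 = 1 → j = 1 ∨ j = 6 ∨ j = 36 := by decide
      rcases h37 n (by have := Nat.le_of_dvd (show 0 < 36 by norm_num) (Dvd.intro _ hni); omega)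
        (Dvd.intro _ hni) hn1 with h | h | h
      · exact h
      all_goals exfalso; rw [h] at hni
      · exact index_cases hnc (centralizer_ne_top hnc hu1) (k := 6) (by rw [← hH]; omega) (by rw [hG]; decide)
      · exact centralizer_ne_top hnc hu1 (Subgroup.index_eq_one.1 (by rw [← hH]; omega))
    have hprod : Nat.card ↥T * Nat.card ↥C ≤ Nat.card ↥(T ⊓ C) * Nat.card ↥N := by
      have h1 : T.relIndex C ≤ T.relIndex N := by
        rw [Subgroup.relIndex, Subgroup.relIndex]
        refine Nat.card_le_card_of_injective (Quotient.map' (Subgroup.inclusion hCN) fun a b hab => ?_) ?_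
        · rw [QuotientGroup.leftRel_apply] at hab ⊢
          exact hab
        · intro x y hxy
          induction x using QuotientGroup.induction_on with
          | H a =>
            induction y using QuotientGroup.induction_on with
            | H b =>
              have h : ((Subgroup.inclusion hCN a : ↥N) : ↥N ⧸ T.subgroupOf N) = (Subgroup.inclusion hCN b : ↥N) := hxy
              exact QuotientGroup.eq.2 (QuotientGroup.eq.1 h :)
      have h2 : T.relIndex N * Nat.card ↥T = Nat.card ↥N := by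
        rw [← Nat.card_congr (Subgroup.subgroupOfEquivOfLe hTN).toEquiv]
        exact (T.subgroupOf N).index_mul_card
      have h3 : T.relIndex C * Nat.card ↥(T ⊓ C) = Nat.card ↥C := by
        rw [← Subgroup.inf_relIndex_right,
          ← Nat.card_congr (Subgroup.subgroupOfEquivOfLe (inf_le_right : T ⊓ C ≤ C)).toEquiv]
        exact Subgroup.index_mul_card _
      rw [← h2, ← h3]
      calc Nat.card ↥T * (T.relIndex C * Nat.card ↥(T ⊓ C))
          ≤ Nat.card ↥T * (T.relIndex N * Nat.card ↥(T ⊓ C)) :=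
            Nat.mul_le_mul_left _ (Nat.mul_le_mul_right _ h1)
        _ = _ := by ring
    rw [hT, hN'] at hprod
    by_cases hE4 : 4 ≤ Nat.card ↥(T ⊓ C)
    · refine fusion_trick P T hT hTN (by rw [hN']; norm_num) (by rw [hG]; norm_num) ?_ hcentH
      rw [hT, ← hC, show (2 : ℕ) ^ 3 = 8 by norm_num]
      nlinarith
    have : Fact (Nat.Prime 2) := ⟨Nat.prime_two⟩
    have hE2 : Nat.card ↥(T ⊓ C) = 2 := by
      obtain ⟨k, hk⟩ := ((IsPGroup.of_card (p := 2) hT).to_le (inf_le_left : T ⊓ C ≤ T)).exists_card_eq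
      rcases k with _ | _ | k
      · rw [hk] at hE; norm_num at hE
      · exact hk
      · rw [hk, pow_succ, pow_succ] at hE4
        have := Nat.one_le_two_pow (n := k)
        omega
    rw [hE2] at hprod
    have hC10 : Nat.card ↥C ≤ 10 := by norm_num at hprod; omega
    obtain ⟨u, hu⟩ := exists_prime_orderOf_dvd_card' (G := ↥(T ⊓ C)) 2 (by rw [hE2])
    rw [← Subgroup.orderOf_coe] at hu
    have hu1 : (u : G) ≠ 1 := fun h => by rw [h, orderOf_one] at hu; omega
    have huT : ∀ t ∈ T, t * (u : G) = u * t := by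
      intro t ht
      have : Nontrivial ↥(T ⊓ C) := Finite.one_lt_card_iff_nontrivial.1 (by omega)
      have h1 : t * u * t⁻¹ ∈ T ⊓ C := ⟨T.mul_mem (T.mul_mem ht u.2.1) (T.inv_mem ht), by
        refine Subgroup.mem_centralizer_iff.2 ?_
        intro x hx
        have h2 : t⁻¹ * x * t ∈ (P : Subgroup G) := by
          have := (Subgroup.mem_set_normalizer_iff.1 (N.inv_mem (hTN ht)) x).1 hx
          rw [inv_inv] at this
          exact this
        have h3 := Subgroup.mem_centralizer_iff.1 u.2.2 _ h2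
        calc x * (t * u * t⁻¹) = t * ((t⁻¹ * x * t) * u) * t⁻¹ := by group
          _ = t * (u * (t⁻¹ * x * t)) * t⁻¹ := by rw [h3]
          _ = t * u * t⁻¹ * x := by group⟩
      have := Fintype.ofFinite ↥(T ⊓ C)
      have hall : ∀ z : ↥(T ⊓ C), z = 1 ∨ z = u := by
        intro z
        have h2 : Fintype.card ↥(T ⊓ C) = 2 := by rw [← Nat.card_eq_fintype_card, hE2]
        by_contra! hz
        have h3 := Finset.card_le_univ ({1, z, u} : Finset ↥(T ⊓ C))
        rw [Finset.card_eq_three.2 ⟨1, z, u, fun e => hz.1 e.symm, fun e => hu1 (congrArg Subtype.val e).symm,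
          hz.2, rfl⟩, h2] at h3
        omega
      rcases hall ⟨_, h1⟩ with h | h
      · have h2 : t * (u : G) * t⁻¹ = 1 := congrArg Subtype.val h
        exact absurd (conj_eq_one_iff.1 h2) hu1
      · have h2 : t * (u : G) * t⁻¹ = u := congrArg Subtype.val h
        exact mul_inv_eq_iff_eq_mul.1 h2
    have hle := hcentH u u.2.1 hu1 u.2.2 huT
    obtain ⟨j, hj0, hj, hjlt, hje⟩ := support_of_prime_centralizer hnc h5 hP (r := 2) (by norm_num) (by norm_num) hu u.2.2
    rw [hn] at hjlt
    have hj2 : j = 2 := by obtain ⟨k, rfl⟩ := hje rfl; omega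
    have hfix := card_fixedBy_add_support (p := 5) (u : G)
    rw [hj, hj2, hn] at hfix
    have hcnt := card_fixedBy_mul_card_conj P (u : G)
    have hclass : 36 ≤ Nat.card {g : G // IsConj (u : G) g} := by
      have h1 := card_conj_mul_card_centralizer (u : G)
      have h2 : Nat.card ↥(Subgroup.centralizer ({(u : G)} : Set G)) ≤ 40 := hN' ▸ Subgroup.card_le_of_le hle
      rw [hG] at h1
      by_contra! hlt
      have := Nat.mul_le_mul (Nat.le_of_lt_succ hlt : _ ≤ 35) h2
      omega
    have hm : Nat.card {g : G // IsConj (u : G) g ∧ g • P = P} ≤ 15 := by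
      let S : Set G := {g : G | IsConj (u : G) g ∧ g • P = P}
      have hS : ∀ g ∈ S, g ∈ N ∧ orderOf g = 2 := by
        rintro g ⟨hg, hgP⟩
        refine ⟨Sylow.smul_eq_iff_mem_normalizer.1 hgP, ?_⟩
        obtain ⟨c, rfl⟩ := isConj_iff.1 hg
        change orderOf ((MulAut.conj c).toMonoidHom (u : G)) = 2
        rw [orderOf_injective (MulAut.conj c).toMonoidHom (MulAut.conj c).injective, hu]
      have hP1 : IsCyclic ↥(P : Subgroup G) := isCyclic_of_prime_card hP
      let ψ := (P : Subgroup G).normalizerMonoidHom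
      have hker : ∀ a : ↥N, ψ a = 1 ↔ (a : G) ∈ C := fun a => by
        rw [← MonoidHom.mem_ker, Subgroup.normalizerMonoidHom_ker, Subgroup.mem_subgroupOf]
      have h1 : (S ∩ (C : Set G)).ncard ≤ 5 := by
        have h2 : S ∩ (C : Set G) ⊆ (C : Set G) \ ((P : Subgroup G) : Set G) := by
          rintro g ⟨hg, hgC⟩
          refine ⟨hgC, fun hgP => ?_⟩
          have h3 := Subgroup.orderOf_dvd_natCard (P : Subgroup G) hgP
          rw [hP, (hS g hg).2] at h3
          norm_num at h3
        refine (Set.ncard_le_ncard h2 (Set.toFinite _)).trans ?_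
        have hPC : ((P : Subgroup G) : Set G) ⊆ C := fun x hx => by
          rw [SetLike.mem_coe, hC, Subgroup.mem_centralizer_iff]
          intro y hy
          let _ := IsCyclic.commGroup (α := ↥(P : Subgroup G))
          exact congrArg Subtype.val (mul_comm (⟨y, hy⟩ : ↥(P : Subgroup G)) ⟨x, hx⟩)
        rw [Set.ncard_sdiff hPC (Set.toFinite _), ← Nat.card_coe_set_eq, ← Nat.card_coe_set_eq]
        change Nat.card ↥C - Nat.card ↥(P : Subgroup G) ≤ 5
        omega
      have h2 : (S \ (C : Set G)).ncard ≤ 10 := by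
        rcases Set.eq_empty_or_nonempty (S \ (C : Set G)) with h | ⟨g0, hg0, hg0C⟩
        · rw [h, Set.ncard_empty]; omega
        refine le_trans ?_ hC10
        rw [← Nat.card_coe_set_eq]
        have huniq : ∀ g (hg : g ∈ S), g ∉ C → ψ ⟨g, (hS g hg).1⟩ = ψ ⟨g0, (hS g0 hg0).1⟩ := by
          intro g hg hgC
          have hsq : ∀ g (hg : g ∈ S), ψ ⟨g, (hS g hg).1⟩ ^ 2 = 1 := fun g hg => by
            rw [← map_pow, show (⟨g, (hS g hg).1⟩ : ↥N) ^ 2 = 1 from Subtype.ext (by
              rw [Subgroup.coe_pow]; exact orderOf_dvd_iff_pow_eq_one.1 (dvd_of_eq (hS g hg).2)), map_one]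
          let _ : CommGroup (MulAut ↥(P : Subgroup G)) :=
            (IsCyclic.mulAutMulEquiv ↥(P : Subgroup G)).toMonoidHom.commGroupOfInjective
              (IsCyclic.mulAutMulEquiv ↥(P : Subgroup G)).injective
          let φ : MulAut ↥(P : Subgroup G) →* (ZMod 5)ˣ :=
            (Units.map (ZMod.ringEquivCongr hP).toRingHom.toMonoidHom).comp
              (IsCyclic.mulAutMulEquiv ↥(P : Subgroup G)).toMonoidHom
          have hφ : Function.Injective φ :=
            (Units.map_injective (ZMod.ringEquivCongr hP).injective).comp (MulEquiv.injective _)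
          refine hφ (zmod_five_involution _ _ (by rw [← map_pow, hsq g hg, map_one]) (by rw [← map_pow, hsq g0 hg0, map_one]) ?_ ?_)
          · rw [Ne, map_eq_one_iff φ hφ, hker]; exact hgC
          · rw [Ne, map_eq_one_iff φ hφ, hker]; exact hg0C
        refine Nat.card_le_card_of_injective (fun g : ↥(S \ (C : Set G)) => (⟨g0⁻¹ * g.1, ?_⟩ : ↥C))
          fun a b hab => Subtype.ext (mul_left_cancel (congrArg Subtype.val hab))
        have h3 := (hker (⟨g0, (hS g0 hg0).1⟩⁻¹ * ⟨g.1, (hS g.1 g.2.1).1⟩)).1 (by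
          rw [map_mul, map_inv, huniq g.1 g.2.1 g.2.2, inv_mul_cancel])
        exact h3
      rw [show Nat.card {g : G // IsConj (u : G) g ∧ g • P = P} = S.ncard from Nat.card_coe_set_eq S,
        ← Set.ncard_inter_add_ncard_sdiff_eq_ncard S (C : Set G) (Set.toFinite _)]
      omega
    rw [hn] at hcnt
    have h16 : Nat.card (fixedBy (Sylow 5 G) (u : G)) = 16 := by omega
    rw [h16] at hcnt
    omega
  · have hN' : Nat.card ↥N = 15 := by norm_num at hN; omega
    exact not_normalizer_le_centralizer hnc h5 P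
      (le_centralizer_of_coprime hP (by rw [← hNdef, hN']; norm_num))

theorem card_ne_1004913 [IsSimpleGroup G] : Nat.card G ≠ 1004913 := by
  intro hG
  have hnc := not_comm_of_isSimple (not_prime_of_eq hG 3 334971 (by norm_num) (by norm_num) (by norm_num))
  have : Fact (Nat.Prime 409) := ⟨by norm_num⟩
  have : Fact (Nat.Prime 13) := ⟨by norm_num⟩
  have : Fact (Nat.Prime 7) := ⟨by norm_num⟩
  have : Fact (Nat.Prime 3) := ⟨by norm_num⟩
  have h409 : (409 : ℕ) ∣ Nat.card G := by rw [hG]; norm_num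
  have hdiv : ∀ {n r : ℕ}, r.Prime → ∀ {a b c : ℕ}, n ∣ 3 ^ a * 7 ^ b * r ^ c →
      ∃ i j k, i ≤ a ∧ j ≤ b ∧ k ≤ c ∧ n = 3 ^ i * 7 ^ j * r ^ k := by
    intro n r hr a b c h
    obtain ⟨x, y, hx, hy, rfl⟩ := Nat.dvd_mul.1 h
    obtain ⟨u, v, hu, hv, rfl⟩ := Nat.dvd_mul.1 hx
    obtain ⟨i, hi, rfl⟩ := (Nat.dvd_prime_pow Nat.prime_three).1 hu
    obtain ⟨j, hj, rfl⟩ := (Nat.dvd_prime_pow (by norm_num : Nat.Prime 7)).1 hv
    obtain ⟨k, hk, rfl⟩ := (Nat.dvd_prime_pow hr).1 hy
    exact ⟨i, j, k, hi, hj, hk, rfl⟩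
  obtain ⟨P, hP, hdvd, hmod, hN⟩ := exists_sylow_data (G := G) (p := 409) (a := 1) (m := 2457)
    (by rw [hG]; norm_num) (by norm_num)
  rw [pow_one] at hP
  have hne := card_sylow_ne_one (p := 409) hnc h409
  have hn : Nat.card (Sylow 409 G) = 819 := by
    obtain ⟨i, j, k, hi, hj, hk, he⟩ := hdiv (by norm_num : Nat.Prime 13) (a := 3) (b := 1) (c := 1)
      (by norm_num; exact hdvd)
    rw [he] at hmod hne ⊢
    interval_cases i <;> interval_cases j <;> interval_cases k <;> simp_all
  rw [hn] at hN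
  set N := Subgroup.normalizer ((P : Subgroup G) : Set G) with hNdef
  have hN' : Nat.card ↥N = 1227 := by norm_num at hN; omega
  obtain ⟨x, hx⟩ := exists_prime_orderOf_dvd_card' (G := ↥N) 3 (by rw [hN']; norm_num)
  rw [← Subgroup.orderOf_coe] at hx
  have hxC : (x : G) ∉ Subgroup.centralizer ((P : Subgroup G) : Set G) := fun hc =>
    not_prime_centralizer hnc h409 hP (r := 3) (by norm_num) (by norm_num) (by rw [hn]; norm_num) hx hc
  -- the centraliser of `x` is small
  have hCx : Nat.card ↥(Subgroup.centralizer ({(x : G)} : Set G)) ≤ 9 := by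
    have hb := fixed_bound hP x.2 hxC
    rw [hn] at hb
    have hcnt := card_fixedBy_mul_card_conj P (x : G)
    rw [hn] at hcnt
    have hm : 409 ≤ Nat.card {g : G // IsConj (x : G) g ∧ g • P = P} := by
      conv_lhs => rw [← hP]
      refine Nat.card_le_card_of_injective (fun a : ↥(P : Subgroup G) => ⟨(a : G) * x * (a : G)⁻¹,
        isConj_iff.2 ⟨a, rfl⟩, Sylow.smul_eq_iff_mem_normalizer.2
          (N.mul_mem (N.mul_mem (Subgroup.le_normalizer a.2) x.2) (N.inv_mem (Subgroup.le_normalizer a.2)))⟩) ?_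
      intro a b hab
      have h1 : (a : G) * x * (a : G)⁻¹ = (b : G) * x * (b : G)⁻¹ := congrArg Subtype.val hab
      by_contra hne'
      refine hxC (Subgroup.mem_centralizer_iff.2 fun y hy => ?_)
      set c : ↥(P : Subgroup G) := b⁻¹ * a with hc
      have hc1 : c ≠ 1 := fun h => hne' (inv_mul_eq_one.1 h).symm
      have hcx : Commute (c : G) (x : G) := by
        change (c : G) * x = x * c
        rw [hc, Subgroup.coe_mul, Subgroup.coe_inv]
        calc (b : G)⁻¹ * a * x = (b : G)⁻¹ * (a * x * (a : G)⁻¹) * a := by group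
          _ = (b : G)⁻¹ * (b * x * (b : G)⁻¹) * a := by rw [h1]
          _ = x * ((b : G)⁻¹ * a) := by group
      have : Fact (Nat.card ↥(P : Subgroup G)).Prime := ⟨by rw [hP]; norm_num⟩
      obtain ⟨k, hk⟩ := Subgroup.mem_zpowers_iff.1 (show (⟨y, hy⟩ : ↥(P : Subgroup G)) ∈ Subgroup.zpowers c by
        rw [zpowers_eq_top_of_prime_card hP hc1]; trivial)
      rw [show y = (c : G) ^ k by rw [← Subgroup.coe_zpow, hk]]
      exact (hcx.zpow_left k).eq
    have hcls := card_conj_mul_card_centralizer (x : G)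
    rw [hG] at hcls
    by_contra! hlt
    have h1 : Nat.card {g : G // IsConj (x : G) g} * 10 ≤ 1004913 :=
      hcls ▸ Nat.mul_le_mul_left _ hlt
    have hf : Nat.card (fixedBy (Sylow 409 G) (x : G)) ≤ 3 := by omega
    have h2 := Nat.mul_le_mul_right (Nat.card {g : G // IsConj (x : G) g}) hf
    omega
  -- a Sylow 3-subgroup through `x`
  obtain ⟨S, hxS⟩ := (IsPGroup.of_card (p := 3) (n := 1)
    (by rw [Nat.card_zpowers, hx, pow_one] : Nat.card (Subgroup.zpowers (x : G)) = 3 ^ 1)).exists_le_sylow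
  have hxS' : (x : G) ∈ (S : Subgroup G) := hxS (Subgroup.mem_zpowers _)
  have hS27 := card_sylow_of_factor S (a := 3) (m := 37219) (by rw [hG]; norm_num) (by norm_num)
  norm_num at hS27
  -- orders of normalisers for 7, 13, 409
  have hcentral : ∀ (r : ℕ) [Fact r.Prime], r = 7 ∨ r = 13 ∨ r = 409 → ∀ y : G, orderOf y = r →
      ¬ 9 ∣ Nat.card ↥(Subgroup.centralizer ({y} : Set G)) := by
    intro r _ hr y hy h9
    have hcl : Nat.card ↥(Subgroup.centralizer ({y} : Set G)) ∣
        Nat.card ↥(Subgroup.normalizer (Subgroup.zpowers y : Set G)) := by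
      refine Subgroup.card_dvd_of_le fun c hc => Subgroup.centralizer_le_normalizer _ ?_
      rw [Subgroup.mem_centralizer_iff]
      intro z hz
      obtain ⟨k, rfl⟩ := hz
      exact (Commute.zpow_left (Subgroup.mem_centralizer_singleton_iff.1 hc).symm k).eq
    have h9' := h9.trans hcl
    obtain ⟨Y, hY⟩ := (IsPGroup.of_card (p := r) (n := 1)
      (by rw [Nat.card_zpowers, hy, pow_one] : Nat.card (Subgroup.zpowers y) = r ^ 1)).exists_le_sylow
    obtain ⟨Y', hY', hd, hm, hN3⟩ := exists_sylow_data (G := G) (p := r) (a := 1) (m := 1004913 / r)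
      (by rw [hG]; rcases hr with rfl | rfl | rfl <;> norm_num)
      (by rcases hr with rfl | rfl | rfl <;> norm_num)
    have hYeq := Subgroup.eq_of_le_of_card_ge hY (by
      rw [Nat.card_zpowers, hy, Nat.card_congr (Y.equiv Y').toEquiv, hY', pow_one])
    rw [hYeq] at h9'
    have hN4 := card_normalizer_mul Y
    rw [hG] at hN4
    obtain ⟨t, ht⟩ := h9'
    rw [ht] at hN4
    have hnn : Nat.card (Sylow r G) ∣ 111657 := ⟨t, by
      have : 9 * (t * Nat.card (Sylow r G)) = 1004913 := by rw [← hN4]; ring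
      linarith⟩
    have hne1 := card_sylow_ne_one (p := r) hnc (by rw [hG]; rcases hr with rfl | rfl | rfl <;> norm_num)
    obtain ⟨d1, d2, hd1, hd2, he⟩ := Nat.dvd_mul.1 (show Nat.card (Sylow r G) ∣ 3 ^ 1 * 7 ^ 1 * 13 ^ 1 * 409 by
      norm_num; exact hnn)
    obtain ⟨i, j, k, hi, hj, hk, rfl⟩ := hdiv (by norm_num : Nat.Prime 13) hd1
    rw [← he] at hm hne1 hd
    rcases (Nat.dvd_prime (by norm_num : Nat.Prime 409)).1 hd2 with rfl | rfl <;>
      rcases hr with rfl | rfl | rfl <;> interval_cases i <;> interval_cases j <;> interval_cases k <;>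
        simp_all
  set NS := Subgroup.normalizer ((S : Subgroup G) : Set G) with hNS
  have hnot : ∀ (r : ℕ) [Fact r.Prime], r = 7 ∨ r = 13 ∨ r = 409 → ¬ r ∣ Nat.card ↥NS := by
    intro r _ hr hdv
    obtain ⟨y, hy⟩ := exists_prime_orderOf_dvd_card' r hdv
    rw [← Subgroup.orderOf_coe] at hy
    obtain ⟨K, hKS, hK, hKmod⟩ := card_fixed_modEq hy (S : Subgroup G) y.2
    have hKd : Nat.card ↥K ∣ 27 := hS27 ▸ Subgroup.card_dvd_of_le hKS
    obtain ⟨e, he, hKe⟩ := (Nat.dvd_prime_pow Nat.prime_three).1 (show Nat.card ↥K ∣ 3 ^ 3 by norm_num; exact hKd)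
    have hKC : Nat.card ↥K ∣ Nat.card ↥(Subgroup.centralizer ({(y : G)} : Set G)) :=
      Subgroup.card_dvd_of_le fun s hs => Subgroup.mem_centralizer_singleton_iff.2 ((hK s).1 hs).2.symm
    have h27 : 2 ≤ e → False := fun h2 => hcentral r hr y hy
      ((show 9 ∣ 3 ^ e from (show (9 : ℕ) = 3 ^ 2 by norm_num) ▸ pow_dvd_pow 3 h2).trans (hKe ▸ hKC))
    rw [hS27, hKe] at hKmod
    have he1 : e = 0 ∧ r = 13 := by
      rcases hr with rfl | rfl | rfl <;> interval_cases e <;>
        first
          | exact ⟨rfl, rfl⟩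
          | (exfalso; revert hKmod; decide)
          | exact absurd (h27 (by norm_num)) id
    obtain ⟨rfl, rfl⟩ := he1
    -- an element of order 13 acting fixed point freely makes `S` abelian
    have hfree : ∀ s ∈ (S : Subgroup G), (y : G) * s = s * y → s = 1 := fun s hs hc => by
      have hKbot := Subgroup.card_eq_one.1 (hKe.trans (pow_zero 3))
      exact (Subgroup.eq_bot_iff_forall K).1 hKbot s ((hK s).2 ⟨hs, hc⟩)
    set Z := (Subgroup.center ↥(S : Subgroup G)).map (S : Subgroup G).subtype with hZ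
    have hyZ : (y : G) ∈ Subgroup.normalizer (Z : Set G) := by
      have key : ∀ g ∈ NS, ∀ z, z ∈ Z → g * z * g⁻¹ ∈ Z := by
        rintro g hg _ ⟨z, hz, rfl⟩
        refine ⟨⟨g * z * g⁻¹, (Subgroup.mem_set_normalizer_iff.1 hg z.1).1 z.2⟩, ?_, rfl⟩
        rw [SetLike.mem_coe, Subgroup.mem_center_iff] at hz ⊢
        intro a
        have h1 : g⁻¹ * a * g ∈ (S : Subgroup G) := by
          have := (Subgroup.mem_set_normalizer_iff.1 (NS.inv_mem hg) a.1).1 a.2
          rw [inv_inv] at this
          exact this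
        have h2 : g⁻¹ * (a : G) * g * z = z * (g⁻¹ * a * g) := congrArg Subtype.val (hz ⟨_, h1⟩)
        apply Subtype.ext
        change (a : G) * (g * z * g⁻¹) = g * z * g⁻¹ * a
        calc (a : G) * (g * z * g⁻¹) = g * ((g⁻¹ * a * g) * z) * g⁻¹ := by group
          _ = g * (z * (g⁻¹ * a * g)) * g⁻¹ := by rw [h2]
          _ = g * z * g⁻¹ * a := by group
      rw [Subgroup.mem_set_normalizer_iff]
      refine fun z => ⟨key _ y.2 z, fun h => ?_⟩
      have h1 := key _ (NS.inv_mem y.2) _ h
      simpa [mul_assoc] using h1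
    obtain ⟨L, hLZ, hL, hLmod⟩ := card_fixed_modEq hy Z hyZ
    have hL1 : Nat.card ↥L = 1 := by
      refine Subgroup.card_eq_one.2 ((Subgroup.eq_bot_iff_forall L).2 fun s hs => hfree s ?_ ((hL s).1 hs).2)
      obtain ⟨z, -, rfl⟩ := hLZ hs
      exact z.2
    have : Nontrivial ↥(S : Subgroup G) := Finite.one_lt_card_iff_nontrivial.1 (by omega)
    have hZ1 := S.2.center_nontrivial
    have hZc : Nat.card ↥Z = Nat.card ↥(Subgroup.center ↥(S : Subgroup G)) :=
      Subgroup.card_map_of_injective (S : Subgroup G).subtype_injective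
    obtain ⟨f, hf, hfe⟩ := (Nat.dvd_prime_pow Nat.prime_three).1
      (show Nat.card ↥(Subgroup.center ↥(S : Subgroup G)) ∣ 3 ^ 3 by
        norm_num; exact hS27 ▸ Subgroup.card_subgroup_dvd_card _)
    rw [hL1, hZc, hfe] at hLmod
    have hf3 : f = 3 := by
      interval_cases f
      · exact absurd (Subgroup.card_eq_one.1 hfe) ((Subgroup.nontrivial_iff_ne_bot _).1 hZ1)
      all_goals first | rfl | (exfalso; revert hLmod; decide)
    subst hf3
    have htop : Subgroup.center ↥(S : Subgroup G) = ⊤ := Subgroup.eq_top_of_card_eq _ (by rw [hfe, hS27]; norm_num)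
    have hle : (S : Subgroup G) ≤ Subgroup.centralizer ({(x : G)} : Set G) := fun a ha => by
      rw [Subgroup.mem_centralizer_singleton_iff]
      exact congrArg Subtype.val (Subgroup.mem_center_iff.1
        (show (⟨(x : G), hxS'⟩ : ↥(S : Subgroup G)) ∈ Subgroup.center _ by rw [htop]; trivial) ⟨a, ha⟩)
    have := Subgroup.card_le_of_le hle
    omega
  obtain ⟨S', hS', hd3, hm3, hN3⟩ := exists_sylow_data (G := G) (p := 3) (a := 3) (m := 37219)
    (by rw [hG]; norm_num) (by norm_num)
  have hn3 : Nat.card (Sylow 3 G) = 37219 := by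
    have h1 := card_normalizer_mul S
    rw [hG, ← hNS] at h1
    have hd : Nat.card ↥NS ∣ 27 := by
      have hco : Nat.Coprime (Nat.card ↥NS) (7 * 13 * 409) := by
        refine Nat.Coprime.mul_right (Nat.Coprime.mul_right ?_ ?_) ?_ <;>
          refine ((Nat.Prime.coprime_iff_not_dvd (by norm_num)).2 (hnot _ ?_)).symm <;> simp
      exact hco.dvd_of_dvd_mul_right (show Nat.card ↥NS ∣ 27 * (7 * 13 * 409) by norm_num; exact Dvd.intro _ h1)
    have hge : 27 ≤ Nat.card ↥NS := hS27 ▸ Subgroup.card_le_of_le Subgroup.le_normalizer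
    have : Nat.card ↥NS = 27 := by have := Nat.le_of_dvd (by norm_num) hd; omega
    rw [this] at h1
    omega
  obtain ⟨R, hSR, hidx⟩ := exists_inter_index_le (p := 3) 2 (by rw [hn3]; decide) S
  set D := (R : Subgroup G) ⊓ (S : Subgroup G) with hD
  have hD9 : 9 ≤ Nat.card ↥D := by
    have h1 := Subgroup.card_mul_index ((R : Subgroup G).subgroupOf (S : Subgroup G))
    rw [hS27, ← Subgroup.inf_subgroupOf_right, ← hD,
      Nat.card_congr (Subgroup.subgroupOfEquivOfLe (inf_le_right : D ≤ (S : Subgroup G))).toEquiv] at h1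
    rw [← Subgroup.inf_subgroupOf_right, ← hD] at hidx
    norm_num at hidx
    nlinarith
  have hDeq : Nat.card ↥D = 9 := by
    have hd : Nat.card ↥D ∣ 3 ^ 3 := by norm_num; exact hS27 ▸ Subgroup.card_dvd_of_le inf_le_right
    obtain ⟨e, he, hee⟩ := (Nat.dvd_prime_pow Nat.prime_three).1 hd
    interval_cases e
    · omega
    · omega
    · exact hee
    · exfalso
      refine hSR (Sylow.ext ?_)
      have h1 : D = (S : Subgroup G) := Subgroup.eq_of_le_of_card_ge inf_le_right (by rw [hee, hS27]; norm_num)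
      exact (S.is_maximal' R.2 (h1 ▸ inf_le_left)).symm
  set H := Subgroup.normalizer (D : Set G) with hH
  have hsub : ∀ X : Sylow 3 G, D ≤ X → (X : Subgroup G) ≤ H := by
    intro X hX a ha
    have hX27 : Nat.card ↥(X : Subgroup G) = 3 ^ 3 := by
      rw [Nat.card_congr (X.equiv S).toEquiv, hS27]; norm_num
    have hnorm : (D.subgroupOf (X : Subgroup G)).Normal := by
      refine Subgroup.normal_of_index_eq_minFac_card ?_
      rw [hX27, Nat.Prime.pow_minFac Nat.prime_three (by norm_num)]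
      have h1 := Subgroup.card_mul_index (D.subgroupOf (X : Subgroup G))
      rw [Nat.card_congr (Subgroup.subgroupOfEquivOfLe hX).toEquiv, hDeq, hX27] at h1
      omega
    exact (Subgroup.normal_subgroupOf_iff_le_normalizer hX).1 hnorm ha
  have hSH := hsub S inf_le_right
  have hRH := hsub R inf_le_left
  obtain ⟨n, hn1, hcard, himp⟩ := exists_card_eq_mul_inf_normalizer S hSH
  have hn : n ≠ 1 := fun h => hSR (Sylow.ext (R.is_maximal' S.2
    (inf_eq_left.1 ((R.2.inf_normalizer_sylow S).symm.trans (inf_eq_left.2 (hRH.trans (himp h)))))))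
  have hHtop : H ≠ ⊤ := fun h => by
    rcases (Subgroup.normalizer_eq_top_iff.1 h).eq_bot_or_eq_top with h' | h'
    · rw [h', Subgroup.card_bot] at hDeq; omega
    · rw [h', Subgroup.card_top, hG] at hDeq; omega
  have hHG : Nat.card ↥H * H.index = 1004913 := by rw [Subgroup.card_mul_index, hG]
  have h409H : ¬ 409 ∣ Nat.card ↥H := fun hd => by
    obtain ⟨y, hy⟩ := exists_prime_orderOf_dvd_card' 409 hd
    rw [← Subgroup.orderOf_coe] at hy
    obtain ⟨K, hKD, hK, hKmod⟩ := card_fixed_modEq hy D y.2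
    have hKle : Nat.card ↥K ≤ 9 := hDeq ▸ Subgroup.card_le_of_le hKD
    have hK9 : Nat.card ↥K = 9 := by
      rw [hDeq] at hKmod
      unfold Nat.ModEq at hKmod
      omega
    exact hcentral 409 (by simp) y hy (hK9 ▸ Subgroup.card_dvd_of_le fun s hs =>
      Subgroup.mem_centralizer_singleton_iff.2 ((hK s).1 hs).2.symm)
  obtain ⟨r, hrp, hr, hrH⟩ : ∃ r, r.Prime ∧ (r = 7 ∨ r = 13) ∧ r ∣ Nat.card ↥H := by
    by_contra! hno
    have hco : Nat.Coprime (Nat.card ↥H) (7 * 13 * 409) :=
      Nat.Coprime.mul_right (Nat.Coprime.mul_right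
        ((Nat.Prime.coprime_iff_not_dvd (by norm_num)).2 (hno 7 (by norm_num) (Or.inl rfl))).symm
        ((Nat.Prime.coprime_iff_not_dvd (by norm_num)).2 (hno 13 (by norm_num) (Or.inr rfl))).symm)
        ((Nat.Prime.coprime_iff_not_dvd (by norm_num)).2 h409H).symm
    have hd : Nat.card ↥H ∣ 27 :=
      hco.dvd_of_dvd_mul_right (show Nat.card ↥H ∣ 27 * (7 * 13 * 409) by norm_num; exact Dvd.intro _ hHG)
    have h1 : 27 ≤ Nat.card ↥(H ⊓ NS) := hS27 ▸ Subgroup.card_le_of_le (le_inf hSH Subgroup.le_normalizer)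
    have h2 := Nat.le_of_dvd (by norm_num) hd
    rw [hcard, ← hNS] at h2
    have h3 : 2 ≤ n := by omega
    have := Nat.mul_le_mul h3 h1
    omega
  have : Fact r.Prime := ⟨hrp⟩
  obtain ⟨y, hy⟩ := exists_prime_orderOf_dvd_card' r hrH
  rw [← Subgroup.orderOf_coe] at hy
  obtain ⟨K, hKD, hK, hKmod⟩ := card_fixed_modEq hy D y.2
  have hKd : Nat.card ↥K ∣ 3 ^ 2 := by norm_num; exact hDeq ▸ Subgroup.card_dvd_of_le hKD
  obtain ⟨e, he, hKe⟩ := (Nat.dvd_prime_pow Nat.prime_three).1 hKd
  rw [hDeq, hKe] at hKmod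
  have he2 : e = 2 := by
    rcases hr with rfl | rfl <;> interval_cases e <;> first | rfl | (exfalso; revert hKmod; decide)
  subst he2
  refine hcentral r (by rcases hr with h | h <;> simp [h]) y hy ?_
  have h := Subgroup.card_dvd_of_le (H := K) (K := Subgroup.centralizer ({(y : G)} : Set G)) fun s hs =>
      Subgroup.mem_centralizer_singleton_iff.2 ((hK s).1 hs).2.symm
  rw [hKe] at h
  exact h

end Cfsg.Lib.Small
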