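import Cfsg.Agent.Small.M12Chain
import Cfsg.Agent.PermCert.Chain

/-!
The Mathieu groups of degree twelve and eleven from a certified chain.
-/

namespace Cfsg.Lib.M12Chain

open Cfsg.Lib.PermCert MulAction

theorem m12Chain_check : check 12 m12Chain = true := by decide +kernel

theorem m11Chain_check : check 12 (m12Chain.drop 1) = true := (check_cons m12Chain_check).2

/-- The group of degree twelve. -/
def G12 : Subgroup (Equiv.Perm (Fin 12)) := grp 12 m12Chain

theorem card_G12 : Nat.card G12 = 95040 := by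
  rw [G12, card_grp m12Chain_check]; decide +kernel

/-- The base as an embedding. -/
def baseEmb : Fin 5 ↪ Fin 12 := ⟨![2, 1, 0, 3, 4], by decide⟩

theorem eq_of_smul_baseEmb (g h : G12) (e : g • baseEmb = h • baseEmb) : g = h := by
  rw [← inv_mul_eq_one]
  apply Subtype.ext
  refine eq_one_of_fix_base m12Chain_check (g⁻¹ * h).2 fun L hL x hx => ?_
  have key : ∀ i : Fin 5, ((g⁻¹ * h : G12) : Equiv.Perm (Fin 12)) (baseEmb i) = baseEmb i := by
    intro i
    have := congrArg (fun y : Fin 5 ↪ Fin 12 => y i) e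
    simp only [Function.Embedding.smul_apply, Subgroup.smul_def, Equiv.Perm.smul_def] at this
    simp only [Subgroup.coe_mul, Subgroup.coe_inv, Equiv.Perm.mul_apply]
    rw [← this]; simp
  have hb : ∀ K ∈ m12Chain, ∃ i : Fin 5, (baseEmb i : ℕ) = K.b := by
    simp only [m12Chain, List.forall_mem_cons, m12ChainL0, m12ChainL1, m12ChainL2, m12ChainL3, m12ChainL4]
    exact ⟨⟨0, rfl⟩, ⟨1, rfl⟩, ⟨2, rfl⟩, ⟨3, rfl⟩, ⟨4, rfl⟩, by simp⟩
  obtain ⟨i, hi⟩ := hb L hL
  have hxi : x = baseEmb i := Fin.ext (hx.trans hi.symm)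
  rw [hxi]; exact key i

theorem bijective_orbitMap : Function.Bijective (fun g : G12 => g • baseEmb) := by
  rw [Nat.bijective_iff_injective_and_card]
  refine ⟨fun g h => eq_of_smul_baseEmb g h, ?_⟩
  rw [card_G12, Nat.card_eq_fintype_card, Fintype.card_embedding_eq, Fintype.card_fin, Fintype.card_fin]
  decide +kernel

theorem pretransitive : IsPretransitive G12 (Fin 5 ↪ Fin 12) := by
  refine ⟨fun a b => ?_⟩
  obtain ⟨g, rfl⟩ := bijective_orbitMap.2 a
  obtain ⟨h, rfl⟩ := bijective_orbitMap.2 b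
  exact ⟨h * g⁻¹, (smul_smul _ g baseEmb).trans (by rw [inv_mul_cancel_right]; try rfl)⟩

theorem stabilizer_eq_bot (y : Fin 5 ↪ Fin 12) : stabilizer G12 y = ⊥ := by
  obtain ⟨g, rfl⟩ := bijective_orbitMap.2 y
  rw [eq_bot_iff]
  intro k hk
  have h : k * g = g := bijective_orbitMap.1 ((smul_smul k g baseEmb).symm.trans (mem_stabilizer_iff.mp hk))
  simpa using h

/-- The group of degree eleven. -/
def G11 : Subgroup (Equiv.Perm (Fin 12)) := grp 12 (m12Chain.drop 1)

theorem card_G11 : Nat.card G11 = 7920 := by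
  rw [G11, card_grp m11Chain_check]; decide +kernel

theorem G11_eq : G11 = G12 ⊓ stabilizer (Equiv.Perm (Fin 12)) (2 : Fin 12) :=
  (stab_eq_tail (L := m12ChainL0) m12Chain_check).symm

theorem closure_gens {n : ℕ} (l : List PP) (c : List Level) (h : topGens c = l) :
    grp n c = Subgroup.closure {g | g ∈ l.map (perm n)} := by
  subst h
  simp only [grp, List.mem_map]

end Cfsg.Lib.M12Chain
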