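import Mathlib
import Cfsg.Prelude.Def_Local
import Cfsg.Prelude.Def_Transfer
import Cfsg.Agent.Chars.Burnside
import Cfsg.Agent.Coprime.Hall
import Cfsg.Agent.Components.Cores
import Cfsg.Agent.Frobenius.UniqueSubgroup
import Cfsg.Agent.Frobenius.FpfGroups

/-!
Finite groups whose element orders are at most four.
-/

set_option autoImplicit false
set_option linter.style.haveILetI false
set_option linter.unusedSectionVars false

namespace Cfsg.Lib.OrdersOneFour

open Subgroup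
open scoped commutatorElement

/-! ### Groups in which every element commutes with its conjugates -/

section Engel

variable {T : Type*} [Group T]

theorem engel_comm_left (hE : ∀ a w : T, Commute a (w * a * w⁻¹)) (a b : T) : Commute ⁅a, b⁆ a := by
  rw [show ⁅a, b⁆ = a * (b * a * b⁻¹)⁻¹ by rw [commutatorElement_def]; group]
  exact (Commute.refl a).mul_left (hE a b).symm.inv_left

theorem engel_comm_right (hE : ∀ a w : T, Commute a (w * a * w⁻¹)) (a b : T) : Commute ⁅a, b⁆ b := by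
  rw [show ⁅a, b⁆ = (a * b * a⁻¹) * b⁻¹ by rw [commutatorElement_def]]
  exact (hE b a).symm.mul_left (Commute.refl b).inv_left

theorem engel_inv_right (hE : ∀ a w : T, Commute a (w * a * w⁻¹)) (a b : T) :
    ⁅a, b⁻¹⁆ = ⁅a, b⁆⁻¹ := by
  rw [show ⁅a, b⁻¹⁆ = b⁻¹ * ⁅a, b⁆⁻¹ * b by simp only [commutatorElement_def]; group]
  have h := (engel_comm_right hE a b).inv_left
  rw [mul_assoc, h.eq, inv_mul_cancel_left]

theorem engel_inv_left (hE : ∀ a w : T, Commute a (w * a * w⁻¹)) (a b : T) :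
    ⁅a⁻¹, b⁆ = ⁅a, b⁆⁻¹ := by
  rw [← commutatorElement_inv b a⁻¹, engel_inv_right hE, commutatorElement_inv]

theorem engel_antisym (hE : ∀ a w : T, Commute a (w * a * w⁻¹)) (a b c : T) :
    ⁅c, ⁅a, b⁆⁆ * ⁅b, ⁅a, c⁆⁆ = 1 := by
  have hp : Commute ⁅a, b⁆ b := engel_comm_right hE a b
  have hq : Commute ⁅a, c⁆ c := engel_comm_right hE a c
  have hid : ⁅a, b * c⁆ = ⁅a, b⁆ * (b * ⁅a, c⁆ * b⁻¹) := by
    simp only [commutatorElement_def]; group
  have hbc := engel_comm_right hE a (b * c)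
  rw [hid] at hbc
  generalize ⁅a, b⁆ = p at hp hbc ⊢
  generalize ⁅a, c⁆ = q at hq hbc ⊢
  have e1 : c * p * c⁻¹ * (c * ⁅b, q⁆ * c⁻¹) * (c * q * c⁻¹) = p * q := by
    have h1 : b⁻¹ * ((b * c) * (p * (b * q * b⁻¹)) * (b * c)⁻¹) * b =
        c * p * c⁻¹ * (c * ⁅b, q⁆ * c⁻¹) * (c * q * c⁻¹) := by
      simp only [commutatorElement_def]; group
    rw [← h1, ← hbc.eq]
    have h2 : b⁻¹ * p * b = p := by rw [mul_assoc, hp.eq, inv_mul_cancel_left]
    calc b⁻¹ * (p * (b * q * b⁻¹) * (b * c) * (b * c)⁻¹) * b = b⁻¹ * p * b * q := by group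
      _ = p * q := by rw [h2]
  rw [show c * q * c⁻¹ = q by rw [← hq.eq, mul_inv_cancel_right]] at e1
  have e2 := mul_right_cancel e1
  have e3 : ⁅b, q⁆ = p⁻¹ * (c⁻¹ * p * c) := by
    calc ⁅b, q⁆ = p⁻¹ * c⁻¹ * (c * p * c⁻¹ * (c * ⁅b, q⁆ * c⁻¹)) * c := by group
      _ = p⁻¹ * (c⁻¹ * p * c) := by rw [e2]; group
  have e4 : ⁅p⁻¹, c⁻¹⁆ = p⁻¹ * (c⁻¹ * p * c) := by simp only [commutatorElement_def]; group
  rw [e3, ← e4, engel_inv_left hE, engel_inv_right hE, inv_inv, ← commutatorElement_inv p c,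
    inv_mul_cancel]

theorem hall_witt (x y z : T) :
    y⁻¹ * ⁅⁅x⁻¹, y⁆⁻¹, z⁻¹⁆ * y * (z⁻¹ * ⁅⁅y⁻¹, z⁆⁻¹, x⁻¹⁆ * z) *
      (x⁻¹ * ⁅⁅z⁻¹, x⁆⁻¹, y⁻¹⁆ * x) = 1 := by
  simp only [commutatorElement_def]; group

theorem engel_class_two (hE : ∀ a w : T, Commute a (w * a * w⁻¹))
    (h3 : ∀ g : T, g ^ 3 = 1 → g = 1) (a b c : T) : Commute ⁅a, b⁆ c := by
  have cyc : ∀ x y z : T, ⁅z, ⁅x, y⁆⁆ = ⁅x, ⁅y, z⁆⁆ := fun x y z => by
    have h := engel_antisym hE y x z
    rw [← commutatorElement_inv x y, engel_inv_right hE, inv_mul_eq_one] at h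
    exact h
  have term : ∀ x y z : T, ⁅⁅x⁻¹, y⁆⁻¹, z⁻¹⁆ = ⁅z, ⁅x, y⁆⁆ := fun x y z => by
    rw [engel_inv_left hE x y, inv_inv, engel_inv_right hE, commutatorElement_inv]
  have hfix : ∀ x y z : T, y⁻¹ * ⁅y, ⁅z, x⁆⁆ * y = ⁅y, ⁅z, x⁆⁆ := fun x y z => by
    rw [mul_assoc, (engel_comm_left hE y ⁅z, x⁆).eq, inv_mul_cancel_left]
  have e1 : ⁅c, ⁅a, b⁆⁆ = ⁅b, ⁅c, a⁆⁆ := (cyc c a b).symm
  have e2 : ⁅c, ⁅a, b⁆⁆ = ⁅a, ⁅b, c⁆⁆ := cyc a b c
  have f : ⁅c, ⁅a, b⁆⁆ ^ 3 = 1 := by
    have i1 : b⁻¹ * ⁅c, ⁅a, b⁆⁆ * b = ⁅c, ⁅a, b⁆⁆ := by rw [e1, hfix]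
    have i2 : c⁻¹ * ⁅c, ⁅a, b⁆⁆ * c = ⁅c, ⁅a, b⁆⁆ := hfix b c a
    have i3 : a⁻¹ * ⁅c, ⁅a, b⁆⁆ * a = ⁅c, ⁅a, b⁆⁆ := by rw [e2, hfix]
    have hw' := hall_witt a b c
    rw [term, term, term, ← e2, ← e1, i1, i2, i3] at hw'
    rw [pow_three, ← mul_assoc]; exact hw'
  exact (commutatorElement_eq_one_iff_commute.mp (h3 _ f)).symm

end Engel

/-! ### The two-group in a group with quotient of order six -/

theorem sq_eq_one {T : Type*} [Group T] (hc : ∀ a b c : T, Commute ⁅a, b⁆ c)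
    (h4 : ∀ a : T, a ^ 4 = 1) (σ ρ : T →* T) (hσ : ∀ x, σ (σ x) = x)
    (hρ : ∀ x, ρ (ρ (ρ x)) = x) (hσρ : ∀ x, σ (ρ x) = ρ (ρ (σ x)))
    (hn : ∀ x, x * ρ x * ρ (ρ x) = 1) (hn' : ∀ x, x * ρ (ρ x) * ρ x = 1)
    (hC : ∀ x, (σ x * x) ^ 2 = 1) (a : T) : a ^ 2 = 1 := by
  have hfix : ∀ x : T, ρ x = x → x = 1 := fun x hx => by
    have h := hn x
    rw [hx, hx] at h
    have := h4 x
    rwa [pow_succ, pow_three', h, one_mul] at this
  have hσρ2 : ∀ x, σ (ρ (ρ x)) = ρ (σ x) := fun x => by rw [hσρ, hσρ, hρ]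
  have bil1 : ∀ x y z : T, ⁅x * y, z⁆ = ⁅x, z⁆ * ⁅y, z⁆ := fun x y z => by
    rw [show ⁅x * y, z⁆ = x * ⁅y, z⁆ * x⁻¹ * ⁅x, z⁆ by simp only [commutatorElement_def]; group,
      ← (hc y z x).eq, mul_inv_cancel_right]
    exact (hc y z _).eq
  have bil2 : ∀ x y z : T, ⁅x, y * z⁆ = ⁅x, y⁆ * ⁅x, z⁆ := fun x y z => by
    rw [show ⁅x, y * z⁆ = ⁅x, y⁆ * (y * ⁅x, z⁆ * y⁻¹) by simp only [commutatorElement_def]; group,
      ← (hc x z y).eq, mul_inv_cancel_right]
  -- squares are central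
  have hsq : ∀ x : T, x ^ 2 ∈ center T := by
    intro x
    let q : T →* T ⧸ center T := QuotientGroup.mk' (center T)
    have q1 : ∀ w : T, q w = 1 ↔ w ∈ center T := fun w => QuotientGroup.eq_one_iff w
    have qc : ∀ v w : T, q v * q w = q w * q v := fun v w => by
      have h : q ⁅v, w⁆ = 1 := (q1 _).mpr (mem_center_iff.mpr fun g => ((hc v w g).eq).symm)
      rw [commutatorElement_def, map_mul, map_mul, map_mul, map_inv, map_inv] at h
      calc q v * q w = q v * q w * (q v)⁻¹ * (q w)⁻¹ * (q w * q v) := by group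
        _ = q w * q v := by rw [h, one_mul]
    have qρ : ∀ v w : T, q v = q w → q (ρ v) = q (ρ w) := fun v w h => by
      have hm : v⁻¹ * w ∈ center T := by rw [← q1, map_mul, map_inv, h, inv_mul_cancel]
      have hm' : q (ρ (v⁻¹ * w)) = 1 := (q1 _).mpr (mem_center_iff.mpr fun g => by
        conv_lhs => rw [← hρ g]
        conv_rhs => rw [← hρ g]
        rw [← map_mul, ← map_mul, mem_center_iff.mp hm])
      rw [map_mul, map_inv, map_mul, map_inv, inv_mul_eq_one] at hm'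
      exact hm'
    have key : ∀ w : T, q (σ (w ^ 2)) = q (w ^ 2) := fun w => by
      have h : q ((σ w * w) ^ 2) = 1 := by rw [hC, map_one]
      rw [map_pow, map_mul, (show Commute (q (σ w)) (q w) from qc (σ w) w).mul_pow] at h
      rw [map_pow, map_pow, map_pow, eq_inv_of_mul_eq_one_left h, inv_eq_iff_mul_eq_one,
        ← pow_add, ← map_pow, h4, map_one]
    have k1 := key (ρ x)
    rw [← map_pow, hσρ] at k1
    rw [qρ _ _ (qρ _ _ (key x))] at k1
    have k2 := qρ _ _ k1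
    rw [hρ] at k2
    have k3 : q (ρ (x ^ 2)) = q (x ^ 2) := by rw [← k1, ← k2]
    have hh := congrArg q (hn (x ^ 2))
    rw [map_mul, map_mul, k1, k3, map_one] at hh
    have h4' : q (x ^ 2) * q (x ^ 2) = 1 := by
      rw [← map_mul, ← pow_add, h4, map_one]
    rw [h4', one_mul] at hh
    exact (q1 _).mp hh
  have cz : ∀ z x y : T, z ∈ center T → ⁅x * z, y⁆ = ⁅x, y⁆ := fun z x y hz => by
    rw [bil1, commutatorElement_eq_one_iff_commute.mpr
      ((mem_center_iff.mp hz y).symm : Commute z y), mul_one]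
  have hm2 : ∀ x y : T, ⁅x, y⁆ * ⁅x, y⁆ = 1 := fun x y => by
    rw [← bil1]
    have := cz (x ^ 2) 1 y (hsq x)
    rw [one_mul, pow_two] at this
    rw [this, commutatorElement_one_left]
  have hinv : ∀ x y : T, ⁅x, y⁻¹⁆ = ⁅x, y⁆ := fun x y => by
    have h := bil2 x y y⁻¹
    rw [mul_inv_cancel, commutatorElement_one_right] at h
    exact mul_left_cancel (h.symm.trans (hm2 x y).symm)
  have hinv' : ∀ x y : T, ⁅x⁻¹, y⁆ = ⁅x, y⁆ := fun x y => by
    rw [← commutatorElement_inv y x⁻¹, hinv, commutatorElement_inv]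
  -- the elements `C x` commute
  have hCC : ∀ x y : T, Commute (σ x * x) (σ y * y) := by
    intro x y
    have e : σ (x * y) * (x * y) = ⁅σ y, x⁆⁻¹ * ((σ x * x) * (σ y * y)) ∨
        σ (x * y) * (x * y) = ⁅σ y, x⁆ * ((σ x * x) * (σ y * y)) := by
      right
      calc σ (x * y) * (x * y) = σ x * (σ y * x) * y := by rw [map_mul]; group
        _ = σ x * (⁅σ y, x⁆ * (x * σ y)) * y := by
          rw [show ⁅σ y, x⁆ * (x * σ y) = σ y * x by rw [commutatorElement_def]; group]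
        _ = (σ x * ⁅σ y, x⁆) * (x * σ y * y) := by group
        _ = _ := by rw [← (hc (σ y) x (σ x)).eq]; group
    have hC' := hC (x * y)
    have hmm := hm2 (σ y) x
    have e' : σ (x * y) * (x * y) = ⁅σ y, x⁆ * ((σ x * x) * (σ y * y)) := by
      rcases e with e | e
      · rw [e, inv_eq_of_mul_eq_one_left hmm]
      · exact e
    rw [e', (hc (σ y) x _).mul_pow, pow_two ⁅σ y, x⁆, hmm, one_mul] at hC'
    have hu := hC x
    have hv := hC y
    rw [pow_two] at hu hv hC'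
    generalize σ x * x = u at hu hC' ⊢
    generalize σ y * y = v at hv hC' ⊢
    calc u * v = (u * v * (u * v)) * (v⁻¹ * u⁻¹) := by group
      _ = v * u := by rw [hC', one_mul, inv_eq_of_mul_eq_one_left hu, inv_eq_of_mul_eq_one_left hv]
  have hσC : ∀ x w : T, ⁅σ (σ x * x), w⁆ = ⁅σ x * x, w⁆ := fun x w => by
    rw [map_mul, hσ, bil1, bil1]
    exact (hc _ _ _).eq
  have hσC' : ∀ x w : T, ⁅w, σ (σ x * x)⁆ = ⁅w, σ x * x⁆ := fun x w => by
    rw [map_mul, hσ, bil2, bil2]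
    exact (hc _ _ _).eq
  have hρρ : ∀ w : T, ρ (ρ w) = (w * ρ w)⁻¹ := fun w => eq_inv_of_mul_eq_one_right (hn w)
  have hcross : ∀ x y : T, Commute (σ x * x) (ρ (σ y * y)) := by
    intro x y
    rw [← commutatorElement_eq_one_iff_commute]
    have hcd : ⁅σ x * x, σ y * y⁆ = 1 := commutatorElement_eq_one_iff_commute.mpr (hCC x y)
    have hσc := hσC x
    have hσd := hσC' y
    generalize σ x * x = c at hcd hσc ⊢
    generalize σ y * y = d at hcd hσd ⊢
    have m1 : σ ⁅c, ρ d⁆ = ⁅c, ρ d⁆ := by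
      rw [map_commutatorElement, hσc, hσρ]
      have : ⁅c, ρ (ρ (σ d))⁆ = ⁅c, ρ (ρ d)⁆ := by
        have h := congrArg (fun w => ρ (ρ w)) (hσd (ρ c))
        simp only [map_commutatorElement, hρ] at h
        exact h
      rw [this, hρρ, hinv, bil2, hcd, one_mul]
    have m2 : σ (ρ ⁅c, ρ d⁆) = ⁅c, ρ d⁆ := by
      rw [map_commutatorElement, map_commutatorElement, hσρ2, hσρ]
      have h1 : ⁅ρ (ρ (σ c)), ρ (σ d)⁆ = ⁅ρ (ρ c), ρ d⁆ := by
        have h := congrArg (fun w => ρ (ρ w)) (hσc (ρ (ρ (σ d))))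
        have h' := congrArg (fun w => ρ w) (hσd (ρ c))
        simp only [map_commutatorElement, hρ] at h h'
        rw [h, h']
      rw [h1, hρρ, hinv', bil1, ← map_commutatorElement ρ c d, hcd, map_one, mul_one]
    have m3 : ρ (ρ ⁅c, ρ d⁆) = ⁅c, ρ d⁆ := by
      rw [hσρ, m1] at m2; exact m2
    refine hfix _ ?_
    conv_lhs => rw [← m3, hρ]
  -- conclusion
  have hcd := hcross (ρ (ρ a)) a
  have hu := hC (ρ (ρ a))
  have hv : (ρ (σ a * a)) ^ 2 = 1 := by rw [← map_pow, hC, map_one]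
  have hp := hcd.mul_pow 2
  rw [hu, hv, one_mul, hσρ2, map_mul] at hp
  have hrs : ρ (ρ a) * ρ a = a⁻¹ := eq_inv_of_mul_eq_one_right (by rw [← mul_assoc]; exact hn' a)
  have key : ρ (σ a) * ρ (ρ a) * (ρ (σ a) * ρ a) =
      ⁅ρ (σ a), ρ (ρ a)⁆ * (ρ (σ a) ^ 2 * a⁻¹) := by
    rw [← hrs]
    have hz := mem_center_iff.mp (hsq (ρ (σ a))) (ρ (ρ a))
    calc ρ (σ a) * ρ (ρ a) * (ρ (σ a) * ρ a)
        = ⁅ρ (σ a), ρ (ρ a)⁆ * (ρ (ρ a) * ρ (σ a) ^ 2) * ρ a := by
          rw [commutatorElement_def]; group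
      _ = _ := by rw [hz]; group
  rw [key, (hc _ _ _).mul_pow,
    (show Commute (ρ (σ a) ^ 2) a⁻¹ from (mem_center_iff.mp (hsq _) a⁻¹).symm).mul_pow,
    pow_two ⁅ρ (σ a), ρ (ρ a)⁆, hm2, one_mul, ← pow_mul, h4, one_mul, inv_pow, inv_eq_one] at hp
  exact hp

/-! ### The classification -/

section Main

variable {G : Type*} [Group G] [Finite G]

theorem dichotomy (h : Set.range (orderOf : G → ℕ) = {k : ℕ | 1 ≤ k ∧ k ≤ 4}) (g : G) :
    g ^ 4 = 1 ∨ g ^ 3 = 1 := by
  have hg : orderOf g ∈ {k : ℕ | 1 ≤ k ∧ k ≤ 4} := h ▸ Set.mem_range_self g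
  obtain ⟨h1, h2⟩ := hg
  rcases (show orderOf g ∣ 4 ∨ orderOf g ∣ 3 by
    interval_cases (orderOf g) <;> norm_num) with hd | hd
  · exact Or.inl (orderOf_dvd_iff_pow_eq_one.mp hd)
  · exact Or.inr (orderOf_dvd_iff_pow_eq_one.mp hd)

theorem nocomm (h : Set.range (orderOf : G → ℕ) = {k : ℕ | 1 ≤ k ∧ k ≤ 4}) {a b : G}
    (ha : a ^ 4 = 1) (hb : b ^ 3 = 1) (hc : Commute a b) (ha1 : a ≠ 1) : b = 1 := by
  rcases dichotomy h (a * b) with h4 | h3
  · rw [hc.mul_pow, ha, one_mul, show b ^ 4 = b ^ 3 * b by group, hb, one_mul] at h4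
    exact h4
  · rw [hc.mul_pow, hb, mul_one] at h3
    rw [show a ^ 4 = a ^ 3 * a by group, h3, one_mul] at ha
    exact absurd ha ha1

theorem pow_four' (g : G) : g ^ 4 = (g * g) * (g * g) := by
  simp [pow_succ, mul_assoc]

theorem eq_one_of_pow {g : G} (h4 : g ^ 4 = 1) (h3 : g ^ 3 = 1) : g = 1 := by
  rwa [show g ^ 4 = g ^ 3 * g by group, h3, one_mul] at h4

theorem exists_orderOf (h : Set.range (orderOf : G → ℕ) = {k : ℕ | 1 ≤ k ∧ k ≤ 4}) {k : ℕ}
    (h1 : 1 ≤ k) (h4 : k ≤ 4) : ∃ g : G, orderOf g = k := by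
  have : k ∈ Set.range (orderOf : G → ℕ) := by rw [h]; exact ⟨h1, h4⟩
  exact this

theorem prime_le_three (h : Set.range (orderOf : G → ℕ) = {k : ℕ | 1 ≤ k ∧ k ≤ 4}) {p : ℕ}
    (hp : p.Prime) (hd : p ∣ Nat.card G) : p = 2 ∨ p = 3 := by
  haveI := Fact.mk hp
  obtain ⟨g, hg⟩ := exists_prime_orderOf_dvd_card' p hd
  have hk : orderOf g ∈ {k : ℕ | 1 ≤ k ∧ k ≤ 4} := h ▸ Set.mem_range_self g
  have h4 : p ≤ 4 := hg ▸ hk.2
  have h2 := hp.two_le
  interval_cases p <;> simp_all (config := { decide := true })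

theorem card_eq (h : Set.range (orderOf : G → ℕ) = {k : ℕ | 1 ≤ k ∧ k ≤ 4}) :
    ∃ a b, Nat.card G = 2 ^ a * 3 ^ b := by
  have hn : Nat.card G ≠ 0 := Nat.card_pos.ne'
  have hm := Nat.ordCompl_pos 2 hn
  refine ⟨(Nat.card G).factorization 2, (ordCompl[2] (Nat.card G)).primeFactorsList.length, ?_⟩
  conv_lhs => rw [← Nat.ordProj_mul_ordCompl_eq_self (Nat.card G) 2]
  congr 1
  refine Nat.eq_prime_pow_of_unique_prime_dvd hm.ne' fun {d} hd hdd => ?_
  rcases prime_le_three h hd (hdd.trans (Nat.ordCompl_dvd _ _)) with rfl | rfl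
  · exact absurd hdd (Nat.not_dvd_ordCompl Nat.prime_two hn)
  · rfl

theorem solvable (h : Set.range (orderOf : G → ℕ) = {k : ℕ | 1 ≤ k ∧ k ≤ 4}) : Group.IsSolvable G :=
  Cfsg.Lib.Chars.burnside_isSolvable 2 3 Nat.prime_two Nat.prime_three G (card_eq h)

/-- The case of a normal abelian 3-subgroup. -/
theorem caseA (h : Set.range (orderOf : G → ℕ) = {k : ℕ | 1 ≤ k ∧ k ≤ 4}) (V : Subgroup G)
    [V.Normal] (hV : V ≠ ⊥) (hVc : ∀ x ∈ V, ∀ y ∈ V, x * y = y * x) (hV3 : ∀ x ∈ V, x ^ 3 = 1) :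
    ∃ (N : Subgroup G) (_ : N.Normal), Cfsg.IsElementaryAbelian 3 N ∧
      ((IsCyclic (G ⧸ N) ∧ N.index = 4) ∨ Nonempty (G ⧸ N ≃* QuaternionGroup 2)) := by
  obtain ⟨v, hv, hv1⟩ := V.bot_or_exists_ne_one.resolve_left hV
  obtain ⟨f, hf⟩ := exists_orderOf h (k := 4) (by norm_num) le_rfl
  obtain ⟨z, hz⟩ : ∃ z, f ^ 2 = z := ⟨_, rfl⟩
  have hz2 : z * z = 1 := by rw [← hz, ← pow_add]; show f ^ 4 = 1; rw [← hf]; exact pow_orderOf_eq_one f
  have hz1 : z ≠ 1 := fun e => by
    have := orderOf_dvd_of_pow_eq_one (hz.trans e)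
    rw [hf] at this; norm_num at this
  have inverts : ∀ t : G, t * t = 1 → t ≠ 1 → ∀ x ∈ V, t * x * t⁻¹ = x⁻¹ := by
    intro t ht ht1 x hx
    have hm : t * x * t⁻¹ ∈ V := ‹V.Normal›.conj_mem x hx t
    have hc : Commute t (x * (t * x * t⁻¹)) := by
      have e : t * (x * (t * x * t⁻¹)) * t⁻¹ = x * (t * x * t⁻¹) := by
        calc t * (x * (t * x * t⁻¹)) * t⁻¹ = t * x * t⁻¹ * ((t * t) * x * (t * t)⁻¹) := by group
          _ = t * x * t⁻¹ * x := by rw [ht]; group
          _ = _ := hVc _ hm _ hx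
      exact mul_inv_eq_iff_eq_mul.mp e
    exact eq_inv_of_mul_eq_one_right
      (nocomm h (by rw [pow_four' t, ht, one_mul])
        (hV3 _ (V.mul_mem hx hm)) hc ht1)
  obtain ⟨D, hD⟩ : ∃ D : Subgroup G, D = centralizer (V : Set G) := ⟨_, rfl⟩
  haveI hDn : D.Normal := hD ▸ Subgroup.normal_centralizer
  have memD : ∀ d, d ∈ D ↔ ∀ x ∈ V, x * d = d * x := fun d => by
    rw [hD, mem_centralizer_iff]; rfl
  have hd3 : ∀ d ∈ D, d ^ 3 = 1 := fun d hd => by
    rcases dichotomy h d with h4 | h3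
    · by_contra hne
      exact hv1 (nocomm h h4 (hV3 v hv) ((memD d).mp hd v hv).symm fun e => hne (by rw [e, one_pow]))
    · exact h3
  have hzinv : z⁻¹ = z := inv_eq_of_mul_eq_one_left hz2
  have hzD : z ∉ D := fun hm => hz1 (eq_one_of_pow (by
    rw [pow_four' z, hz2, one_mul]) (hd3 z hm))
  have toD : ∀ t : G, t * t = 1 → t ≠ 1 → t * z ∈ D := fun t ht ht1 => by
    rw [memD]
    intro x hx
    have e1 := inverts z hz2 hz1 x hx
    have e2 := inverts t ht ht1 _ (V.inv_mem hx)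
    rw [inv_inv] at e2
    have : t * z * x * (t * z)⁻¹ = x := by
      calc t * z * x * (t * z)⁻¹ = t * (z * x * z⁻¹) * t⁻¹ := by group
        _ = x := by rw [e1, e2]
    exact (mul_inv_eq_iff_eq_mul.mp this).symm
  have hinvD : ∀ d ∈ D, z * d * z⁻¹ = d⁻¹ := by
    intro d hd
    have hsq : (d * z) * (d * z) ∈ D := by
      rw [show d * z * (d * z) = d * (z * d * z⁻¹) * (z * z) by group, hz2, mul_one]
      exact D.mul_mem hd (hDn.conj_mem d hd z)
    rcases dichotomy h (d * z) with h4 | h3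
    · have e : ((d * z) * (d * z)) = 1 := eq_one_of_pow (by
        rw [← pow_two, ← pow_mul, show 2 * 4 = 4 * 2 by norm_num, pow_mul, h4, one_pow]) (hd3 _ hsq)
      rw [hzinv]
      exact eq_inv_of_mul_eq_one_right (by rw [← e]; group)
    · refine absurd ?_ hzD
      have : d * z ∈ D := by
        have e : d * z = (d * z * (d * z)) * (d * z * (d * z)) := by
          calc d * z = (d * z) ^ 3 * (d * z) := by rw [h3, one_mul]
            _ = _ := by simp [pow_succ, mul_assoc]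
        rw [e]; exact D.mul_mem hsq hsq
      simpa using D.mul_mem (D.inv_mem hd) this
  have hDc : ∀ d ∈ D, ∀ e ∈ D, d * e = e * d := by
    intro d hd e he
    have h1 := hinvD _ (D.mul_mem hd he)
    rw [show z * (d * e) * z⁻¹ = (z * d * z⁻¹) * (z * e * z⁻¹) by group, hinvD d hd, hinvD e he,
      mul_inv_rev] at h1
    have := congrArg (·⁻¹) h1
    simpa using this.symm
  have hpow : ∀ q : G ⧸ D, q ^ 4 = 1 := by
    intro q
    induction q using QuotientGroup.induction_on with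
    | _ g =>
    rw [← QuotientGroup.mk_pow, QuotientGroup.eq_one_iff]
    have ht : g * z * g⁻¹ * (g * z * g⁻¹) = 1 := by
      rw [show g * z * g⁻¹ * (g * z * g⁻¹) = g * (z * z) * g⁻¹ by group, hz2]; group
    have ht1 : g * z * g⁻¹ ≠ 1 := fun e => hz1 (conj_eq_one_iff.mp e)
    have hd := toD _ ht ht1
    have hgz : g * z * g⁻¹ = g * z * g⁻¹ * z * z := by rw [mul_assoc _ z z, hz2, mul_one]
    generalize g * z * g⁻¹ * z = d at hd hgz
    have hd3' := hd3 d hd
    have hdz : d⁻¹ * z * d = d * z := by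
      have := hinvD d hd
      rw [hzinv] at this
      calc d⁻¹ * z * d = d⁻¹ * (z * d * z) * (z * z)⁻¹ * z := by group
        _ = d⁻¹ * d⁻¹ * z := by rw [this, hz2]; group
        _ = d * z := by
          congr 1
          rw [← mul_inv_rev, inv_eq_iff_mul_eq_one, ← pow_three']
          exact hd3'
    have hcomm : Commute (d * g) z := by
      show d * g * z = z * (d * g)
      calc d * g * z = d * (g * z * g⁻¹) * g := by group
        _ = d * (d⁻¹ * z * d) * g := by rw [hdz, ← hgz]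
        _ = _ := by group
    rcases dichotomy h (d * g) with h4 | h3
    · rw [← QuotientGroup.eq_one_iff, QuotientGroup.mk_pow]
      have : ((d * g : G) : G ⧸ D) = (g : G ⧸ D) := by
        rw [QuotientGroup.mk_mul, (QuotientGroup.eq_one_iff d).mpr hd, one_mul]
      rw [← this, ← QuotientGroup.mk_pow, h4, QuotientGroup.mk_one]
    · have e := nocomm h (by rw [pow_four' z, hz2, one_mul]) h3
        hcomm.symm hz1
      rw [eq_inv_of_mul_eq_one_right e]
      exact D.pow_mem (D.inv_mem hd) 4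
  haveI : Fact (Nat.Prime 2) := ⟨Nat.prime_two⟩
  have hP : IsPGroup 2 (G ⧸ D) := fun q => ⟨2, by rw [show 2 ^ 2 = 4 by norm_num]; exact hpow q⟩
  have huniq : ∀ x y : G ⧸ D, orderOf x = 2 → orderOf y = 2 → y ∈ zpowers x := by
    have key : ∀ x : G ⧸ D, orderOf x = 2 → x = (z : G ⧸ D) := by
      intro x hx
      induction x using QuotientGroup.induction_on with
      | _ x =>
      obtain ⟨hx2, hxne⟩ := orderOf_eq_prime_iff.mp hx
      rw [← QuotientGroup.mk_pow, QuotientGroup.eq_one_iff] at hx2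
      rw [ne_eq, QuotientGroup.eq_one_iff] at hxne
      have h4 : x ^ 4 = 1 := by
        rcases dichotomy h x with h4 | h3
        · exact h4
        · refine absurd ?_ hxne
          have e : x = x ^ 2 * x ^ 2 := by
            calc x = x ^ 3 * x := by rw [h3, one_mul]
              _ = _ := by group
          rw [e]; exact D.mul_mem hx2 hx2
      have h2 : x ^ 2 = 1 := eq_one_of_pow
        (by rw [← pow_mul, show 2 * 4 = 4 * 2 by norm_num, pow_mul, h4, one_pow]) (hd3 _ hx2)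
      have := toD x (by rwa [pow_two] at h2) fun e => hxne (e ▸ D.one_mem)
      rw [← QuotientGroup.eq_one_iff, QuotientGroup.mk_mul] at this
      rw [eq_inv_of_mul_eq_one_left this, ← QuotientGroup.mk_inv, hzinv]
    intro x y hx hy
    rw [key x hx, key y hy]; exact mem_zpowers _
  have hfz : (f : G ⧸ D) ^ 2 ≠ 1 := by
    rw [← QuotientGroup.mk_pow, hz, ne_eq, QuotientGroup.eq_one_iff]; exact hzD
  have hof : orderOf (f : G ⧸ D) = 4 :=
    orderOf_eq_prime_pow (p := 2) (n := 1) (by simpa using hfz) (by simpa using hpow _)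
  have hEA : Cfsg.IsElementaryAbelian 3 D :=
    ⟨⟨⟨fun a b => Subtype.ext (hDc a a.2 b b.2)⟩⟩, hd3⟩
  refine ⟨D, hDn, hEA, ?_⟩
  rcases Cfsg.Lib.UniqueSub.isCyclic_or_quaternion hP huniq with hcyc | ⟨-, n, ⟨e⟩⟩
  · left
    refine ⟨hcyc, ?_⟩
    obtain ⟨g, hg⟩ := hcyc.exists_ofOrder_eq_natCard
    have h1 : Nat.card (G ⧸ D) ∣ 4 := hg ▸ orderOf_dvd_of_pow_eq_one (hpow g)
    have h2 : 4 ∣ Nat.card (G ⧸ D) := hof ▸ orderOf_dvd_natCard _
    exact Nat.dvd_antisymm h1 h2
  · have hn : n ≤ 1 := by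
      have h1 : orderOf (QuaternionGroup.a 1 : QuaternionGroup (2 ^ n)) ∣ 4 := by
        have := orderOf_dvd_of_pow_eq_one (hpow (e.symm (QuaternionGroup.a 1)))
        rwa [MulEquiv.orderOf_eq] at this
      rw [QuaternionGroup.orderOf_a_one] at h1
      have h2 := Nat.le_of_dvd (by norm_num) h1
      rcases Nat.lt_or_ge n 2 with h3 | h3
      · omega
      · have : 2 ^ 2 ≤ 2 ^ n := Nat.pow_le_pow_right (by norm_num) h3
        omega
    rcases Nat.le_one_iff_eq_zero_or_eq_one.mp hn with rfl | rfl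
    · left
      have hc : Nat.card (G ⧸ D) = 4 := by
        rw [Nat.card_congr e.toEquiv, Nat.card_eq_fintype_card, QuaternionGroup.card]
        norm_num
      exact ⟨isCyclic_of_orderOf_eq_card _ (hof.trans hc.symm), hc⟩
    · exact Or.inr ⟨e⟩

/-- The case without nontrivial normal 3-subgroups. -/
theorem caseB (h : Set.range (orderOf : G → ℕ) = {k : ℕ | 1 ≤ k ∧ k ≤ 4})
    (h3 : ∀ N : Subgroup G, N.Normal → IsPGroup 3 N → N = ⊥) :
    ∃ (N : Subgroup G) (_ : N.Normal),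
      (IsPGroup 2 ↥N ∧ Monoid.exponent ↥N = 4 ∧ Group.nilpotencyClass ↥N ≤ 2 ∧ N.index = 3) ∨
      (Cfsg.IsElementaryAbelian 2 N ∧ Nonempty (G ⧸ N ≃* Equiv.Perm (Fin 3))) := by
  classical
  haveI : Fact (Nat.Prime 2) := ⟨Nat.prime_two⟩
  haveI : Fact (Nat.Prime 3) := ⟨Nat.prime_three⟩
  haveI := solvable h
  obtain ⟨T, hT⟩ : ∃ T : Subgroup G, T = Cfsg.pCore 2 G := ⟨_, rfl⟩
  haveI hTn : T.Normal := hT ▸ (Cfsg.Lib.Components.pCore_normal_and_isPGroup 2).1
  have hTp : IsPGroup 2 T := hT ▸ Cfsg.Lib.Components.isPGroup_pCore 2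
  have hT4 : ∀ x ∈ T, x ^ 4 = 1 := by
    intro x hx
    rcases dichotomy h x with h4 | h3'
    · exact h4
    · obtain ⟨k, hk⟩ := hTp ⟨x, hx⟩
      have hk' : x ^ 2 ^ k = 1 := congrArg Subtype.val hk
      have h1 : orderOf x = 1 := Nat.dvd_one.mp
        ((((by norm_num : Nat.Coprime 2 3).pow_left k)).gcd_eq_one ▸
          Nat.dvd_gcd (orderOf_dvd_of_pow_eq_one hk') (orderOf_dvd_of_pow_eq_one h3'))
      rw [orderOf_eq_one_iff.mp h1, one_pow]
  have hTne : T ≠ ⊥ := by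
    intro e
    obtain ⟨g, hg⟩ := exists_orderOf h (k := 3) (by norm_num) (by norm_num)
    haveI : Nontrivial G := ⟨⟨g, 1, fun e' => by rw [e', orderOf_one] at hg; norm_num at hg⟩⟩
    obtain ⟨N, -, hNn, hNb, hmin⟩ := Cfsg.Lib.Coprime.exists_minimal_normal (K := (⊤ : Subgroup G))
      inferInstance top_ne_bot
    haveI := hNn
    obtain ⟨-, p, hp, hNp, -⟩ := Cfsg.Lib.Coprime.minimal_normal_solvable inferInstance hNb hmin
    haveI := Fact.mk hp
    obtain ⟨k, hk⟩ := IsPGroup.iff_card.mp hNp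
    have hk0 : k ≠ 0 := fun e' => hNb (Subgroup.card_eq_one.mp (by rw [hk, e', pow_zero]))
    rcases prime_le_three h hp ((dvd_pow_self p hk0).trans (hk ▸ card_subgroup_dvd_card N)) with
      rfl | rfl
    · exact hNb (le_bot_iff.mp (e ▸ hT ▸ Cfsg.Lib.Components.le_pCore hNp))
    · exact hNb (h3 N hNn hNp)
  -- the Sylow 3-subgroups have order 3
  obtain ⟨P⟩ : Nonempty (Sylow 3 G) := inferInstance
  have hP3 : ∀ a ∈ (P : Subgroup G), a ^ 3 = 1 := by
    intro a ha
    rcases dichotomy h a with h4 | h3'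
    · obtain ⟨k, hk⟩ := P.isPGroup' ⟨a, ha⟩
      have hk' : a ^ 3 ^ k = 1 := congrArg Subtype.val hk
      have h1 : orderOf a = 1 := Nat.dvd_one.mp
        ((((by norm_num : Nat.Coprime 3 4).pow_left k)).gcd_eq_one ▸
          Nat.dvd_gcd (orderOf_dvd_of_pow_eq_one hk') (orderOf_dvd_of_pow_eq_one h4))
      rw [orderOf_eq_one_iff.mp h1, one_pow]
    · exact h3'
  have hfpf : Cfsg.Lib.Frobenius.Fpf (P : Subgroup G) T := by
    intro a ha ha1
    rw [eq_bot_iff]
    rintro x ⟨hxT, hxc⟩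
    by_contra hx1
    exact ha1 (nocomm h (hT4 x hxT) (hP3 a ha) (mem_centralizer_singleton_iff.mp hxc) hx1)
  have hPn : (P : Subgroup G) ≤ normalizer (T : Set G) := by
    rw [Subgroup.normalizer_eq_top T]; exact le_top
  have hcardP : Nat.card (P : Subgroup G) ∣ 3 := by
    rcases hfpf.isCyclic_or_quaternion hPn hTne P.isPGroup' with hcy | ⟨h32, -⟩
    · obtain ⟨g, hg⟩ := hcy.exists_ofOrder_eq_natCard
      rw [← hg]
      exact orderOf_dvd_of_pow_eq_one (Subtype.ext (hP3 g g.2))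
    · norm_num at h32
  have h9 : ¬ 9 ∣ Nat.card G := fun h9 => by
    have : 9 ∣ Nat.card (P : Subgroup G) := P.pow_dvd_card_of_pow_dvd_card (n := 2) h9
    exact absurd (this.trans hcardP) (by norm_num)
  -- the normal subgroup of order `3|T|`
  obtain ⟨g3, hg3⟩ := exists_orderOf h (k := 3) (by norm_num) (by norm_num)
  have hg3T : g3 ∉ T := fun hm => by
    have e := eq_one_of_pow (hT4 g3 hm) (by rw [← hg3]; exact pow_orderOf_eq_one g3)
    rw [e, orderOf_one] at hg3; norm_num at hg3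
  haveI : Nontrivial (G ⧸ T) :=
    ⟨⟨g3, 1, fun e => hg3T ((QuotientGroup.eq_one_iff g3).mp e)⟩⟩
  haveI : Group.IsSolvable (G ⧸ T) :=
    Group.isSolvable_of_surjective (QuotientGroup.mk'_surjective T)
  obtain ⟨Mb, -, hMbn, hMbb, hMbmin⟩ := Cfsg.Lib.Coprime.exists_minimal_normal
    (K := (⊤ : Subgroup (G ⧸ T))) inferInstance top_ne_bot
  haveI := hMbn
  obtain ⟨-, p, hp, hMbp, -⟩ := Cfsg.Lib.Coprime.minimal_normal_solvable inferInstance hMbb hMbmin
  haveI := Fact.mk hp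
  obtain ⟨k, hk⟩ := IsPGroup.iff_card.mp hMbp
  have hk0 : k ≠ 0 := fun e' => hMbb (Subgroup.card_eq_one.mp (by rw [hk, e', pow_zero]))
  obtain ⟨M, hM⟩ : ∃ M : Subgroup G, M = Mb.comap (QuotientGroup.mk' T) := ⟨_, rfl⟩
  haveI hMn : M.Normal := hM ▸ hMbn.comap _
  have hcardM : Nat.card M = Nat.card Mb * Nat.card T := by
    rw [hM, Cfsg.Lib.Coprime.card_comap_mk', mul_comm]
  have hp3 : p = 3 := by
    rcases prime_le_three h hp ((dvd_pow_self p hk0).trans
      ((hk ▸ card_subgroup_dvd_card Mb).trans (T.card_quotient_dvd_card))) with rfl | rfl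
    · exfalso
      have hMp : IsPGroup 2 M := by
        obtain ⟨j, hj⟩ := IsPGroup.iff_card.mp hTp
        exact IsPGroup.of_card (n := k + j) (by rw [hcardM, hk, hj, pow_add])
      have hle : M ≤ T := hT ▸ Cfsg.Lib.Components.le_pCore hMp
      refine hMbb (eq_bot_iff.mpr fun q hq => ?_)
      induction q using QuotientGroup.induction_on with
      | _ g => exact (QuotientGroup.eq_one_iff g).mpr (hle (hM ▸ hq))
    · rfl
  subst hp3
  have hcard3 : Nat.card Mb = 3 := by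
    rcases (show k = 1 ∨ 2 ≤ k by omega) with rfl | hk2
    · rw [hk, pow_one]
    · refine absurd ?_ h9
      calc (9 : ℕ) ∣ 3 ^ k := (show 9 = 3 ^ 2 by norm_num) ▸ pow_dvd_pow 3 hk2
        _ ∣ Nat.card (G ⧸ T) := hk ▸ card_subgroup_dvd_card Mb
        _ ∣ Nat.card G := T.card_quotient_dvd_card
  rw [hcard3] at hcardM
  have hTM : T ≤ M := fun t ht => by
    rw [hM, mem_comap, QuotientGroup.mk'_apply, (QuotientGroup.eq_one_iff t).mpr ht]
    exact one_mem _
  have memM : ∀ {g}, g ∈ M ↔ (g : G ⧸ T) ∈ Mb := fun {g} => by rw [hM]; rfl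
  have hMb3 : ∀ q ∈ Mb, q ^ 3 = 1 := fun q hq => by
    rw [← hcard3]; exact congrArg Subtype.val (pow_card_eq_one' (x := (⟨q, hq⟩ : Mb)))
  have outT : ∀ z ∈ M, z ∉ T → z ^ 3 = 1 := by
    intro z hzM hzT
    rcases dichotomy h z with h4 | h3'
    · refine absurd ((QuotientGroup.eq_one_iff z).mp ?_) hzT
      exact eq_one_of_pow (G := G ⧸ T) (by rw [← QuotientGroup.mk_pow, h4, QuotientGroup.mk_one])
        (hMb3 _ (memM.mp hzM))
    · exact h3'
  obtain ⟨y, hyM, hyT⟩ : ∃ y ∈ M, y ∉ T := by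
    by_contra hcon
    push_neg at hcon
    have := Subgroup.card_le_of_le (show M ≤ T from hcon)
    have := Nat.card_pos (α := T)
    omega
  have hy3 : y ^ 3 = 1 := outT y hyM hyT
  have hy1 : y ≠ 1 := fun e => hyT (e ▸ T.one_mem)
  have decM : ∀ g ∈ M, g ∈ T ∨ g * y⁻¹ ∈ T ∨ g * y ∈ T := by
    intro g hg
    haveI : Fintype Mb := Fintype.ofFinite _
    have ho : orderOf (⟨(y : G ⧸ T), memM.mp hyM⟩ : Mb) = 3 := by
      refine orderOf_eq_prime (Subtype.ext (hMb3 _ (memM.mp hyM))) fun e => hyT ?_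
      exact (QuotientGroup.eq_one_iff y).mp (congrArg Subtype.val e)
    have htop : zpowers (⟨(y : G ⧸ T), memM.mp hyM⟩ : Mb) = ⊤ :=
      Subgroup.eq_top_of_card_eq _ (by rw [Nat.card_zpowers, ho, hcard3])
    have hg' : (⟨(g : G ⧸ T), memM.mp hg⟩ : Mb) ∈ zpowers (⟨(y : G ⧸ T), memM.mp hyM⟩ : Mb) := by
      rw [htop]; exact mem_top _
    rw [← mem_powers_iff_mem_zpowers, mem_powers_iff_mem_range_orderOf, ho] at hg'
    simp only [Finset.mem_image, Finset.mem_range] at hg'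
    obtain ⟨i, hi, hi'⟩ := hg'
    have e : ((y ^ i : G) : G ⧸ T) = (g : G ⧸ T) := by
      rw [QuotientGroup.mk_pow]; exact congrArg Subtype.val hi'
    have hmem : g * (y ^ i)⁻¹ ∈ T := by
      rw [← QuotientGroup.eq_one_iff, QuotientGroup.mk_mul, QuotientGroup.mk_inv, e, mul_inv_cancel]
    interval_cases i
    · left; simpa using hmem
    · right; left; simpa using hmem
    · right; right
      rwa [inv_eq_of_mul_eq_one_right (show y ^ 2 * y = 1 by rw [← pow_succ]; exact hy3)] at hmem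
  -- norm relations
  have norm : ∀ z ∈ M, z ∉ T → ∀ a ∈ T, a * (z * a * z⁻¹) * (z * z * a * (z * z)⁻¹) = 1 := by
    intro z hzM hzT a ha
    have h3' := outT z hzM hzT
    have haz := outT (a * z) (M.mul_mem (hTM ha) hzM) fun hm =>
      hzT (by simpa using T.mul_mem (T.inv_mem ha) hm)
    calc a * (z * a * z⁻¹) * (z * z * a * (z * z)⁻¹) = (a * z) ^ 3 * (z ^ 3)⁻¹ := by
          simp [pow_succ, mul_assoc]
      _ = 1 := by rw [haz, h3', inv_one, mul_one]
  have norm' : ∀ z ∈ M, z ∉ T → ∀ a ∈ T, a * (z * z * a * (z * z)⁻¹) * (z * a * z⁻¹) = 1 := by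
    intro z hzM hzT a ha
    have h3' := outT z hzM hzT
    have hzz : z * z = z⁻¹ := eq_inv_of_mul_eq_one_left (by rw [← pow_three']; exact h3')
    have h1 := norm z⁻¹ (M.inv_mem hzM) (fun hm => hzT (by simpa using T.inv_mem hm)) a ha
    rw [← hzz, show z * z * (z * z) = z ^ 3 * z by simp [pow_succ, mul_assoc], h3', one_mul] at h1
    exact h1
  have engel : ∀ a ∈ T, ∀ w ∈ T, Commute a (w * a * w⁻¹) := by
    intro a ha w hw
    have cz : ∀ z ∈ M, z ∉ T → Commute a (z * a * z⁻¹) := fun z hzM hzT => by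
      have e1 := norm z hzM hzT a ha
      have e2 := norm' z hzM hzT a ha
      generalize z * a * z⁻¹ = A at e1 e2 ⊢
      generalize z * z * a * (z * z)⁻¹ = B at e1 e2 ⊢
      have hAB : A * B = B * A := mul_left_cancel (a := a) (by
        rw [← mul_assoc, ← mul_assoc, e1, e2])
      rw [mul_assoc] at e1
      rw [eq_inv_of_mul_eq_one_left e1]
      refine Commute.inv_left ?_
      exact (Commute.refl A).mul_left (Commute.symm hAB)
    have hyw : ∀ j : G, j ∈ M → j ∉ T → Commute a (j * (w * a * w⁻¹) * j⁻¹) := fun j hj hjT => by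
      have := cz (j * w) (M.mul_mem hj (hTM hw)) fun hm =>
        hjT (by simpa using T.mul_mem hm (T.inv_mem hw))
      rwa [show j * w * a * (j * w)⁻¹ = j * (w * a * w⁻¹) * j⁻¹ by group] at this
    have hy2T : y * y ∉ T := fun hm => hyT (by
      have e : y = (y * y) * (y * y) := by
        calc y = y ^ 3 * y := by rw [hy3, one_mul]
          _ = _ := by simp [pow_succ, mul_assoc]
      rw [e]; exact T.mul_mem hm hm)
    have e := norm y hyM hyT _ (hTn.conj_mem a ha w)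
    rw [mul_assoc] at e
    rw [eq_inv_of_mul_eq_one_left e]
    exact ((hyw y hyM hyT).mul_right (hyw (y * y) (M.mul_mem hyM hyM) hy2T)).inv_right
  have hTEngel : ∀ a w : T, Commute a (w * a * w⁻¹) :=
    fun a w => Subtype.ext (engel a a.2 w w.2).eq
  have hT3 : ∀ g : T, g ^ 3 = 1 → g = 1 := fun g hg =>
    Subtype.ext (eq_one_of_pow (hT4 g g.2) (congrArg Subtype.val hg))
  have hcl := engel_class_two hTEngel hT3
  haveI : Group.IsNilpotent T := hTp.isNilpotent
  have hclass : Group.nilpotencyClass T ≤ 2 := by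
    rw [← Subgroup.lowerCentralSeries_eq_bot_iff_nilpotencyClass_le]
    refine Subgroup.lowerCentralSeries_succ_eq_bot _ ?_
    rw [top_lowerCentralSeries_one, commutator_def, commutator_le]
    intro a _ b _
    exact mem_center_iff.mpr fun c => ((hcl a b c).eq).symm
  -- Frattini
  have conjT : ∀ z ∈ M, z ∉ T → ∀ t ∈ T, ∃ s ∈ T, s * z * s⁻¹ = t * z := by
    intro z hzM hzT t ht
    let φ : T → T := fun s =>
      ⟨(s : G) * (z * (s : G)⁻¹ * z⁻¹), T.mul_mem s.2 (hTn.conj_mem _ (T.inv_mem s.2) z)⟩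
    have hinj : Function.Injective φ := by
      intro s s' e
      have e' : (s : G) * (z * (s : G)⁻¹ * z⁻¹) = (s' : G) * (z * (s' : G)⁻¹ * z⁻¹) :=
        congrArg Subtype.val e
      apply Subtype.ext
      by_contra hne
      refine hzT ?_
      have hcomm : Commute ((s' : G)⁻¹ * s) z := by
        show (s' : G)⁻¹ * s * z = z * ((s' : G)⁻¹ * s)
        calc (s' : G)⁻¹ * s * z = (s' : G)⁻¹ * ((s : G) * (z * (s : G)⁻¹ * z⁻¹)) * z * s := by group
          _ = _ := by rw [e']; group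
      have := nocomm h (hT4 _ (T.mul_mem (T.inv_mem s'.2) s.2)) (outT z hzM hzT) hcomm
        (fun e0 => hne (inv_mul_eq_one.mp e0).symm)
      rw [this]; exact T.one_mem
    obtain ⟨s, hs⟩ := (Finite.injective_iff_surjective.mp hinj) ⟨t, ht⟩
    refine ⟨s, s.2, ?_⟩
    have hs' : (s : G) * (z * (s : G)⁻¹ * z⁻¹) = t := congrArg Subtype.val hs
    rw [← hs']; group
  have order3 : ∀ g : G, g ^ 3 = 1 → g ∈ M := by
    intro g hg
    rw [← QuotientGroup.eq_one_iff]
    have hidx : ∃ j, M.index = 2 ^ j := by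
      obtain ⟨a, b, hab⟩ := card_eq h
      have hmul := M.card_mul_index
      obtain ⟨t, ht'⟩ := IsPGroup.iff_card.mp hTp
      rw [hcardM, ht', hab] at hmul
      have hb : b ≤ 1 := by
        by_contra hb
        refine h9 (hab ▸ Dvd.dvd.mul_left ?_ _)
        exact (show 9 = 3 ^ 2 by norm_num) ▸ pow_dvd_pow 3 (by omega)
      have hdvd : M.index ∣ 2 ^ a := by
        interval_cases b
        · exact ⟨3 * 2 ^ t, by rw [pow_zero, mul_one] at hmul; rw [← hmul]; ring⟩
        · refine ⟨2 ^ t, Nat.eq_of_mul_eq_mul_left (show 0 < 3 by norm_num) ?_⟩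
          rw [pow_one] at hmul
          rw [mul_comm 3 (2 ^ a), ← hmul]; ring
      obtain ⟨j, -, hj⟩ := (Nat.dvd_prime_pow Nat.prime_two).mp hdvd
      exact ⟨j, hj⟩
    obtain ⟨j, hj⟩ := hidx
    have h1 : orderOf (g : G ⧸ M) ∣ 2 ^ j := hj ▸ orderOf_dvd_natCard _
    have h2 : orderOf (g : G ⧸ M) ∣ 3 :=
      orderOf_dvd_of_pow_eq_one (by rw [← QuotientGroup.mk_pow, hg, QuotientGroup.mk_one])
    exact orderOf_eq_one_iff.mp (Nat.dvd_one.mp
      ((((by norm_num : Nat.Coprime 2 3).pow_left j)).gcd_eq_one ▸ Nat.dvd_gcd h1 h2))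
  have hCy : ∀ g : G, Commute g y → g ∈ M ∧ (g = 1 ∨ g * y⁻¹ = 1 ∨ g * y = 1) := by
    intro g hg
    have hg3' : g ^ 3 = 1 := by
      rcases dichotomy h g with h4 | h3'
      · by_contra hne
        exact hy1 (nocomm h h4 hy3 hg fun e => hne (by rw [e, one_pow]))
      · exact h3'
    refine ⟨order3 g hg3', ?_⟩
    have key : ∀ w ∈ T, Commute w y → w = 1 := fun w hw hwy => by
      by_contra hne; exact hy1 (nocomm h (hT4 w hw) hy3 hwy hne)
    rcases decM g (order3 g hg3') with hm | hm | hm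
    · exact Or.inl (key g hm hg)
    · exact Or.inr (Or.inl (key _ hm (hg.mul_left (Commute.refl y).inv_left)))
    · exact Or.inr (Or.inr (key _ hm (hg.mul_left (Commute.refl y))))
  have frat : ∀ g : G, g ∈ M ∨ ∃ s ∈ T, (s * g) * y * (s * g)⁻¹ = y⁻¹ := by
    intro g
    have hm : g * y * g⁻¹ ∈ M := hMn.conj_mem y hyM g
    have hgT : g * y * g⁻¹ ∉ T := fun hm' => hyT (by simpa [mul_assoc] using hTn.conj_mem _ hm' g⁻¹)
    rcases decM _ hm with hc | hc | hc
    · exact absurd hc hgT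
    · left
      obtain ⟨s, hs, hse⟩ := conjT y hyM hyT _ hc
      rw [inv_mul_cancel_right] at hse
      have : Commute (s⁻¹ * g) y := by
        show s⁻¹ * g * y = y * (s⁻¹ * g)
        calc s⁻¹ * g * y = s⁻¹ * (g * y * g⁻¹) * g := by group
          _ = _ := by rw [← hse]; group
      simpa using M.mul_mem (hTM hs) (hCy _ this).1
    · right
      have hyi : y⁻¹ ∉ T := fun hm' => hyT (by simpa using T.inv_mem hm')
      obtain ⟨s, hs, hse⟩ := conjT y⁻¹ (M.inv_mem hyM) hyi _ hc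
      rw [mul_inv_cancel_right] at hse
      refine ⟨s⁻¹, T.inv_mem hs, ?_⟩
      calc s⁻¹ * g * y * (s⁻¹ * g)⁻¹ = s⁻¹ * (g * y * g⁻¹) * s := by group
        _ = _ := by rw [← hse]; group
  refine ⟨T, hTn, ?_⟩
  by_cases hu : ∃ u : G, u * y * u⁻¹ = y⁻¹
  · right
    obtain ⟨u, hu⟩ := hu
    have hyne : y⁻¹ ≠ y := fun e => hy1 (by
      have : y * y = 1 := by nth_rw 1 [← e]; exact inv_mul_cancel y
      rwa [pow_three, this, mul_one] at hy3)
    have huu : Commute (u * u) y := by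
      show u * u * y = y * (u * u)
      calc u * u * y = u * (u * y * u⁻¹) * u := by group
        _ = u * y⁻¹ * u := by rw [hu]
        _ = (u * y * u⁻¹)⁻¹ * u * u := by group
        _ = _ := by rw [hu, inv_inv, mul_assoc]
    have hu4 : u ^ 4 = 1 := by
      rcases dichotomy h u with h4 | h3'
      · exact h4
      · refine absurd ?_ hyne
        have hc : Commute u y := by
          have := huu.mul_left huu
          rwa [show u * u * (u * u) = u ^ 3 * u by simp [pow_succ, mul_assoc], h3', one_mul] at this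
        rw [← hu, hc.eq, mul_inv_cancel_right]
    have hu2 : u * u = 1 := by
      by_contra hne
      refine hy1 (nocomm h ?_ hy3 huu hne)
      rw [← pow_two, ← pow_mul, show 2 * 4 = 4 * 2 by norm_num, pow_mul, hu4, one_pow]
    have huinv : u⁻¹ = u := inv_eq_of_mul_eq_one_left hu2
    have huM : u ∉ M := by
      intro hm
      rcases decM u hm with hc | hc | hc
      all_goals
        by_cases huT : u ∈ T
        · have h1 : u * y * u⁻¹ * y⁻¹ ∈ T := by
            rw [show u * y * u⁻¹ * y⁻¹ = u * (y * u⁻¹ * y⁻¹) by group]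
            exact T.mul_mem huT (hTn.conj_mem _ (T.inv_mem huT) y)
          rw [hu] at h1
          refine hyT ?_
          have e : y⁻¹ * y⁻¹ = y := by
            calc y⁻¹ * y⁻¹ = (y ^ 3)⁻¹ * y := by group
              _ = y := by rw [hy3, inv_one, one_mul]
          rwa [e] at h1
        · have h3' := outT u hm huT
          exact huT ((eq_one_of_pow hu4 h3').symm ▸ T.one_mem)
    have hidx2 : M.index = 2 := by
      rw [index_eq_two_iff]
      refine ⟨u, fun g => ?_⟩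
      by_cases hg : g ∈ M
      · exact Or.inr ⟨hg, fun hgu => huM (by simpa using M.mul_mem (M.inv_mem hg) hgu)⟩
      · refine Or.inl ⟨?_, hg⟩
        rcases frat g with hg' | ⟨s, hs, hse⟩
        · exact absurd hg' hg
        · have hc : Commute (s * g * u) y := by
            show s * g * u * y = y * (s * g * u)
            calc s * g * u * y = s * g * (u * y * u⁻¹) * u := by group
              _ = (s * g * y * (s * g)⁻¹)⁻¹ * (s * g) * u := by rw [hu]; group
              _ = _ := by rw [hse, inv_inv]; group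
          simpa [mul_assoc] using M.mul_mem (M.inv_mem (hTM hs)) (hCy _ hc).1
    -- `T` is elementary abelian
    let σ : T →* T := (MulAut.conjNormal u).toMonoidHom
    let ρ : T →* T := (MulAut.conjNormal y).toMonoidHom
    have cσ : ∀ x : T, ((σ x : T) : G) = u * (x : G) * u⁻¹ := fun x => MulAut.conjNormal_apply u x
    have cρ : ∀ x : T, ((ρ x : T) : G) = y * (x : G) * y⁻¹ := fun x => MulAut.conjNormal_apply y x
    have hsq2 : ∀ x : T, x ^ 2 = 1 := by
      refine sq_eq_one hcl (fun a => Subtype.ext (hT4 a a.2)) σ ρ ?_ ?_ ?_ ?_ ?_ ?_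
      · intro x; apply Subtype.ext; rw [cσ, cσ]
        calc u * (u * (x : G) * u⁻¹) * u⁻¹ = (u * u) * x * (u * u)⁻¹ := by group
          _ = _ := by rw [hu2, inv_one, one_mul, mul_one]
      · intro x; apply Subtype.ext; rw [cρ, cρ, cρ]
        calc y * (y * (y * (x : G) * y⁻¹) * y⁻¹) * y⁻¹ = y ^ 3 * x * (y ^ 3)⁻¹ := by
              simp [pow_succ, mul_assoc]
          _ = _ := by rw [hy3, inv_one, one_mul, mul_one]
      · intro x; apply Subtype.ext; rw [cσ, cρ, cρ, cρ, cσ]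
        have e : u * y = y * y * u := by
          calc u * y = u * y * u⁻¹ * u := by group
            _ = (y ^ 3)⁻¹ * (y * y) * u := by rw [hu]; group
            _ = _ := by rw [hy3, inv_one, one_mul]
        calc u * (y * (x : G) * y⁻¹) * u⁻¹ = (u * y) * x * (u * y)⁻¹ := by group
          _ = _ := by rw [e]; group
      · intro x; apply Subtype.ext
        simp only [Subgroup.coe_mul, Subgroup.coe_one, cρ]
        have := norm y hyM hyT x x.2
        rw [← this]; group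
      · intro x; apply Subtype.ext
        simp only [Subgroup.coe_mul, Subgroup.coe_one, cρ]
        have := norm' y hyM hyT x x.2
        rw [← this]; group
      · intro x; apply Subtype.ext
        rw [SubmonoidClass.coe_pow, Subgroup.coe_mul, cσ, Subgroup.coe_one]
        rcases dichotomy h (u * (x : G)) with h4 | h3'
        · calc (u * (x : G) * u⁻¹ * x) ^ 2 = (u * x * (u * x)) ^ 2 := by rw [huinv]; group
            _ = 1 := by rw [← pow_two, ← pow_mul]; exact h4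
        · exact absurd (by simpa using M.mul_mem (order3 _ h3') (M.inv_mem (hTM x.2))) huM
    have hEA : Cfsg.IsElementaryAbelian 2 T := by
      refine ⟨⟨⟨fun a b => ?_⟩⟩, fun a ha => congrArg Subtype.val (hsq2 ⟨a, ha⟩)⟩
      have h1 := hsq2 (a * b)
      have ha := hsq2 a
      have hb := hsq2 b
      rw [pow_two] at h1 ha hb
      calc a * b = (a * b * (a * b)) * (b⁻¹ * a⁻¹) := by group
        _ = b * a := by rw [h1, one_mul, inv_eq_of_mul_eq_one_left ha, inv_eq_of_mul_eq_one_left hb]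
    refine ⟨hEA, ?_⟩
    -- the quotient
    obtain ⟨H, hH⟩ : ∃ H : Subgroup G, H = T ⊔ zpowers u := ⟨_, rfl⟩
    have hu1 : u ≠ 1 := fun e => huM (e ▸ M.one_mem)
    have hou : orderOf u = 2 := orderOf_eq_prime (by rw [pow_two, hu2]) hu1
    have hcardH : Nat.card H = 2 * Nat.card T := by
      have h1 : Nat.card H ∣ Nat.card T * 2 := by
        rw [hH, ← hou, ← Nat.card_zpowers]; exact Cfsg.Lib.Components.card_sup_dvd_mul T _
      obtain ⟨c, hc⟩ : Nat.card T ∣ Nat.card H := card_dvd_of_le (hH ▸ le_sup_left)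
      rw [hc] at h1
      have hc2 : c ∣ 2 := Nat.dvd_of_mul_dvd_mul_left Nat.card_pos h1
      rcases (Nat.dvd_prime Nat.prime_two).mp hc2 with rfl | rfl
      · exfalso
        have heq : T = H := Subgroup.eq_of_le_of_card_ge (hH ▸ le_sup_left) (by rw [hc, mul_one])
        exact huM (hTM (heq ▸ hH ▸ mem_sup_right (mem_zpowers u)))
      · rw [hc, mul_comm]
    have hcardG : Nat.card G = 6 * Nat.card T := by
      rw [← M.card_mul_index, hidx2, hcardM]; ring
    have hHidx : H.index = 3 := by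
      have := H.card_mul_index
      rw [hcardH, hcardG] at this
      have := Nat.card_pos (α := T)
      nlinarith
    let φ : G →* Equiv.Perm (Fin 3) :=
      ((Finite.equivFinOfCardEq (α := G ⧸ H) hHidx).permCongrHom.toMonoidHom).comp
        (MulAction.toPermHom G (G ⧸ H))
    have hker : φ.ker = T := by
      have hk1 : φ.ker = H.normalCore := by
        rw [Subgroup.normalCore_eq_ker]
        ext g
        simp [φ, MonoidHom.mem_ker]
      rw [hk1]
      refine le_antisymm ?_ ((Subgroup.normal_le_normalCore).mpr (hH ▸ le_sup_left))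
      have hHp : IsPGroup 2 H := by
        obtain ⟨j, hj⟩ := IsPGroup.iff_card.mp hTp
        exact IsPGroup.of_card (n := j + 1) (by rw [hcardH, hj, pow_succ]; ring)
      exact hT ▸ Cfsg.Lib.Components.le_pCore (hHp.to_le (normalCore_le H))
    have hsurj : Function.Surjective φ := by
      rw [← MonoidHom.range_eq_top]
      apply Subgroup.eq_top_of_card_eq
      rw [← Subgroup.index_ker, hker]
      have := T.card_mul_index
      rw [hcardG] at this
      have h6 : Nat.card (Equiv.Perm (Fin 3)) = 6 := by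
        rw [Nat.card_eq_fintype_card, Fintype.card_perm]; rfl
      rw [h6]
      have := Nat.card_pos (α := T)
      nlinarith
    exact ⟨(QuotientGroup.quotientMulEquivOfEq hker.symm).trans
      (QuotientGroup.quotientKerEquivOfSurjective φ hsurj)⟩
  · left
    have hMtop : M = ⊤ := eq_top_iff.mpr fun g _ => by
      rcases frat g with hg | ⟨s, -, hse⟩
      · exact hg
      · exact absurd ⟨_, hse⟩ hu
    refine ⟨hTp, ?_, hclass, ?_⟩
    · apply Nat.dvd_antisymm
      · exact Monoid.exponent_dvd_of_forall_pow_eq_one fun g => Subtype.ext (hT4 g g.2)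
      · obtain ⟨f, hf⟩ := exists_orderOf h (k := 4) (by norm_num) le_rfl
        have hfT : f ∈ T := by
          by_contra hfT
          have := orderOf_dvd_of_pow_eq_one (outT f (hMtop ▸ mem_top f) hfT)
          rw [hf] at this; norm_num at this
        have := Monoid.order_dvd_exponent (⟨f, hfT⟩ : T)
        rwa [Subgroup.orderOf_mk, hf] at this
    · have h1 := T.card_mul_index
      rw [hMtop, Subgroup.card_top] at hcardM
      rw [hcardM] at h1
      have := Nat.card_pos (α := T)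
      nlinarith

theorem main (h : Set.range (orderOf : G → ℕ) = {k : ℕ | 1 ≤ k ∧ k ≤ 4}) :
    ∃ (N : Subgroup G) (_ : N.Normal),
      (IsPGroup 2 ↥N ∧ Monoid.exponent ↥N = 4 ∧ Group.nilpotencyClass ↥N ≤ 2 ∧ N.index = 3) ∨
      (Cfsg.IsElementaryAbelian 2 N ∧ Nonempty (G ⧸ N ≃* Equiv.Perm (Fin 3))) ∨
      (Cfsg.IsElementaryAbelian 3 N ∧
        ((IsCyclic (G ⧸ N) ∧ N.index = 4) ∨ Nonempty (G ⧸ N ≃* QuaternionGroup 2))) := by
  haveI := solvable h
  by_cases h3 : ∀ N : Subgroup G, N.Normal → IsPGroup 3 N → N = ⊥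
  · obtain ⟨N, hN, hc⟩ := caseB h h3
    exact ⟨N, hN, hc.elim Or.inl fun hc => Or.inr (Or.inl hc)⟩
  · push_neg at h3
    obtain ⟨K, hKn, hKp, hKb⟩ := h3
    obtain ⟨V, hVK, hVn, hVb, hmin⟩ := Cfsg.Lib.Coprime.exists_minimal_normal hKn hKb
    haveI := hVn
    obtain ⟨hcomm, p, hp, hVp, hpow⟩ :=
      Cfsg.Lib.Coprime.minimal_normal_solvable inferInstance hVb hmin
    have hV3 : ∀ x ∈ V, x ^ 3 = 1 := by
      intro x hx
      obtain ⟨k, hk⟩ := hKp ⟨x, hVK hx⟩
      have hk' : x ^ 3 ^ k = 1 := congrArg Subtype.val hk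
      rcases dichotomy h x with h4 | h3'
      · have h1 : orderOf x = 1 := Nat.dvd_one.mp
          ((((by norm_num : Nat.Coprime 3 4).pow_left k)).gcd_eq_one ▸
            Nat.dvd_gcd (orderOf_dvd_of_pow_eq_one hk') (orderOf_dvd_of_pow_eq_one h4))
        rw [orderOf_eq_one_iff.mp h1, one_pow]
      · exact h3'
    have hVc : ∀ x ∈ V, ∀ y ∈ V, x * y = y * x := fun x hx y hy =>
      congrArg Subtype.val (hcomm.is_comm.comm ⟨x, hx⟩ ⟨y, hy⟩)
    obtain ⟨N, hN, hc⟩ := caseA h V hVb hVc hV3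
    exact ⟨N, hN, Or.inr (Or.inr hc)⟩

end Main

end Cfsg.Lib.OrdersOneFour
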