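import Cfsg.Agent.Small.OrderSieve
import Cfsg.Agent.S3278
import Cfsg.Agent.S0992

/-!
# No simple group of order `87780 = 2² · 3 · 5 · 7 · 11 · 19`
-/

set_option autoImplicit false

namespace Cfsg.Lib.Small.Order87780

open MulAction Cfsg.Lib.Chars
open Cfsg.Lib.Blocks Cfsg.Lib.Blocks.SmallOrder Cfsg.Lib.Blocks.SylowCount Cfsg.Lib.Blocks.DegreeEquation
open scoped Pointwise

universe u

theorem prime19 : Nat.Prime 19 := by norm_num

instance : Fact (Nat.Prime 19) := ⟨prime19⟩

theorem sylow_options : ((List.range 4621).all fun n =>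
    !(decide (4620 % n = 0 ∧ n % 19 = 1)) || [1, 20, 77, 210, 1540].contains n) = true := by
  decide +kernel

theorem exceptional_table : (let A := terms 19 4620 87780 1 297 3
    let L := terms 19 4620 87780 1 297 1
    L.all fun z => L.all fun w => !A.contains (1 + (z + w)) ||
      decide (121 ≤ (1 + (z + w)).natAbs)) = true := by
  decide +kernel

variable {G : Type u} [Group G] [Finite G] [IsSimpleGroup G]

section

variable (hnc : ¬ ∀ a b : G, a * b = b * a) (hG : Nat.card G = 87780) (P : Sylow 19 G)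
include hnc hG

omit [IsSimpleGroup G] hnc in
theorem card_P : Nat.card ↥(P : Subgroup G) = 19 :=
  (card_sylow_of_factor P (a := 1) (m := 4620) (by rw [hG]; norm_num) (by norm_num)).trans (pow_one _)

omit [IsSimpleGroup G] hnc in
theorem dvd_G : 19 ∣ Nat.card G := by rw [hG]; norm_num

omit [IsSimpleGroup G] hnc in
theorem card_normalizer {n : ℕ} (hn : Nat.card (Sylow 19 G) = n) :
    Nat.card ↥(Subgroup.normalizer ((P : Subgroup G) : Set G)) * n = 87780 := by
  rw [← hn, card_normalizer_mul P, hG]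

omit [IsSimpleGroup G] hnc in
theorem exists_centralizing {r : ℕ} (hr : r.Prime) (hcop : r.Coprime 18)
    (hd : r ∣ Nat.card ↥(Subgroup.normalizer ((P : Subgroup G) : Set G))) :
    ∃ x, orderOf x = r ∧ x ∈ Subgroup.centralizer ((P : Subgroup G) : Set G) := by
  have := Fact.mk hr
  obtain ⟨x, hx⟩ := exists_prime_orderOf_dvd_card' r hd
  refine ⟨x, by rw [Subgroup.orderOf_coe, hx], ?_⟩
  exact mem_centralizer_of_coprime (p := 19) (card_P hG P) x.2 (by rw [Subgroup.orderOf_coe, hx]; exact hcop)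

/-- Twenty Sylow subgroups are impossible. -/
theorem ne_twenty : Nat.card (Sylow 19 G) ≠ 20 := by
  intro hn
  obtain ⟨P⟩ : Nonempty (Sylow 19 G) := inferInstance
  have hN := card_normalizer hG P hn
  obtain ⟨x, hx, hxc⟩ := exists_centralizing hG P (r := 11) (by norm_num) (by norm_num)
    ⟨399, by omega⟩
  exact not_prime_centralizer hnc (dvd_G hG) (card_P hG P) (r := 11) (by norm_num) (by norm_num)
    (by omega) hx hxc

/-- Seventy-seven Sylow subgroups are impossible. -/
theorem ne_seventy_seven : Nat.card (Sylow 19 G) ≠ 77 := by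
  intro hn
  obtain ⟨P⟩ : Nonempty (Sylow 19 G) := inferInstance
  have hN := card_normalizer hG P hn
  obtain ⟨x, hx, hxc⟩ := exists_centralizing hG P (r := 5) (by norm_num) (by norm_num)
    ⟨228, by omega⟩
  exact not_prime_centralizer hnc (dvd_G hG) (card_P hG P) (r := 5) (by norm_num) (by norm_num)
    (by omega) hx hxc

/-- Two hundred and ten Sylow subgroups are impossible. -/
theorem ne_two_ten : Nat.card (Sylow 19 G) ≠ 210 := by
  classical
  intro hn
  have := Fintype.ofFinite (Sylow 19 G)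
  obtain ⟨P⟩ : Nonempty (Sylow 19 G) := inferInstance
  have hP := card_P hG P
  set N := Subgroup.normalizer ((P : Subgroup G) : Set G) with hNdef
  have hN : Nat.card ↥N = 418 := by
    have := card_normalizer hG P hn
    rw [← hNdef] at this
    omega
  obtain ⟨x, hx, hxc⟩ := exists_centralizing hG P (r := 11) (by norm_num) (by norm_num)
    ⟨38, by rw [← hNdef, hN]⟩
  obtain ⟨y, hy⟩ := exists_prime_orderOf_dvd_card' (G := ↥(P : Subgroup G)) 19 (dvd_of_eq hP.symm)
  have hy' : orderOf (y : G) = 19 := by rw [Subgroup.orderOf_coe, hy]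
  have hxy : x * (y : G) = (y : G) * x := (Subgroup.mem_centralizer_iff.1 hxc y y.2).symm
  have hx1 : x ≠ 1 := fun e => by rw [e, orderOf_one] at hx; norm_num at hx
  have hy1 : (y : G) ≠ 1 := fun e => by rw [e, orderOf_one] at hy'; norm_num at hy'
  -- x fixes only P
  have hxfix : ∀ R : Sylow 19 G, x • R = R → R = P := by
    intro R hR
    obtain ⟨j, hj, hcard, hlt, -⟩ := support_of_prime_centralizer hnc (dvd_G hG) hP (r := 11)
      (by norm_num) (by norm_num) hx hxc
    obtain ⟨-, hPs⟩ := dvd_support_of_centralizer hP hxc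
    rw [hn] at hlt
    have hj1 : j = 1 := by omega
    subst hj1
    by_contra hne
    have hRs : R ∉ (MulAction.toPermHom G (Sylow 19 G) x).support :=
      fun h => Equiv.Perm.mem_support.1 h hR
    have hsub : (MulAction.toPermHom G (Sylow 19 G) x).support ⊆ ({P, R} : Finset _)ᶜ := by
      intro Q hQ
      simp only [Finset.mem_compl, Finset.mem_insert, Finset.mem_singleton, not_or]
      exact ⟨fun e => hPs (e ▸ hQ), fun e => hRs (e ▸ hQ)⟩
    have := Finset.card_le_card hsub
    rw [hcard, Finset.card_compl, Finset.card_pair (Ne.symm hne), ← Nat.card_eq_fintype_card, hn] at this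
    norm_num at this
  have hyfix : ∀ R : Sylow 19 G, (y : G) • R = R → R = P :=
    fun R hR => sylow_fixed_eq hP y.2 hy1 hR
  set z := x * (y : G) with hzdef
  have hz : orderOf z = 209 := by
    rw [hzdef, (show Commute x (y : G) from hxy).orderOf_mul_eq_mul_orderOf_of_coprime
      (by rw [hx, hy']; norm_num), hx, hy']
  have hzN : z ∈ N := mul_mem (Subgroup.centralizer_le_normalizer _ hxc) (Subgroup.le_normalizer y.2)
  have hyz : z ^ 11 = (y : G) ^ 11 := by
    have h1 : x ^ 11 = 1 := by rw [← hx]; exact pow_orderOf_eq_one x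
    rw [hzdef, (show Commute x (y : G) from hxy).mul_pow, h1, one_mul]
  have hxz : z ^ 19 = x ^ 19 := by
    have h1 : (y : G) ^ 19 = 1 := orderOf_dvd_iff_pow_eq_one.1 (dvd_of_eq hy')
    rw [hzdef, (show Commute x (y : G) from hxy).mul_pow, h1, mul_one]
  -- free action off P
  have hfree : ∀ R : Sylow 19 G, R ≠ P → ∀ i : ℕ, z ^ i • R = R → 209 ∣ i := by
    intro R hR i hi
    have hst : z ^ i ∈ stabilizer G R := hi
    have h11 : 11 ∣ i := by
      by_contra h
      have hu : (z ^ i) ^ 19 = x ^ (19 * i) := by rw [← pow_mul, mul_comm, pow_mul, hxz, ← pow_mul]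
      have hco : (orderOf x).Coprime (19 * i) := by
        rw [hx]
        exact (Nat.Coprime.mul_right (by norm_num) ((Nat.Prime.coprime_iff_not_dvd (by norm_num)).2 h))
      obtain ⟨k, hk⟩ := exists_pow_eq_self_of_coprime hco.symm
      refine hR (hxfix R ?_)
      rw [← hk, ← hu]
      exact mem_stabilizer_iff.1 (pow_mem (pow_mem hst 19) k)
    have h19 : 19 ∣ i := by
      by_contra h
      have hu : (z ^ i) ^ 11 = (y : G) ^ (11 * i) := by rw [← pow_mul, mul_comm, pow_mul, hyz, ← pow_mul]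
      have hco : (orderOf (y : G)).Coprime (11 * i) := by
        rw [hy']
        exact (Nat.Coprime.mul_right (by norm_num) ((Nat.Prime.coprime_iff_not_dvd (by norm_num)).2 h))
      obtain ⟨k, hk⟩ := exists_pow_eq_self_of_coprime hco.symm
      refine hR (hyfix R ?_)
      rw [← hk, ← hu]
      exact mem_stabilizer_iff.1 (pow_mem (pow_mem hst 11) k)
    exact Nat.Coprime.mul_dvd_of_dvd_of_dvd (by norm_num : Nat.Coprime 11 19) h11 h19
  -- the involution
  obtain ⟨t, ht⟩ := exists_prime_orderOf_dvd_card' (G := ↥N) 2 (by rw [hN]; norm_num)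
  have ht' : orderOf (t : G) = 2 := by rw [Subgroup.orderOf_coe, ht]
  have htt : (t : G) * t = 1 := by rw [← sq, ← ht']; exact pow_orderOf_eq_one _
  set Z := Subgroup.zpowers z with hZdef
  have hZc : Nat.card ↥Z = 209 := by rw [hZdef, Nat.card_zpowers, hz]
  have hZN : Z ≤ N := Subgroup.zpowers_le.2 hzN
  have htZ : (t : G) ∉ Z := fun h => by
    have h1 := Subgroup.card_dvd_of_le (Subgroup.zpowers_le.2 h)
    rw [Nat.card_zpowers, ht', hZc] at h1
    norm_num at h1
  have hNmem : ∀ g ∈ N, g ∈ Z ∨ (t : G)⁻¹ * g ∈ Z := by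
    intro g hg
    by_contra hcon
    push Not at hcon
    have hidx : (Z.subgroupOf N).index = 2 := by
      have h1 := Subgroup.card_mul_index (Z.subgroupOf N)
      rw [Nat.card_congr (Subgroup.subgroupOfEquivOfLe hZN).toEquiv, hZc, hN] at h1
      omega
    have h2 := (Subgroup.mul_mem_iff_of_index_two hidx (a := (t : ↥N)⁻¹) (b := ⟨g, hg⟩)).2 (by
      simp only [Subgroup.mem_subgroupOf, inv_mem_iff]
      exact ⟨fun h => absurd h htZ, fun h => absurd h hcon.1⟩)
    exact hcon.2 h2
  -- inversion on the prime order parts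
  have hinv : ∀ {r : ℕ} (u : G), r.Prime → orderOf u = r → u ∈ Z →
      Subgroup.normalizer ((Subgroup.zpowers u : Subgroup G) : Set G) ≤ N →
      ¬ Subgroup.normalizer ((Subgroup.zpowers u : Subgroup G) : Set G) ≤
        Subgroup.centralizer ((Subgroup.zpowers u : Subgroup G) : Set G) →
      (t : G) * u ≠ u * t := by
    intro r u _ _ huZ hNu hnc' htu
    refine hnc' fun g hg => Subgroup.mem_centralizer_iff.2 ?_
    rintro _ ⟨i, rfl⟩
    have hcu : g * u = u * g := by
      obtain ⟨a, ha⟩ : ∃ a, a = u := ⟨u, rfl⟩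
      obtain ⟨i, hi⟩ := Subgroup.mem_zpowers_iff.1 huZ
      have hZu : ∀ w ∈ Z, w * u = u * w := by
        intro w hw
        obtain ⟨j, rfl⟩ := Subgroup.mem_zpowers_iff.1 hw
        rw [← hi]
        exact ((Commute.refl z).zpow_zpow j i).eq
      rcases hNmem g (hNu hg) with h | h
      · exact hZu g h
      · have h3 := hZu _ h
        calc g * u = (t : G) * (((t : G)⁻¹ * g) * u) := by group
          _ = ((t : G) * u) * ((t : G)⁻¹ * g) := by rw [h3, mul_assoc]
          _ = u * g := by rw [htu]; group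
    exact ((Commute.zpow_left (show Commute u g from hcu.symm) i)).eq
  have hxZ : x ∈ Z := by
    obtain ⟨k, hk⟩ := exists_pow_eq_self_of_coprime (n := 19) (x := x) (by rw [hx]; norm_num)
    rw [← hk, ← hxz, hZdef]
    exact pow_mem (Subgroup.npow_mem_zpowers z 19) k
  have hyZ : (y : G) ∈ Z := by
    obtain ⟨k, hk⟩ := exists_pow_eq_self_of_coprime (n := 11) (x := (y : G)) (by rw [hy']; norm_num)
    rw [← hk, ← hyz, hZdef]
    exact pow_mem (Subgroup.npow_mem_zpowers z 11) k
  have hyP : Subgroup.zpowers (y : G) = (P : Subgroup G) :=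
    Subgroup.eq_of_le_of_card_ge (Subgroup.zpowers_le.2 y.2) (by rw [Nat.card_zpowers, hy', hP])
  have htx : (t : G) * x ≠ x * t := by
    refine hinv x (by norm_num : Nat.Prime 11) hx hxZ ?_ ?_
    · intro g hg
      refine Sylow.smul_eq_iff_mem_normalizer.1 (hxfix _ ?_)
      have h1 : g⁻¹ * x * g ∈ Subgroup.zpowers x :=
        (Subgroup.mem_normalizer_iff''.1 hg x).1 (Subgroup.mem_zpowers x)
      have h2 : (g⁻¹ * x * g) • P = P := by
        obtain ⟨i, hi⟩ := Subgroup.mem_zpowers_iff.1 h1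
        rw [← hi]
        exact mem_stabilizer_iff.1 (zpow_mem (show x ∈ stabilizer G P from
          Sylow.smul_eq_iff_mem_normalizer.2 (Subgroup.centralizer_le_normalizer _ hxc)) i)
      calc x • g • P = g • (g⁻¹ * x * g) • P := by rw [← mul_smul, ← mul_smul]; group
        _ = g • P := by rw [h2]
    · have : Fact (Nat.Prime 11) := ⟨by norm_num⟩
      obtain ⟨Q⟩ : Nonempty (Sylow 11 G) := inferInstance
      have hcx : Nat.card ↥(Subgroup.zpowers x) = 11 ^ (Nat.card G).factorization 11 := by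
        rw [Nat.card_zpowers, hx, show (Nat.card G).factorization 11 = 1 by
          rw [hG, show 87780 = 11 ^ 1 * 7980 by norm_num, Nat.factorization_mul (by norm_num) (by norm_num),
            Finsupp.add_apply, (show Nat.Prime 11 by norm_num).factorization_pow, Finsupp.single_eq_same,
            Nat.factorization_eq_zero_of_not_dvd (by norm_num)], pow_one]
      have h := not_normalizer_le_centralizer hnc (p := 11) (by rw [hG]; norm_num) (Sylow.ofCard _ hcx)
      rwa [Sylow.coe_ofCard] at h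
  have hty : (t : G) * y ≠ y * t := by
    refine hinv (y : G) (by norm_num : Nat.Prime 19) hy' hyZ ?_ ?_
    · rw [hyP]
    · rw [hyP]
      exact not_normalizer_le_centralizer hnc (dvd_G hG) P
  have hinvert : ∀ {r : ℕ} (u : G), r.Prime → orderOf u = r →
      (t : G) * u * (t : G)⁻¹ ∈ Subgroup.zpowers u → (t : G) * u ≠ u * t →
      (t : G) * u * (t : G)⁻¹ = u⁻¹ := by
    intro r u hr hu hmem hne
    obtain ⟨i, hi⟩ := Subgroup.mem_zpowers_iff.1 hmem
    have h2 : u ^ (i * i) = u := by
      rw [zpow_mul, hi, conj_zpow, hi, inv_eq_of_mul_eq_one_right htt]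
      calc (t : G) * ((t : G) * u * t) * t = ((t : G) * t) * u * ((t : G) * t) := by group
        _ = u := by rw [htt, one_mul, mul_one]
    have h3 : (r : ℤ) ∣ i * i - 1 := by
      rw [← hu, orderOf_dvd_iff_zpow_eq_one, zpow_sub, h2, zpow_one, mul_inv_cancel]
    rw [show i * i - 1 = (i - 1) * (i + 1) by ring] at h3
    rcases (Nat.prime_iff_prime_int.1 hr).dvd_or_dvd h3 with h4 | h4
    · exfalso
      apply hne
      rw [← hu, orderOf_dvd_iff_zpow_eq_one, zpow_sub, zpow_one, mul_inv_eq_one, hi] at h4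
      exact mul_inv_eq_iff_eq_mul.1 h4
    · rw [← hu, orderOf_dvd_iff_zpow_eq_one, zpow_add, zpow_one, hi] at h4
      exact eq_inv_of_mul_eq_one_left h4
  have hyinv : (t : G) * y * (t : G)⁻¹ = (y : G)⁻¹ :=
    hinvert (y : G) prime19 hy' (by rw [hyP]; exact (Subgroup.mem_normalizer_iff.1 t.2 _).1 y.2) hty
  have hxinv : (t : G) * x * (t : G)⁻¹ = x⁻¹ := by
    refine hinvert x (by norm_num : Nat.Prime 11) hx ?_ htx
    have hidx : (Z.subgroupOf N).index = 2 := by
      have h1 := Subgroup.card_mul_index (Z.subgroupOf N)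
      rw [Nat.card_congr (Subgroup.subgroupOfEquivOfLe hZN).toEquiv, hZc, hN] at h1
      omega
    have hZn : (Z.subgroupOf N).Normal := Subgroup.normal_of_index_eq_two hidx
    have h1 : (t : G) * x * (t : G)⁻¹ ∈ Z := hZn.conj_mem ⟨x, hZN hxZ⟩ hxZ t
    obtain ⟨i, hi⟩ := Subgroup.mem_zpowers_iff.1 h1
    have h2 : ((t : G) * x * (t : G)⁻¹) ^ 11 = 1 := by
      rw [conj_pow, ← hx, pow_orderOf_eq_one, mul_one, mul_inv_cancel]
    have h3 : (209 : ℤ) ∣ i * 11 := by
      rw [show (209 : ℤ) = ((orderOf z : ℕ) : ℤ) by rw [hz]; rfl, orderOf_dvd_iff_zpow_eq_one,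
        zpow_mul, hi]
      exact_mod_cast h2
    obtain ⟨k, hk⟩ : (19 : ℤ) ∣ i := by omega
    rw [← hi, hk, zpow_mul, show z ^ (19 : ℤ) = x ^ 19 by rw [← hxz]; norm_cast]
    exact zpow_mem (Subgroup.npow_mem_zpowers x 19) k
  have hzinv : (t : G) * z * (t : G)⁻¹ = z⁻¹ := by
    rw [hzdef]
    calc (t : G) * (x * y) * (t : G)⁻¹ = ((t : G) * x * (t : G)⁻¹) * ((t : G) * y * (t : G)⁻¹) := by
          group
      _ = x⁻¹ * (y : G)⁻¹ := by rw [hxinv, hyinv]
      _ = (x * y)⁻¹ := by rw [mul_inv_rev, (Commute.inv_inv (show Commute x (y : G) from hxy)).eq]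
  have hzpow : ∀ i : ℕ, (t : G) * z ^ i = (z ^ i)⁻¹ * t := by
    intro i
    rw [← inv_pow, ← hzinv, conj_pow, inv_mul_cancel_right]
  -- transitivity
  have htrans : ∀ R : Sylow 19 G, R ≠ P → ∀ R' : Sylow 19 G, R' ≠ P → ∃ i : ℕ, z ^ i • R = R' := by
    intro R hR
    have hzP : ∀ i : ℕ, z ^ i • P = P := fun i =>
      Sylow.smul_eq_iff_mem_normalizer.2 (pow_mem hzN i)
    let f : Fin 209 → {Q : Sylow 19 G // Q ≠ P} := fun i => ⟨z ^ (i : ℕ) • R, fun e => hR (by
      rw [← hzP i] at e
      exact smul_left_cancel _ e)⟩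
    have hinj : Function.Injective f := by
      have key : ∀ i j : ℕ, i ≤ j → j < 209 → z ^ i • R = z ^ j • R → i = j := by
        intro i j hij hj e
        rw [← Nat.add_sub_cancel' hij, pow_add, mul_smul, smul_left_cancel_iff] at e
        have h := Nat.eq_zero_of_dvd_of_lt (hfree R hR _ e.symm) (by omega)
        omega
      intro i j h
      have e : z ^ (i : ℕ) • R = z ^ (j : ℕ) • R := congrArg Subtype.val h
      rcases le_total (i : ℕ) j with h' | h'
      · exact Fin.ext (key _ _ h' j.2 e)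
      · exact Fin.ext (key _ _ h' i.2 e.symm).symm
    have hbij := (Fintype.bijective_iff_injective_and_card f).2 ⟨hinj, by
      rw [Fintype.card_fin, Fintype.card_subtype_compl, Fintype.card_subtype_eq,
        ← Nat.card_eq_fintype_card, hn]⟩
    intro R' hR'
    obtain ⟨i, hi⟩ := hbij.2 ⟨R', hR'⟩
    exact ⟨i, congrArg Subtype.val hi⟩
  -- the centralizer of t
  set Ct := Subgroup.centralizer ({(t : G)} : Set G) with hCt
  have hstab : Nat.card ↥(stabilizer ↥Ct P) ≤ 2 := by
    have hle : ∀ g : ↥(stabilizer ↥Ct P), ((g : ↥Ct) : G) = 1 ∨ ((g : ↥Ct) : G) = (t : G) := by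
      intro g
      have hgN : ((g : ↥Ct) : G) ∈ N := Sylow.smul_eq_iff_mem_normalizer.1 g.2
      have hgt := Subgroup.mem_centralizer_singleton_iff.1 (g : ↥Ct).2
      have key : ∀ w ∈ Z, (t : G) * w = w * t → w = 1 := by
        intro w hw hc
        obtain ⟨i, rfl⟩ := (mem_powers_iff_mem_zpowers.2 hw : _)
        change (t : G) * z ^ i = z ^ i * t at hc
        change z ^ i = 1
        rw [hzpow, mul_left_inj, inv_eq_iff_mul_eq_one, ← pow_add] at hc
        have h1 := orderOf_dvd_of_pow_eq_one hc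
        rw [hz] at h1
        exact orderOf_dvd_iff_pow_eq_one.1 (by rw [hz]; omega)
      rcases hNmem _ hgN with h | h
      · exact Or.inl (key _ h hgt.symm)
      · refine Or.inr ?_
        have h1 := key _ h (by
          calc (t : G) * ((t : G)⁻¹ * (g : ↥Ct)) = ((g : ↥Ct) : G) := by group
            _ = (t : G)⁻¹ * (((g : ↥Ct) : G) * t) := by rw [hgt]; group
            _ = _ := by group)
        exact (inv_mul_eq_one.1 h1).symm
    calc Nat.card ↥(stabilizer ↥Ct P) ≤ Nat.card ↥({1, (t : G)} : Finset G) :=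
          Nat.card_le_card_of_injective (fun g => ⟨((g : ↥Ct) : G), by simpa using hle g⟩)
            fun a b h => Subtype.ext (Subtype.ext (congrArg (fun w : ({1, (t : G)} : Finset G) => (w : G)) h))
      _ ≤ 2 := by
          rw [Nat.card_eq_fintype_card, Fintype.card_coe]
          exact Finset.card_le_two
  have htP : (t : G) • P = P := Sylow.smul_eq_iff_mem_normalizer.2 t.2
  have horb : Nat.card ↥(orbit ↥Ct P) ≤ 2 := by
    have hfix : ∀ Q ∈ orbit ↥Ct P, (t : G) • Q = Q := by
      rintro Q ⟨c, rfl⟩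
      change (t : G) • (c : G) • P = (c : G) • P
      rw [← mul_smul, ← Subgroup.mem_centralizer_singleton_iff.1 c.2, mul_smul, htP]
    have huniq : ∀ R R' : Sylow 19 G, R ≠ P → R' ≠ P → (t : G) • R = R → (t : G) • R' = R' → R = R' := by
      intro R R' hR hR' htR htR'
      obtain ⟨i, rfl⟩ := htrans R hR R' hR'
      rw [← mul_smul, hzpow, mul_smul, htR, inv_smul_eq_iff, ← mul_smul, ← pow_add] at htR'
      have h := hfree R hR _ htR'.symm
      have h2 : z ^ i = 1 := orderOf_dvd_iff_pow_eq_one.1 (by rw [hz]; omega)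
      rw [h2, one_smul]
    rw [Nat.card_coe_set_eq]
    by_contra hlt
    obtain ⟨a, ha, b, hb, hab, -⟩ : ∃ a ∈ orbit ↥Ct P \ {P}, ∃ b ∈ orbit ↥Ct P \ {P}, a ≠ b ∧ True := by
      have h1 : 1 < (orbit ↥Ct P \ {P}).ncard := by
        rw [Set.ncard_sdiff_singleton_of_mem (mem_orbit_self P)]
        omega
      obtain ⟨a, ha, b, hb, hab⟩ := (Set.one_lt_ncard).1 h1
      exact ⟨a, ha, b, hb, hab, trivial⟩
    exact hab (huniq a b ha.2 hb.2 (hfix a ha.1) (hfix b hb.1))
  have hCle : Nat.card ↥Ct ≤ 4 := by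
    rw [← Subgroup.card_mul_index (stabilizer ↥Ct P), index_stabilizer, ← Nat.card_coe_set_eq]
    exact (Nat.mul_le_mul hstab horb)
  -- the four group
  have : Fact (Nat.Prime 2) := ⟨Nat.prime_two⟩
  obtain ⟨V, hV⟩ := IsPGroup.exists_le_sylow (p := 2) (P := Subgroup.zpowers (t : G))
    (IsPGroup.of_card (n := 1) (by rw [Nat.card_zpowers, ht', pow_one]))
  have hncomm : ¬ IsMulCommutative G := fun h => hnc fun a b => h.is_comm.comm a b
  obtain ⟨hK, -⟩ := Cfsg.Agent.S0992.result hncomm (by rw [hG]; decide) (by rw [hG]; norm_num) V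
  have hVC : (V : Subgroup G) ≤ Ct := fun v hv => Subgroup.mem_centralizer_singleton_iff.2 (by
    have := hK
    exact congrArg Subtype.val ((IsKleinFour.isMulCommutative (G := ↥(V : Subgroup G))).is_comm.comm
      ⟨v, hv⟩ ⟨(t : G), hV (Subgroup.mem_zpowers _)⟩))
  have hVeq : (V : Subgroup G) = Ct :=
    Subgroup.eq_of_le_of_card_ge hVC (by rw [hK.card_four]; exact hCle)
  obtain ⟨e⟩ := Cfsg.Agent.S3278.result (t : G) ht' (V : Subgroup G) hVC hK
    (by rw [hVeq, Subgroup.relIndex_self]; norm_num) (by rw [hVeq, Subgroup.subgroupOf_self]; infer_instance)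
  have h1 := Nat.card_congr e.toEquiv
  rw [hG, nat_card_alternatingGroup] at h1
  simp [Nat.factorial] at h1

end

/-- The largest number of Sylow subgroups is impossible. -/
theorem ne_max (hnc : ¬ ∀ a b : G, a * b = b * a) (hG : Nat.card G = 87780) :
    Nat.card (Sylow 19 G) ≠ 1540 := by
  classical
  intro hn
  have := Fintype.ofFinite G
  have hcyc : ¬ IsCyclic G := fun hc => by
    let _ : CommGroup G := IsCyclic.commGroup
    exact hnc mul_comm
  have hperf := Cfsg.Lib.Blocks.BrauerTuan.perfect_of_simple hcyc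
  have hsq : ¬ 19 ^ 2 ∣ Nat.card G := by rw [hG]; norm_num
  obtain ⟨P⟩ : Nonempty (Sylow 19 G) := inferInstance
  obtain ⟨C, hC⟩ := exists_cyc (dvd_G hG) hsq P
  have hcore : Core C := ⟨hperf, ⟨P, hC⟩, fun N hN hne => by
    rw [hN.eq_bot_or_eq_top.resolve_left hne]
    exact Subgroup.mem_top _⟩
  obtain ⟨M, hM⟩ := exists_isPModular prime19
  obtain ⟨ν, δ, hD⟩ := C.exists_orbitData hM C.oneV
  have hidx : idx C = 1540 := by
    rw [idx, hC, ← hn]
    exact P.card_eq_index_normalizer.symm
  have hev : eC C * Nat.card C.V = 3 := by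
    have h := card_eq C
    rw [hG, hidx] at h
    omega
  have he2 := hcore.two_le_eC
  have he : eC C = 3 ∧ Nat.card C.V = 1 := by
    rcases (Nat.dvd_prime Nat.prime_three).1 ⟨_, hev.symm⟩ with h | h
    · omega
    · exact ⟨h, by rw [h] at hev; omega⟩
  have hr : oneG G ∉ Set.range ν := by
    rintro ⟨u, hu⟩
    have hx0 : deg (ν 1 : G → ℂ) = 1 := by rw [← deg_exc hD u, hu, deg_oneG]
    have hc := congr_exc hM hD
    rw [hx0, he.1] at hc
    rcases hD.sign with e | e <;> rw [e] at hc <;> norm_num at hc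
  have hp3 := hcore.three_le
  have hm : oneG G ∈ ordSet C ν := mem_ordSet.2 ⟨lies_oneG, hr⟩
  have hrel := relation hD
  rw [← Finset.add_sum_erase _ _ hm, bI_oneG' hM hD hr, deg_oneG] at hrel
  push_cast at hrel
  have hcard : ((ordSet C ν).erase (oneG G)).card = 2 := by
    rw [Finset.card_erase_of_mem hm, card_ordSet hD, he.1]
  obtain ⟨χ₁, χ₂, hne, heq⟩ := Finset.card_eq_two.1 hcard
  rw [heq, Finset.sum_pair hne] at hrel
  have hS : 87780 ≤ 297 * 297 := by norm_num
  set L := terms 19 4620 87780 1 297 1 with hL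
  have hmem : ∀ χ ∈ (ordSet C ν).erase (oneG G),
      C.bI χ C.oneV 1 * (deg (χ : G → ℂ) : ℤ) ∈ L := by
    intro χ hχ
    have hχ' := Finset.mem_of_mem_erase hχ
    have hχ1 := Finset.ne_of_mem_erase hχ
    have hterm := isTerm_ord hcore hM hD hχ' hχ1
    have hall := allowed_of_lies hcore hM hp3 (mem_ordSet.1 hχ').1 hχ1
    rw [hidx, he.1, hG] at hterm
    rw [hG, he.2] at hall
    refine mem_terms hS hterm ?_
    rcases hD.sign_diff (χ := χ) (mem_ordSet.1 hχ') with e | e <;> simpa [e] using hall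
  have hν1 : ν 1 ≠ oneG G := fun e => hr ⟨1, e⟩
  have hexc : δ * (deg (ν 1 : G → ℂ) : ℤ) ∈ terms 19 4620 87780 1 297 3 := by
    have hterm := isTerm_exc hcore hM hD hr
    have hall := allowed_of_lies hcore hM hp3 (lies_exc hD 1) hν1
    rw [hidx, he.1, hG] at hterm
    rw [hG, he.2] at hall
    refine mem_terms hS hterm ?_
    rcases hD.sign with e | e <;> simpa [e] using hall
  have htab := exceptional_table
  simp only [List.all_eq_true, Bool.or_eq_true, decide_eq_true_eq, Bool.not_eq_true'] at htab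
  have h0 := htab _ (hmem χ₁ (by rw [heq]; simp)) _ (hmem χ₂ (by rw [heq]; simp))
  rw [hrel, List.contains_iff_mem.2 hexc] at h0
  have hdeg : 121 ≤ deg (ν 1 : G → ℂ) := by
    rcases h0 with h0 | h0
    · exact Bool.noConfusion h0
    · rcases hD.sign with e | e <;> simpa [e] using h0
  -- six exceptional characters
  have hE : Nat.card ↥(C.E (C.oneV : C.V → ℂ)) = 3 := (ee_oneV C).trans he.1
  have himg : 6 ≤ (Finset.univ.image ν).card := by
    have h1 := Finset.card_le_mul_card_image (f := ν) (Finset.univ : Finset (ZMod 19)ˣ) 3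
      fun b hb => by
        obtain ⟨u, -, rfl⟩ := Finset.mem_image.1 hb
        rw [← hE, Nat.card_eq_fintype_card, ← Finset.card_univ]
        refine Finset.card_le_card_of_injOn
          (fun v => if h : u⁻¹ * v ∈ C.E (C.oneV : C.V → ℂ) then ⟨u⁻¹ * v, h⟩ else 1)
          (fun v _ => Finset.mem_univ _) ?_
        intro v hv v' hv' hvv
        simp only [Finset.coe_filter, Finset.mem_univ, true_and, Set.mem_ofPred_eq] at hv hv'
        have e := (hD.eq_iff u v).1 hv.symm
        have e' := (hD.eq_iff u v').1 hv'.symm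
        simp only [dif_pos e, dif_pos e', Subtype.mk.injEq] at hvv
        exact mul_left_cancel hvv
    rw [Finset.card_univ, ZMod.card_units] at h1
    omega
  have hsum : (Finset.univ.image ν).card * deg (ν 1 : G → ℂ) ^ 2 ≤ Nat.card G := by
    rw [← sum_deg_sq_nat (G := G), ← smul_eq_mul, ← Finset.sum_const]
    refine (Finset.sum_le_sum fun χ hχ => ?_).trans
      (Finset.sum_le_sum_of_subset (f := fun ψ : IrrCharacter G => deg (ψ : G → ℂ) ^ 2)
        (Finset.subset_univ _))
    obtain ⟨u, -, rfl⟩ := Finset.mem_image.1 hχ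
    rw [deg_exc hD u]
  rw [hG] at hsum
  have h2 : 121 ^ 2 ≤ deg (ν 1 : G → ℂ) ^ 2 := Nat.pow_le_pow_left hdeg 2
  have h3 := Nat.mul_le_mul himg h2
  omega

/-- No simple group has order `87780`. -/
theorem card_ne (hnc : ¬ ∀ a b : G, a * b = b * a) : Nat.card G ≠ 87780 := by
  intro hG
  obtain ⟨P⟩ : Nonempty (Sylow 19 G) := inferInstance
  obtain ⟨h1, h2⟩ := sylow_facts P (a := 1) (m := 4620) (by rw [hG]; norm_num) (by norm_num)
  have h3 := sylow_options
  rw [List.all_eq_true] at h3
  have h4 := h3 _ (List.mem_range.2 (Nat.lt_succ_of_le (Nat.le_of_dvd (by norm_num) h1)))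
  simp only [Bool.or_eq_true, Bool.not_eq_true', decide_eq_false_iff_not, List.contains_iff_mem,
    List.mem_cons, List.not_mem_nil, or_false] at h4
  rcases h4 with h4 | h4 | h4 | h4 | h4 | h4
  · exact h4 ⟨Nat.mod_eq_zero_of_dvd h1, h2⟩
  · exact card_sylow_ne_one hnc (dvd_G hG) h4
  · exact ne_twenty hnc hG h4
  · exact ne_seventy_seven hnc hG h4
  · exact ne_two_ten hnc hG h4
  · exact ne_max hnc hG h4

end Cfsg.Lib.Small.Order87780
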