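import Cfsg.Agent.Small.Orders
import Cfsg.Agent.Small.SelfCentralizing

/-!
Orders excluded by the degree criterion.
-/

namespace Cfsg.Lib.Small

universe u

variable {G : Type u} [Group G] [Finite G]

theorem card_ne_3648 [IsSimpleGroup G] : Nat.card G ≠ 3648 := by
  intro hG
  have hnc := not_comm_of_isSimple (not_prime_of_eq hG 2 1824 (by norm_num) (by norm_num) (by norm_num))
  have : Fact (Nat.Prime 19) := ⟨by norm_num⟩
  have hdvd19 : (19 : ℕ) ∣ Nat.card G := by rw [hG]; norm_num
  obtain ⟨P, hP, hdvd, hmod, hN⟩ := exists_sylow_data (G := G) (p := 19) (a := 1) (m := 192)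
    (by rw [hG]; norm_num) (by norm_num)
  rw [pow_one] at hP
  have hne := card_sylow_ne_one (p := 19) hnc hdvd19
  have hn : Nat.card (Sylow 19 G) = 96 := by
    obtain ⟨i, j, k, hi, hj, hk, he⟩ := dvd_two_pow_mul_three_pow_mul (a := 6) (b := 1) (c := 0)
      (by norm_num : Nat.Prime 19) (by norm_num; exact hdvd)
    rw [he] at hmod hne ⊢
    interval_cases i <;> interval_cases j <;> interval_cases k <;> simp_all
  rw [hn] at hN
  obtain ⟨d, e, hd, he, hd1, he1, hcase⟩ := exists_degree_pair hnc 19 (by norm_num) P hP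
    (by rw [pow_one] at hN; omega) (not_normalizer_le_centralizer hnc hdvd19 P)
  rw [hG] at hd he
  obtain ⟨i, j, k, hi, hj, hk, rfl⟩ := dvd_two_pow_mul_three_pow_mul (a := 6) (b := 1) (c := 1)
    (by norm_num : Nat.Prime 19) (by norm_num; exact hd)
  rcases hcase with ⟨hm, rfl⟩ | ⟨hm, h2⟩
  · revert hm he hd1
    interval_cases i <;> interval_cases j <;> interval_cases k <;> norm_num
  · obtain rfl : e = _ - 1 := Nat.eq_sub_of_add_eq h2
    revert hm he hd1
    interval_cases i <;> interval_cases j <;> interval_cases k <;> norm_num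

theorem card_ne_3744 [IsSimpleGroup G] : Nat.card G ≠ 3744 := by
  intro hG
  have hnc := not_comm_of_isSimple (not_prime_of_eq hG 2 1872 (by norm_num) (by norm_num) (by norm_num))
  have : Fact (Nat.Prime 13) := ⟨by norm_num⟩
  have hdvd13 : (13 : ℕ) ∣ Nat.card G := by rw [hG]; norm_num
  obtain ⟨P, hP, hdvd, hmod, hN⟩ := exists_sylow_data (G := G) (p := 13) (a := 1) (m := 288)
    (by rw [hG]; norm_num) (by norm_num)
  rw [pow_one] at hP
  have hne := card_sylow_ne_one (p := 13) hnc hdvd13
  have hn : Nat.card (Sylow 13 G) = 144 := by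
    obtain ⟨i, j, k, hi, hj, hk, he⟩ := dvd_two_pow_mul_three_pow_mul (a := 5) (b := 2) (c := 0)
      (by norm_num : Nat.Prime 13) (by norm_num; exact hdvd)
    rw [he] at hmod hne ⊢
    interval_cases i <;> interval_cases j <;> interval_cases k <;> simp_all
  rw [hn] at hN
  obtain ⟨d, e, hd, he, hd1, he1, hcase⟩ := exists_degree_pair hnc 13 (by norm_num) P hP
    (by rw [pow_one] at hN; omega) (not_normalizer_le_centralizer hnc hdvd13 P)
  rw [hG] at hd he
  obtain ⟨i, j, k, hi, hj, hk, rfl⟩ := dvd_two_pow_mul_three_pow_mul (a := 5) (b := 2) (c := 1)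
    (by norm_num : Nat.Prime 13) (by norm_num; exact hd)
  rcases hcase with ⟨hm, rfl⟩ | ⟨hm, h2⟩
  · revert hm he hd1
    interval_cases i <;> interval_cases j <;> interval_cases k <;> norm_num
  · obtain rfl : e = _ - 1 := Nat.eq_sub_of_add_eq h2
    revert hm he hd1
    interval_cases i <;> interval_cases j <;> interval_cases k <;> norm_num

end Cfsg.Lib.Small
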