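import Cfsg.Agent.Small.Brodkey

/-!
No finite group has exactly 21 Sylow 5-subgroups.
-/

namespace Cfsg.Lib.Small.TwentyOne

open MulAction Equiv
open scoped commutatorElement
open scoped Pointwise

universe u

variable {G : Type u} [Group G] [Finite G]

local instance : Fact (Nat.Prime 5) := ⟨by norm_num⟩

theorem isMulCommutative_sylow (h21 : Nat.card (Sylow 5 G) = 21)
    (hf : ∀ g : G, (∀ P : Sylow 5 G, g • P = P) → g = 1) (P : Sylow 5 G) :
    IsMulCommutative ↥(P : Subgroup G) := by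
  refine ⟨⟨fun a b => ?_⟩⟩
  rw [← commutatorElement_eq_one_iff_mul_comm]
  refine Subtype.ext (hf _ fun Q => ?_)
  set O := orbit (P : Subgroup G) Q with hO
  obtain ⟨k, hk⟩ := P.2.card_orbit Q
  have hle : Nat.card O ≤ 21 := h21 ▸ Nat.card_le_card_of_injective _ Subtype.val_injective
  have hk1 : k ≤ 1 := by
    by_contra! hcon
    have := Nat.pow_le_pow_right (n := 5) (by norm_num) hcon
    rw [show Nat.card O = 5 ^ k from hk] at hle
    omega
  set f := toPermHom (P : Subgroup G) O with hfdef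
  obtain ⟨j, hj⟩ := (P.2.of_surjective f.rangeRestrict f.rangeRestrict_surjective).exists_card_eq
  have hj1 : j ≤ 1 := by
    by_contra! hcon
    have h1 : Nat.card f.range ∣ (Nat.card O).factorial := by
      rw [← Nat.card_perm]; exact f.range.card_subgroup_dvd_card
    have h2 : (Nat.card O).factorial ∣ (5).factorial := by
      refine Nat.factorial_dvd_factorial ?_
      rw [hk]; interval_cases k <;> norm_num
    have h3 : 5 ^ 2 ∣ (5).factorial := ((pow_dvd_pow 5 hcon).trans (hj ▸ h1)).trans h2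
    revert h3; decide
  have hcomm : ∀ c d : f.range, c * d = d * c := by
    have : IsCyclic f.range := by
      interval_cases j
      · have := (Nat.card_eq_one_iff_unique.1 (hj.trans (pow_zero 5))).1
        infer_instance
      · exact isCyclic_of_prime_card (p := 5) (by simpa using hj)
    obtain ⟨g, hg⟩ := IsCyclic.exists_generator (α := f.range)
    intro c d
    obtain ⟨i, rfl⟩ := hg c
    obtain ⟨l, rfl⟩ := hg d
    exact zpow_mul_comm g i l
  have h1 : f ⁅a, b⁆ = 1 := by
    rw [map_commutatorElement, commutatorElement_eq_one_iff_mul_comm]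
    exact congrArg Subtype.val (hcomm ⟨f a, a, rfl⟩ ⟨f b, b, rfl⟩)
  exact congrArg Subtype.val (Equiv.ext_iff.1 h1 ⟨Q, mem_orbit_self Q⟩)

theorem card_sylow_eq_five (h21 : Nat.card (Sylow 5 G) = 21)
    (hf : ∀ g : G, (∀ P : Sylow 5 G, g • P = P) → g = 1) (P : Sylow 5 G) :
    Nat.card ↥(P : Subgroup G) = 5 := by
  obtain ⟨A, B, hAB⟩ := Cfsg.Lib.Small.exists_inf_eq_iInf 5 (isMulCommutative_sylow h21 hf)
  have hbot : ∀ g : G, (∀ R : Sylow 5 G, g ∈ (R : Subgroup G)) → g = 1 := fun g hg =>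
    hf g fun R => Sylow.smul_eq_iff_mem_normalizer.2 (Subgroup.le_normalizer (hg R))
  have hst : stabilizer (A : Subgroup G) B = ⊥ := by
    rw [Subgroup.eq_bot_iff_forall]
    intro a ha
    refine Subtype.ext (hbot a fun R => ?_)
    have h1 : (a : G) • B = B := ha
    have h2 : (a : G) ∈ (A : Subgroup G) ⊓ B := by
      rw [← A.2.inf_normalizer_sylow B]
      exact ⟨a.2, Sylow.smul_eq_iff_mem_normalizer.1 h1⟩
    rw [hAB] at h2
    exact Subgroup.mem_iInf.1 h2 R
  have h1 := MulAction.index_stabilizer (A : Subgroup G) B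
  rw [hst, Subgroup.index_bot] at h1
  have hle : Nat.card ↥(A : Subgroup G) ≤ 21 := by
    rw [h1, ← h21]; exact Set.ncard_le_card _
  have hAP : Nat.card ↥(A : Subgroup G) = Nat.card ↥(P : Subgroup G) := Nat.card_congr (A.equiv P).toEquiv
  obtain ⟨k, hk⟩ := P.2.exists_card_eq
  rw [hk] at hAP
  rw [hk]
  rcases k with _ | _ | k
  · exfalso
    have hb : (P : Subgroup G) = ⊥ := Subgroup.card_eq_one.1 (by rw [hk, pow_zero])
    have : Subsingleton (Sylow 5 G) := ⟨fun X Y => by
      have hX : ∀ Z : Sylow 5 G, (Z : Subgroup G) = ⊥ := fun Z => Subgroup.card_eq_one.1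
        ((Nat.card_congr (Z.equiv P).toEquiv).trans (by rw [hk, pow_zero]))
      exact Sylow.ext ((hX X).trans (hX Y).symm)⟩
    rw [Nat.card_of_subsingleton P] at h21
    omega
  · rfl
  · exfalso
    have := Nat.pow_le_pow_right (n := 5) (by norm_num) (show 2 ≤ k + 1 + 1 by omega)
    omega

variable (h21 : Nat.card (Sylow 5 G) = 21) (hf : ∀ g : G, (∀ P : Sylow 5 G, g • P = P) → g = 1)
include h21 hf

theorem toPermHom_injective : Function.Injective (toPermHom G (Sylow 5 G)) :=
  (injective_iff_map_eq_one _).2 fun g hg => hf g fun P => Equiv.ext_iff.1 hg P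

/-- A nontrivial element of `P` fixes only `P`. -/
theorem fixed_eq {P Q : Sylow 5 G} {x : G} (hx : x ∈ (P : Subgroup G)) (hx1 : x ≠ 1)
    (h : x • Q = Q) : Q = P := by
  have h2 : x ∈ (P : Subgroup G) ⊓ Q := by
    rw [← P.2.inf_normalizer_sylow Q]
    exact ⟨hx, Sylow.smul_eq_iff_mem_normalizer.1 h⟩
  have h3 : Nat.card ↥((P : Subgroup G) ⊓ Q) = 5 := by
    rcases (Nat.dvd_prime (by norm_num : Nat.Prime 5)).1
      (card_sylow_eq_five h21 hf P ▸ Subgroup.card_dvd_of_le inf_le_left) with h | h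
    · exact absurd ((Subgroup.eq_bot_iff_forall _).1 (Subgroup.card_eq_one.1 h) x h2) hx1
    · exact h
  exact Sylow.ext ((Subgroup.eq_of_le_of_card_ge inf_le_right
    (by rw [h3, card_sylow_eq_five h21 hf Q])).symm.trans
    (Subgroup.eq_of_le_of_card_ge inf_le_left (by rw [h3, card_sylow_eq_five h21 hf P])))

theorem exists_generator (P : Sylow 5 G) : ∃ x ∈ (P : Subgroup G), x ≠ 1 ∧ x ^ 5 = 1 := by
  have h5 := card_sylow_eq_five h21 hf P
  have : Nontrivial ↥(P : Subgroup G) := Finite.one_lt_card_iff_nontrivial.1 (by omega)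
  obtain ⟨x, hx⟩ := exists_ne (1 : ↥(P : Subgroup G))
  refine ⟨x, x.2, fun h => hx (Subtype.ext h), ?_⟩
  have := congrArg Subtype.val (pow_card_eq_one' (x := x))
  rwa [h5] at this

/-- An element centralising `P` moves a multiple of 5 of the Sylow subgroups, and at most 20. -/
theorem card_support_centralizer [Fintype (Sylow 5 G)] [DecidableEq (Sylow 5 G)] {P : Sylow 5 G}
    {g : G} (hg : g ∈ Subgroup.centralizer ((P : Subgroup G) : Set G)) :
    5 ∣ (toPermHom G (Sylow 5 G) g).support.card ∧ (toPermHom G (Sylow 5 G) g).support.card ≤ 20 := by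
  obtain ⟨x, hxP, hx1, hx5⟩ := exists_generator h21 hf P
  have hgP : g • P = P := Sylow.smul_eq_iff_mem_normalizer.2 (Subgroup.centralizer_le_normalizer _ hg)
  set σ := toPermHom G (Sylow 5 G) g with hσ
  set τ := toPermHom G (Sylow 5 G) x with hτ
  have hP : P ∉ σ.support := fun h => Perm.mem_support.1 h hgP
  have hinv : ∀ Q, τ Q ∈ σ.support ↔ Q ∈ σ.support := fun Q => by
    rw [Perm.mem_support, Perm.mem_support]
    change g • x • Q ≠ x • Q ↔ g • Q ≠ Q
    rw [← mul_smul, ← Subgroup.mem_centralizer_iff.1 hg x hxP, mul_smul]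
    exact not_congr (smul_left_cancel_iff x)
  constructor
  · by_contra hnd
    obtain ⟨⟨Q, hQs⟩, hQ⟩ := Perm.exists_fixed_point_of_prime (p := 5) (n := 1)
      (α := {Q // Q ∈ σ.support}) (by rwa [Fintype.card_coe])
      (σ := τ.subtypePerm hinv) (by
        rw [Perm.subtypePerm_pow]
        ext Q : 2
        change (τ ^ (5 ^ 1)) Q.1 = Q.1
        rw [hτ, ← map_pow, pow_one, hx5, map_one]
        rfl)
    have hQ' : x • Q = Q := congrArg Subtype.val hQ
    exact hP (fixed_eq h21 hf hxP hx1 hQ' ▸ hQs)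
  · have h1 := Finset.card_lt_univ_of_notMem hP
    rw [← Nat.card_eq_fintype_card, h21] at h1
    omega

/-- No element of order 7 normalises a Sylow 5-subgroup. -/
theorem normalizer_no_seven (P : Sylow 5 G) {y : G} (hy : y ∈ Subgroup.normalizer ((P : Subgroup G) : Set G))
    (hy7 : orderOf y = 7) : False := by
  classical
  have := Fintype.ofFinite (Sylow 5 G)
  have : Fact (Nat.card ↥(P : Subgroup G)).Prime := ⟨by rw [card_sylow_eq_five h21 hf P]; norm_num⟩
  have hcyc : IsCyclic ↥(P : Subgroup G) := isCyclic_of_prime_card (card_sylow_eq_five h21 hf P)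
  have hc : y ∈ Subgroup.centralizer ((P : Subgroup G) : Set G) := by
    have h1 : (P : Subgroup G).normalizerMonoidHom ⟨y, hy⟩ = 1 := by
      have hd1 : orderOf ((P : Subgroup G).normalizerMonoidHom ⟨y, hy⟩) ∣ 7 := by
        rw [← hy7, ← Subgroup.orderOf_mk y hy]; exact orderOf_map_dvd _ _
      have hd2 : orderOf ((P : Subgroup G).normalizerMonoidHom ⟨y, hy⟩) ∣ 4 := by
        refine (orderOf_dvd_natCard _).trans ?_
        rw [IsCyclic.card_mulAut, card_sylow_eq_five h21 hf P, Nat.totient_prime (by norm_num)]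
      exact orderOf_eq_one_iff.1 (Nat.dvd_one.1 (Nat.dvd_gcd hd1 hd2))
    have h2 : (⟨y, hy⟩ : Subgroup.normalizer ((P : Subgroup G) : Set G)) ∈ (P : Subgroup G).normalizerMonoidHom.ker := h1
    rwa [Subgroup.normalizerMonoidHom_ker, Subgroup.mem_subgroupOf] at h2
  set σ := toPermHom G (Sylow 5 G) y with hσ
  have ho : orderOf σ = 7 := by rw [hσ, orderOf_injective _ (toPermHom_injective h21 hf), hy7]
  obtain ⟨n, hn⟩ := Perm.cycleType_prime_order (σ := σ) (by rw [ho]; norm_num)
  have hs := Perm.sum_cycleType σ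
  rw [hn, ho, Multiset.sum_replicate, smul_eq_mul] at hs
  obtain ⟨h5, h20⟩ := card_support_centralizer h21 hf hc
  rw [← hσ] at h5 h20
  omega

/-- An involution centralising `P` fixes no other Sylow 5-subgroup. -/
theorem involution_fixed_eq (hsign : ∀ g : G, ∀ [Fintype (Sylow 5 G)] [DecidableEq (Sylow 5 G)],
      Perm.sign (toPermHom G (Sylow 5 G) g) = 1)
    {P Q : Sylow 5 G} {t : G} (ht : orderOf t = 2)
    (htc : t ∈ Subgroup.centralizer ((P : Subgroup G) : Set G)) (htQ : t • Q = Q) : Q = P := by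
  classical
  have := Fintype.ofFinite (Sylow 5 G)
  by_contra hne
  obtain ⟨h5, -⟩ := card_support_centralizer h21 hf htc
  set σ := toPermHom G (Sylow 5 G) t with hσ
  have hP : P ∉ σ.support := fun h => Perm.mem_support.1 h
    (Sylow.smul_eq_iff_mem_normalizer.2 (Subgroup.centralizer_le_normalizer _ htc))
  have hQ : Q ∉ σ.support := fun h => Perm.mem_support.1 h htQ
  have h19 : σ.support.card + 2 ≤ 21 := by
    have h1 := Finset.card_le_univ (insert P (insert Q σ.support))
    rw [← Nat.card_eq_fintype_card, h21, Finset.card_insert_of_notMem (by simp [hP, Ne.symm hne]),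
      Finset.card_insert_of_notMem hQ] at h1
    omega
  have ho : orderOf σ = 2 := by rw [hσ, orderOf_injective _ (toPermHom_injective h21 hf), ht]
  obtain ⟨n, hn⟩ := Perm.cycleType_prime_order (σ := σ) (by rw [ho]; norm_num)
  have hs := Perm.sum_cycleType σ
  rw [hn, ho, Multiset.sum_replicate, smul_eq_mul] at hs
  have hn5 : n + 1 = 5 := by omega
  have h2 := hsign t
  rw [← hσ, Perm.sign_of_cycleType, hn, ho, Multiset.sum_replicate, Multiset.card_replicate, hn5] at h2
  revert h2; decide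

theorem not_isSimpleGroup [IsSimpleGroup G] : False := by
  classical
  have := Fintype.ofFinite (Sylow 5 G)
  obtain ⟨P⟩ : Nonempty (Sylow 5 G) := Sylow.nonempty
  have h5 := card_sylow_eq_five h21 hf P
  have hnc : ¬ ∀ a b : G, a * b = b * a := fun hcomm => by
    have : Subsingleton (Sylow 5 G) := ⟨fun X Y => by
      obtain ⟨g, rfl⟩ := exists_smul_eq G X Y
      refine (Sylow.smul_eq_iff_mem_normalizer.2 ?_).symm
      exact Subgroup.centralizer_le_normalizer _ fun a _ => hcomm a g⟩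
    rw [Nat.card_of_subsingleton P] at h21
    omega
  have htriv : ∀ {A : Type} [CommGroup A] (φ : G →* A) (g : G), φ g = 1 := by
    intro A _ φ g
    rcases φ.normal_ker.eq_bot_or_eq_top with h | h
    · exact absurd (fun a b => (MonoidHom.ker_eq_bot_iff φ).1 h (by simp [mul_comm])) hnc
    · exact MonoidHom.mem_ker.1 (h ▸ Subgroup.mem_top g)
  have hsign : ∀ g : G, ∀ [Fintype (Sylow 5 G)] [DecidableEq (Sylow 5 G)],
      Perm.sign (toPermHom G (Sylow 5 G) g) = 1 := fun g _ _ =>
    htriv (Perm.sign.comp (toPermHom G (Sylow 5 G))) g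
  set M := Subgroup.normalizer ((P : Subgroup G) : Set G) with hM
  have hMi : M.index = 21 := P.card_eq_index_normalizer.symm.trans h21
  have hcyc : IsCyclic ↥(P : Subgroup G) := isCyclic_of_prime_card h5
  let ψ : M →* (ZMod 5)ˣ := (Units.map (ZMod.ringEquivCongr h5).toRingHom.toMonoidHom).comp
    ((IsCyclic.mulAutMulEquiv ↥(P : Subgroup G)).toMonoidHom.comp (P : Subgroup G).normalizerMonoidHom)
  have hψ : ∀ m : M, ψ m = 1 ↔ (m : G) ∈ Subgroup.centralizer ((P : Subgroup G) : Set G) := by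
    intro m
    have h1 : ψ m = 1 ↔ (P : Subgroup G).normalizerMonoidHom m = 1 := by
      refine map_eq_one_iff ((Units.map (ZMod.ringEquivCongr h5).toRingHom.toMonoidHom).comp
        (IsCyclic.mulAutMulEquiv ↥(P : Subgroup G)).toMonoidHom) ?_
      exact (Units.map_injective (ZMod.ringEquivCongr h5).injective).comp (MulEquiv.injective _)
    rw [h1, ← MonoidHom.mem_ker, Subgroup.normalizerMonoidHom_ker, Subgroup.mem_subgroupOf]
  have hne : ∃ m : M, ψ m ≠ 1 := by
    by_contra! hall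
    have hle : M ≤ Subgroup.centralizer ((P : Subgroup G) : Set G) := fun m hm => (hψ ⟨m, hm⟩).1 (hall _)
    have hcompl := MonoidHom.ker_transferSylow_isComplement' P hle
    rcases (MonoidHom.transferSylow P hle).normal_ker.eq_bot_or_eq_top with h | h
    · rw [h, Subgroup.isComplement'_bot_left] at hcompl
      exact hnc fun a b => congrArg Subtype.val
        ((isMulCommutative_sylow h21 hf P).is_comm.comm ⟨a, hcompl ▸ Subgroup.mem_top a⟩
          ⟨b, hcompl ▸ Subgroup.mem_top b⟩)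
    · rw [h, Subgroup.isComplement'_top_left] at hcompl
      rw [hcompl, Subgroup.card_bot] at h5
      omega
  have hu4 : ∀ u : (ZMod 5)ˣ, u ^ 4 = 1 := by decide
  have hu2 : ∀ u : (ZMod 5)ˣ, u ^ 2 = 1 → u = 1 ∨ u = -1 := by decide
  obtain ⟨h, hsq, m₀, hm₀⟩ : ∃ h : ℕ, (∀ m : M, (ψ m ^ h) ^ 2 = 1) ∧ ∃ m : M, ψ m ^ h ≠ 1 := by
    by_cases hc : ∃ m : M, ψ m ^ 2 ≠ 1
    · exact ⟨2, fun m => by rw [← pow_mul]; exact hu4 _, hc⟩
    · push Not at hc
      exact ⟨1, fun m => by rw [pow_one]; exact hc m, hne.imp fun m hm => by rwa [pow_one]⟩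
  let χ : M →* (ZMod 5)ˣ := (powMonoidHom h).comp ψ
  have hfix : ∀ (z : G) (i : ℕ), z ^ 2 ^ i = 1 →
      z ∈ Subgroup.centralizer ((P : Subgroup G) : Set G) → ∀ Q : Sylow 5 G, z • Q = Q → Q ≠ P → z = 1 := by
    intro z i hz hzc Q hzQ hQ
    by_contra hz1
    obtain ⟨j, -, hj⟩ := (Nat.dvd_prime_pow Nat.prime_two).1 (orderOf_dvd_of_pow_eq_one hz)
    rcases j with _ | j
    · rw [pow_zero, orderOf_eq_one_iff] at hj
      exact hz1 hj
    refine hQ (involution_fixed_eq h21 hf hsign (t := z ^ 2 ^ j) ?_ (Subgroup.pow_mem _ hzc _)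
      ((stabilizer G Q).pow_mem hzQ _))
    rw [orderOf_pow, hj, pow_succ, Nat.gcd_mul_right_left, Nat.mul_div_cancel_left _ (by positivity)]
  have hiff : ∀ (m : M) (i : ℕ), (m : G) ^ 2 ^ i = 1 → ∀ Q : Sylow 5 G, (m : G) • Q = Q → Q ≠ P →
      (χ m = 1 ↔ (m : G) ^ h = 1) := by
    intro m i hm Q hQ hQP
    have e : χ m = ψ (m ^ h) := (map_pow ψ m h).symm
    rw [e, hψ, Subgroup.coe_pow]
    refine ⟨fun hc => hfix _ i ?_ hc Q ((stabilizer G Q).pow_mem hQ h) hQP,
      fun h1 => h1 ▸ Subgroup.one_mem _⟩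
    rw [← pow_mul, mul_comm, pow_mul, hm, one_pow]
  have hinvar : ∀ (z g : G) (i : ℕ), z ^ 2 ^ i = 1 → ∀ (hz : z ∈ M) (hz' : g⁻¹ * z * g ∈ M),
      χ ⟨g⁻¹ * z * g, hz'⟩ = χ ⟨z, hz⟩ := by
    intro z g i hzi hz hz'
    by_cases hg : g ∈ M
    · rw [show (⟨g⁻¹ * z * g, hz'⟩ : M) = (⟨g, hg⟩ : M)⁻¹ * ⟨z, hz⟩ * ⟨g, hg⟩ from rfl, map_mul, map_mul,
        map_inv, inv_mul_cancel_comm]
    · have hgP : g • P ≠ P := fun e => hg (Sylow.smul_eq_iff_mem_normalizer.1 e)
      have hgP' : g⁻¹ • P ≠ P := fun e => hgP (by conv_lhs => rw [← e, smul_inv_smul])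
      have hz'i : (g⁻¹ * z * g) ^ 2 ^ i = 1 := by
        rw [show g⁻¹ * z * g = g⁻¹ * z * (g⁻¹)⁻¹ by rw [inv_inv], conj_pow, hzi, mul_one, mul_inv_cancel]
      have hP1 : z • P = P := Sylow.smul_eq_iff_mem_normalizer.2 hz
      have hP2 : (g⁻¹ * z * g) • P = P := Sylow.smul_eq_iff_mem_normalizer.2 hz'
      have f1 : z • (g • P) = g • P := by
        rw [← smul_inv_smul g (z • g • P), ← mul_smul g⁻¹, ← mul_smul (g⁻¹ * z), hP2]
      have f2 : (g⁻¹ * z * g) • (g⁻¹ • P) = g⁻¹ • P := by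
        rw [mul_smul, smul_inv_smul, mul_smul, hP1]
      have e1 := hiff ⟨z, hz⟩ i hzi _ f1 hgP
      have e2 := hiff ⟨g⁻¹ * z * g, hz'⟩ i hz'i _ f2 hgP'
      have e3 : (g⁻¹ * z * g) ^ h = 1 ↔ z ^ h = 1 := by
        rw [show g⁻¹ * z * g = g⁻¹ * z * (g⁻¹)⁻¹ by rw [inv_inv], conj_pow]
        exact conj_eq_one_iff
      have e4 : χ ⟨g⁻¹ * z * g, hz'⟩ = 1 ↔ χ ⟨z, hz⟩ = 1 := e2.trans (e3.trans e1.symm)
      rcases hu2 _ (hsq ⟨g⁻¹ * z * g, hz'⟩) with a | a <;> rcases hu2 _ (hsq ⟨z, hz⟩) with b | b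
      · exact a.trans b.symm
      · exact a.trans (e4.1 a).symm
      · exact ((e4.2 b).trans b.symm)
      · exact a.trans b.symm
  obtain ⟨i, b, hb, hib⟩ := Nat.exists_eq_pow_mul_and_not_dvd (orderOf_pos m₀).ne' 2 (by norm_num)
  set s := m₀ ^ b with hs
  have hsi : (s : G) ^ 2 ^ i = 1 := by
    rw [hs, ← Subgroup.coe_pow, ← pow_mul, mul_comm, ← hib, pow_orderOf_eq_one, Subgroup.coe_one]
  have hodd : ∀ {k : ℕ}, ¬ 2 ∣ k → χ m₀ ^ k = χ m₀ := fun {k} hk => by
    obtain ⟨c, rfl⟩ : ∃ c, k = 2 * c + 1 := ⟨k / 2, by omega⟩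
    rw [pow_succ, pow_mul, show χ m₀ ^ 2 = 1 from hsq m₀, one_pow, one_mul]
  have hχs : χ s = χ m₀ := by rw [hs, map_pow, hodd hb]
  have htr := htriv (MonoidHom.transfer χ) (s : G)
  have := Fintype.ofFinite (Quotient (orbitRel (Subgroup.zpowers (s : G)) (G ⧸ M)))
  rw [MonoidHom.transfer_eq_prod_quotient_orbitRel_zpowers_quot] at htr
  have hterm : ∀ (k : ℕ) (g : G) (hk : g⁻¹ * (s : G) ^ k * g ∈ M), χ ⟨g⁻¹ * (s : G) ^ k * g, hk⟩ = χ s ^ k := by
    intro k g hk
    rw [hinvar ((s : G) ^ k) g i (by rw [← pow_mul, mul_comm, pow_mul, hsi, one_pow])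
      (M.pow_mem s.2 k) hk, ← map_pow]
    rfl
  rw [Finset.prod_congr rfl (fun q _ => hterm _ _ _), Finset.prod_pow_eq_pow_sum, hχs] at htr
  have hsum : (∑ q : Quotient (orbitRel (Subgroup.zpowers (s : G)) (G ⧸ M)),
      Function.minimalPeriod ((s : G) • ·) q.out) = 21 := by
    rw [← hMi]; exact (Subgroup.index_eq_sum_minimalPeriod M (s : G)).symm
  rw [hsum, hodd (by norm_num)] at htr
  exact hm₀ htr

omit h21 hf in
/-- A finite group does not have exactly 21 Sylow 5-subgroups. -/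
theorem card_sylow_five_ne : ∀ (n : ℕ) {G : Type u} [Group G] [Finite G],
    Nat.card G = n → Nat.card (Sylow 5 G) ≠ 21 := by
  intro n
  induction n using Nat.strong_induction_on with
  | _ n ih =>
  intro G _ _ hn h21
  classical
  have hquot : ∀ N : Subgroup G, N.Normal → N ≠ ⊥ → Nat.card (G ⧸ N) < n := by
    intro N _ hN
    have h1 := N.one_lt_card_iff_ne_bot.2 hN
    have h2 := N.card_eq_card_quotient_mul_card_subgroup
    have h3 : 0 < Nat.card (G ⧸ N) := Nat.card_pos
    nlinarith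
  set K := (toPermHom G (Sylow 5 G)).ker with hK
  by_cases hKbot : K = ⊥
  swap
  · have hsurj := QuotientGroup.mk'_surjective K
    have hbij : Function.Bijective (Sylow.mapSurjective hsurj : Sylow 5 G → Sylow 5 (G ⧸ K)) := by
      refine ⟨fun P Q hPQ => ?_, Sylow.mapSurjective_surjective hsurj 5⟩
      have hQ : (Q : Subgroup G) ≤ Subgroup.normalizer ((P : Subgroup G) : Set G) := fun q hq => by
        obtain ⟨p, hp, hpq⟩ : QuotientGroup.mk' K q ∈ (P : Subgroup G).map (QuotientGroup.mk' K) := by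
          rw [← Sylow.coe_mapSurjective hsurj, hPQ, Sylow.coe_mapSurjective]
          exact ⟨q, hq, rfl⟩
        obtain ⟨z, hz, rfl⟩ := (QuotientGroup.mk'_eq_mk' K).1 hpq
        exact Subgroup.mul_mem _ (Subgroup.le_normalizer hp)
          (Sylow.smul_eq_iff_mem_normalizer.1 (Equiv.ext_iff.1 hz P))
      refine (Sylow.ext ?_).symm
      refine (Q.is_maximal' P.2 ?_).symm
      exact inf_eq_left.1 (((Q.2.inf_normalizer_sylow P)).symm.trans (inf_eq_left.2 hQ))
    exact ih _ (hquot K inferInstance hKbot) rfl ((Nat.card_eq_of_bijective _ hbij).symm.trans h21)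
  have hf : ∀ g : G, (∀ P : Sylow 5 G, g • P = P) → g = 1 := fun g hg =>
    (Subgroup.eq_bot_iff_forall K).1 hKbot g (Equiv.ext hg)
  have hbig : ∀ N : Subgroup G, N.Normal → N ≠ ⊤ → 5 ∣ Nat.card N → False := by
    intro N hN hNtop h5N
    obtain ⟨y, hy⟩ := exists_prime_orderOf_dvd_card' 5 h5N
    rw [← Subgroup.orderOf_coe] at hy
    obtain ⟨P, hP⟩ := (IsPGroup.of_card (p := 5) (n := 1)
      (by rw [Nat.card_zpowers, hy, pow_one] : Nat.card (Subgroup.zpowers (y : G)) = 5 ^ 1)).exists_le_sylow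
    have hPeq := Subgroup.eq_of_le_of_card_ge hP
      (by rw [Nat.card_zpowers, hy, card_sylow_eq_five h21 hf P])
    have hPN : ∀ Q : Sylow 5 G, (Q : Subgroup G) ≤ N := fun Q => by
      obtain ⟨g, rfl⟩ := exists_smul_eq G P Q
      intro z hz
      rw [Sylow.coe_subgroup_smul, Subgroup.mem_pointwise_smul_iff_inv_smul_mem] at hz
      rw [← hPeq] at hz
      have h1 := (Subgroup.zpowers_le.2 y.2) hz
      rw [MulAut.smul_def] at h1
      have h2 := hN.conj_mem _ h1 g
      simpa [mul_assoc] using h2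
    have hlt : Nat.card N < n := hn ▸ lt_of_le_of_ne (Nat.card_le_card_of_injective _ Subtype.val_injective)
      (fun e => hNtop (Subgroup.eq_top_of_card_eq N e))
    refine ih _ hlt rfl ((Nat.card_eq_of_bijective (fun Q => (Q : Sylow 5 G).subtype (hPN Q))
      ⟨fun Q R h => Sylow.subtype_injective h, fun S => ?_⟩).symm.trans h21)
    obtain ⟨c, rfl⟩ := exists_smul_eq N (P.subtype (hPN P)) S
    exact ⟨(c : G) • P, (Sylow.smul_subtype (hPN P) c).symm⟩
  have : IsSimpleGroup G := by
    have : Nontrivial G := by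
      by_contra hcon
      rw [not_nontrivial_iff_subsingleton] at hcon
      obtain ⟨P⟩ : Nonempty (Sylow 5 G) := Sylow.nonempty
      have := card_sylow_eq_five h21 hf P
      rw [Nat.card_of_subsingleton (1 : ↥(P : Subgroup G))] at this
      omega
    refine ⟨fun N hN => ?_⟩
    by_contra! hcon
    obtain ⟨hNbot, hNtop⟩ := hcon
    have h5N : ¬ 5 ∣ Nat.card N := hbig N hN hNtop
    set f := QuotientGroup.mk' N with hfN
    have hsurj := QuotientGroup.mk'_surjective N
    have hsurjS := Sylow.mapSurjective_surjective hsurj 5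
    obtain ⟨P⟩ : Nonempty (Sylow 5 G) := Sylow.nonempty
    have hdvd : Nat.card (Sylow 5 (G ⧸ N)) ∣ 21 := by
      rw [← h21, Sylow.card_eq_index_normalizer (P.mapSurjective hsurj), Sylow.card_eq_index_normalizer P,
        ← Subgroup.index_comap_of_surjective _ hsurj]
      change ((Subgroup.normalizer (((P : Subgroup G).map f : Subgroup (G ⧸ N)) : Set (G ⧸ N))).comap f).index ∣
        (Subgroup.normalizer ((P : Subgroup G) : Set G)).index
      refine Subgroup.index_dvd_of_le ?_
      exact Subgroup.map_le_iff_le_comap.1 ((P : Subgroup G).le_normalizer_map f)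
    have hmod : Nat.card (Sylow 5 (G ⧸ N)) % 5 = 1 := card_sylow_modEq_one 5 (G ⧸ N)
    have h121 : Nat.card (Sylow 5 (G ⧸ N)) = 1 ∨ Nat.card (Sylow 5 (G ⧸ N)) = 21 := by
      have hle := Nat.le_of_dvd (by norm_num) hdvd
      have : ∀ j < 22, j ∣ 21 → j % 5 = 1 → j = 1 ∨ j = 21 := by decide
      exact this _ (by omega) hdvd hmod
    rcases h121 with h1 | h1
    · have hss : Subsingleton (Sylow 5 (G ⧸ N)) := (Nat.card_eq_one_iff_unique.1 h1).1
      have hnorm : ((P.mapSurjective hsurj : Sylow 5 (G ⧸ N)) : Subgroup (G ⧸ N)).Normal :=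
        Sylow.normal_of_subsingleton _
      set H := ((P.mapSurjective hsurj : Sylow 5 (G ⧸ N)) : Subgroup (G ⧸ N)).comap f with hH
      have hPH : (P : Subgroup G) ≤ H := fun p hp => ⟨p, hp, rfl⟩
      by_cases hHtop : H = ⊤
      swap
      · exact hbig H (hnorm.comap f) hHtop
          (card_sylow_eq_five h21 hf P ▸ Subgroup.card_dvd_of_le hPH)
      have hPtop : (P : Subgroup G).map f = ⊤ := by
        rw [← Sylow.coe_mapSurjective hsurj, eq_top_iff]
        intro z _
        obtain ⟨g, rfl⟩ := hsurj z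
        exact (hHtop ▸ Subgroup.mem_top g : g ∈ H)
      have hq5 : Nat.card (G ⧸ N) = 5 := by
        have h2 : Nat.card (G ⧸ N) ∣ 5 := by
          rw [← card_sylow_eq_five h21 hf P, ← Subgroup.card_top, ← hPtop]
          exact Subgroup.card_map_dvd _ f
        rcases (Nat.dvd_prime (by norm_num : Nat.Prime 5)).1 h2 with h | h
        · exact absurd (Subgroup.index_eq_one.1 h) hNtop
        · exact h
      have : Fact (Nat.Prime 7) := ⟨by norm_num⟩
      set M := Subgroup.normalizer ((P : Subgroup G) : Set G) with hM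
      have hGM : Nat.card G = Nat.card M * 21 := by
        rw [← M.card_mul_index, show M.index = 21 from P.card_eq_index_normalizer.symm.trans h21]
      have hM7 : ¬ 7 ∣ Nat.card M := fun hd => by
        obtain ⟨z, hz⟩ := exists_prime_orderOf_dvd_card' 7 hd
        rw [← Subgroup.orderOf_coe] at hz
        exact normalizer_no_seven h21 hf P z.2 hz
      obtain ⟨S⟩ : Nonempty (Sylow 7 G) := Sylow.nonempty
      have hS : Nat.card ↥(S : Subgroup G) = 7 := by
        obtain ⟨k, hk⟩ := S.2.exists_card_eq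
        have h1 : 7 ∣ Nat.card ↥(S : Subgroup G) := S.dvd_card_of_dvd_card (by rw [hGM]; omega)
        have hd : Nat.card ↥(S : Subgroup G) ∣ Nat.card G := Subgroup.card_subgroup_dvd_card _
        rcases k with _ | _ | k
        · rw [hk] at h1; norm_num at h1
        · exact hk
        · exfalso
          have h2 : 7 * 7 ∣ Nat.card M * 3 * 7 := by
            rw [show Nat.card M * 3 * 7 = Nat.card G by rw [hGM]; ring]
            exact (show 7 * 7 ∣ 7 ^ (k + 2) from ⟨7 ^ k, by ring⟩).trans (hk ▸ hd)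
          have h3 := Nat.dvd_of_mul_dvd_mul_right (by norm_num) h2
          rcases (Nat.Prime.dvd_mul (by norm_num)).1 h3 with h | h
          · exact hM7 h
          · norm_num at h
      have hSN : (S : Subgroup G) ≤ N := fun z hz => by
        rw [← QuotientGroup.eq_one_iff]
        refine orderOf_eq_one_iff.1 (Nat.dvd_one.1 ?_)
        have d1 : orderOf (z : G ⧸ N) ∣ 7 :=
          (orderOf_map_dvd f z).trans (hS ▸ Subgroup.orderOf_dvd_natCard _ hz)
        have d2 : orderOf (z : G ⧸ N) ∣ 5 := hq5 ▸ orderOf_dvd_natCard _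
        exact Nat.dvd_gcd d1 d2
      set L := Subgroup.normalizer ((S : Subgroup G) : Set G) with hL
      have hLN : L ⊔ N = ⊤ := Sylow.normalizer_sup_eq_top' S hSN
      have h5L : 5 ∣ Nat.card L := by
        rw [← hq5, ← Subgroup.card_top, ← Subgroup.map_top_of_surjective f hsurj, ← hLN, Subgroup.map_sup,
          QuotientGroup.map_mk'_self, sup_bot_eq]
        exact Subgroup.card_map_dvd _ f
      obtain ⟨y, hy⟩ := exists_prime_orderOf_dvd_card' 5 h5L
      have hScyc : IsCyclic ↥(S : Subgroup G) := isCyclic_of_prime_card hS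
      have hy1 : (S : Subgroup G).normalizerMonoidHom y = 1 := by
        refine orderOf_eq_one_iff.1 (Nat.dvd_one.1 ?_)
        have d1 : orderOf ((S : Subgroup G).normalizerMonoidHom y) ∣ 5 := hy ▸ orderOf_map_dvd _ y
        have d2 : orderOf ((S : Subgroup G).normalizerMonoidHom y) ∣ 6 := by
          refine (orderOf_dvd_natCard _).trans ?_
          rw [IsCyclic.card_mulAut, hS, Nat.totient_prime (by norm_num)]
        exact Nat.dvd_gcd d1 d2
      rw [← MonoidHom.mem_ker, Subgroup.normalizerMonoidHom_ker, Subgroup.mem_subgroupOf] at hy1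
      rw [← Subgroup.orderOf_coe] at hy
      obtain ⟨P₀, hP₀⟩ := (IsPGroup.of_card (p := 5) (n := 1)
        (by rw [Nat.card_zpowers, hy, pow_one] : Nat.card (Subgroup.zpowers (y : G)) = 5 ^ 1)).exists_le_sylow
      obtain ⟨z, hz⟩ := exists_prime_orderOf_dvd_card' (G := ↥(S : Subgroup G)) 7 (by rw [hS])
      have hzfix : (z : G) • P₀ = P₀ := by
        refine fixed_eq h21 hf (hP₀ (Subgroup.mem_zpowers _)) (fun h => by
          rw [h, orderOf_one] at hy; norm_num at hy) ?_
        rw [← mul_smul, ← Subgroup.mem_centralizer_iff.1 hy1 z z.2, mul_smul,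
          Sylow.smul_eq_iff_mem_normalizer.2 (Subgroup.le_normalizer (hP₀ (Subgroup.mem_zpowers _)))]
      exact normalizer_no_seven h21 hf P₀ (Sylow.smul_eq_iff_mem_normalizer.1 hzfix)
        (by rw [Subgroup.orderOf_coe, hz])
    · have hbij : Function.Bijective (Sylow.mapSurjective hsurj : Sylow 5 G → Sylow 5 (G ⧸ N)) :=
        (Nat.bijective_iff_surjective_and_card _).2 ⟨hsurjS, by rw [h21, h1]⟩
      refine hNbot ((Subgroup.eq_bot_iff_forall N).2 fun g hg => hf g fun Q => hbij.1 ?_)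
      refine Sylow.ext ?_
      rw [Sylow.coe_mapSurjective, Sylow.coe_mapSurjective, Sylow.coe_subgroup_smul]
      have hfg : f g = 1 := (QuotientGroup.eq_one_iff g).2 hg
      have hcomp : (f.comp (MulDistribMulAction.toMonoidEnd (MulAut G) G (MulAut.conj g)) : G →* G ⧸ N) = f := by
        refine MonoidHom.ext fun p => ?_
        change f (g * p * g⁻¹) = f p
        rw [map_mul, map_mul, map_inv, hfg, one_mul, inv_one, mul_one]
      rw [Subgroup.pointwise_smul_def]
      exact (Subgroup.map_map _ _ _).trans (congrArg (Subgroup.map · (Q : Subgroup G)) hcomp)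
  exact not_isSimpleGroup h21 hf

end Cfsg.Lib.Small.TwentyOne
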